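import Cfsg.Agent.Lib.LieTwisted.SuzukiBruhat

/-!
Structure of the Suzuki group `Cfsg.Sz F m`: elements `uS`, `dS`, `wS`, order, point stabilisers,
Sylow 2-subgroup, perfectness, simplicity, two generators.
-/

set_option autoImplicit false
set_option linter.unusedSectionVars false
set_option linter.style.haveILetI false
set_option maxHeartbeats 800000

namespace Cfsg.Agent.Lib.LieTwisted.Suzuki

open Matrix
open scoped Pointwise

variable {F : Type*} [Field F] [Fintype F] {m : ℕ}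

/-- The matrix of an element of the Suzuki group. -/
def mat (g : Cfsg.Sz F m) : Matrix (Fin 4) (Fin 4) F :=
  ((g : Matrix.SpecialLinearGroup (Fin 4) F) : Matrix (Fin 4) (Fin 4) F)

lemma mat_injective : Function.Injective (mat (F := F) (m := m)) := fun _ _ h =>
  Subtype.ext (Subtype.ext h)

lemma mat_mul (g k : Cfsg.Sz F m) : mat (g * k) = mat g * mat k := rfl

lemma mat_one : mat (1 : Cfsg.Sz F m) = 1 := rfl

/-- The vector of a point of the ovoid. -/
def ovVec (m : ℕ) : Option (F × F) → (Fin 4 → F)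
  | none => inf0 F
  | some p => pt m p.1 p.2

/-- The points of the ovoid in projective space. -/
def opt (m : ℕ) (p : Option (F × F)) : Projectivization F (Fin 4 → F) :=
  ((ovPt m p : Cfsg.suzukiOvoid F m) : Projectivization F (Fin 4 → F))

lemma opt_injective : Function.Injective (opt (F := F) m) :=
  Subtype.val_injective.comp (ovPt_bijective m).1

lemma ovVec_ne (p : Option (F × F)) : ovVec m p ≠ 0 := by
  rcases p with _ | p
  · exact inf0_ne
  · exact pt_ne m _ _

lemma opt_eq_mk (p : Option (F × F)) : opt m p = Projectivization.mk F (ovVec m p) (ovVec_ne p) := by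
  cases p <;> rfl

lemma opt_none : opt m (none : Option (F × F)) = Cfsg.suzukiPointInfinity F := rfl

lemma opt_zero : opt m (some ((0 : F), (0 : F))) = Cfsg.suzukiPointZero F := by
  rw [opt_eq_mk]
  simp [ovVec, pt, zfun, sg_zero, Cfsg.suzukiPointZero]

lemma smul_opt_of (g : Cfsg.Sz F m) {p q : Option (F × F)} (c : F)
    (hg : mat g *ᵥ ovVec m p = c • ovVec m q) : g • opt m p = opt m q := by
  rw [opt_eq_mk, opt_eq_mk, Subgroup.smul_def, Projectivization.smul_mk]
  exact (Projectivization.mk_eq_mk_iff' F _ _ _ _).2 ⟨c, hg.symm⟩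

variable (h : IsSzField F m)

/-- The elements of the root group. -/
def uS (a b : F) : Cfsg.Sz F m :=
  ⟨⟨utMat m a b, h.det_of_isSzMat (h.isSzMat_utMat a b)⟩, (h.mem_Sz_iff_preserves _).2 (h.preserves_utMat a b)⟩

/-- The torus. -/
def dS : Fˣ →* Cfsg.Sz F m where
  toFun e := ⟨⟨dgMat m (e : F), h.det_of_isSzMat (h.isSzMat_dgMat e.ne_zero)⟩,
    (h.mem_Sz_iff_preserves _).2 (h.preserves_dgMat e.ne_zero)⟩
  map_one' := mat_injective (by
    show dgMat m ((1 : Fˣ) : F) = 1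
    ext i j
    fin_cases i <;> fin_cases j <;> simp [dgMat, sg_one])
  map_mul' e f := mat_injective (by
    show dgMat m ((e * f : Fˣ) : F) = dgMat m (e : F) * dgMat m (f : F)
    simp only [dgMat, Matrix.diagonal_mul_diagonal, Units.val_mul, sg_mul]
    congr 1
    funext i
    fin_cases i <;> simp [mul_inv] <;> ring)

/-- The Weyl element. -/
def wS : Cfsg.Sz F m :=
  ⟨⟨wMat F, h.det_of_isSzMat h.isSzMat_wMat⟩, (h.mem_Sz_iff_preserves _).2 h.preserves_wMat⟩

namespace IsSzField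

include h

lemma mat_uS (a b : F) : mat (uS h a b) = utMat m a b := rfl

lemma mat_dS (e : Fˣ) : mat (dS h e) = dgMat m (e : F) := rfl

lemma mat_wS : mat (wS h) = wMat F := rfl

lemma uS_mul (a b c d : F) : uS h a b * uS h c d = uS h (a + c) (b + d + sg m a * c) :=
  mat_injective (h.utMat_mul a b c d)

lemma uS_zero : uS h 0 0 = 1 := mat_injective (utMat_zero m)

lemma uS_inv (a b : F) : (uS h a b)⁻¹ = uS h a (b + sg m a * a) :=
  inv_eq_of_mul_eq_one_right (mat_injective (h.utMat_mul_inv a b))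

lemma wS_mul_self : wS h * wS h = 1 := mat_injective wMat_mul_self

lemma wS_inv : (wS h)⁻¹ = wS h := inv_eq_of_mul_eq_one_right h.wS_mul_self

lemma dS_mul_uS (e : Fˣ) (a b : F) :
    dS h e * uS h a b = uS h (sg m (e : F) * a) (sg m (e : F) * (e : F) ^ 2 * b) * dS h e := by
  apply mat_injective
  have he : (e : F) ≠ 0 := e.ne_zero
  have hse : sg m (e : F) ≠ 0 := mt sg_eq_zero.1 he
  ext i j
  fin_cases i <;> fin_cases j <;>
    simp [mat_mul, h.mat_uS, h.mat_dS, dgMat, utMat, zfun, sg_mul, sg_pow, h.sg_sg, Matrix.mul_apply,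
      Fin.sum_univ_four] <;>
    field_simp <;> ring

lemma uS_mul_dS (e : Fˣ) (a b : F) :
    uS h a b * dS h e =
      dS h e * uS h (sg m ((e⁻¹ : Fˣ) : F) * a) (sg m ((e⁻¹ : Fˣ) : F) * ((e⁻¹ : Fˣ) : F) ^ 2 * b) := by
  rw [h.dS_mul_uS]
  have he : (e : F) ≠ 0 := e.ne_zero
  have hse : sg m (e : F) ≠ 0 := mt sg_eq_zero.1 he
  congr 2 <;> simp only [Units.val_inv_eq_inv_val, sg_inv] <;> field_simp

lemma wS_mul_dS (e : Fˣ) : wS h * dS h e = dS h e⁻¹ * wS h := by
  apply mat_injective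
  ext i j
  fin_cases i <;> fin_cases j <;>
    simp [mat_mul, h.mat_wS, h.mat_dS, dgMat, wMat, sg_inv, Matrix.mul_apply, Fin.sum_univ_four, mul_comm, -map_inv]

lemma sg_mul_self_inj {a b : F} (hab : sg m a * a = sg m b * b) : a = b := by
  by_cases hb : b = 0
  · subst hb
    simpa [sg_zero, sg_eq_zero] using hab
  have hr : sg m (a / b) * (a / b) = 1 := by
    have hsb : sg m b ≠ 0 := mt sg_eq_zero.1 hb
    rw [div_eq_mul_inv, sg_mul, sg_inv]
    field_simp
    linear_combination hab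
  have h2 := congrArg (sg m) hr
  rw [sg_mul, h.sg_sg, sg_one] at h2
  have h3 : a / b = 1 := by linear_combination h2 - (a / b) * hr
  exact (div_eq_one_iff_eq hb).1 h3

lemma sg_mul_self_surj (c : F) : ∃ a : F, sg m a * a = c :=
  Finite.surjective_of_injective (fun _ _ => h.sg_mul_self_inj) c

lemma sg_injective : Function.Injective (sg (F := F) m) := by
  intro a b hab
  haveI := h.charTwo
  refine CharTwo.sq_injective ?_
  show a ^ 2 = b ^ 2
  rw [← h.sg_sg, ← h.sg_sg, hab]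

lemma sg_surjective (c : F) : ∃ a : F, sg m a = c := Finite.surjective_of_injective h.sg_injective c

lemma two_lt_card (hm : 1 ≤ m) : 2 < Fintype.card F := by
  rw [h.card]
  calc 2 < 2 ^ 2 := by norm_num
    _ ≤ 2 ^ (2 * m + 1) := Nat.pow_le_pow_right (by norm_num) (by omega)

lemma exists_ne01 (hm : 1 ≤ m) : ∃ t : F, t ≠ 0 ∧ t ≠ 1 := by
  classical
  obtain ⟨t, -, ht⟩ := Finset.exists_mem_notMem_of_card_lt_card (s := ({0, 1} : Finset F)) (t := Finset.univ)
    (lt_of_le_of_lt (Finset.card_le_two) (by simpa using h.two_lt_card hm))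
  simp only [Finset.mem_insert, Finset.mem_singleton, not_or] at ht
  exact ⟨t, ht⟩

lemma sg_ne_self {t : F} (h0 : t ≠ 0) (h1 : t ≠ 1) : sg m t ≠ t := by
  intro ht
  have h2 := h.sg_sg t
  rw [ht, ht] at h2
  apply h1
  have : t * (t - 1) = 0 := by linear_combination -h2
  exact sub_eq_zero.1 ((mul_eq_zero.1 this).resolve_left h0)

/-! ### Action on points -/

lemma uS_smul_none (a b : F) : uS h a b • opt m (none : Option (F × F)) = opt m none :=
  smul_opt_of _ 1 (by rw [h.mat_uS, one_smul]; exact utMat_inf0 a b)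

lemma uS_smul_some (a b x y : F) :
    uS h a b • opt m (some (x, y)) = opt m (some (a + x, b + y + sg m a * x)) :=
  smul_opt_of _ 1 (by rw [h.mat_uS, one_smul]; exact h.utMat_pt a b x y)

lemma uS_smul_zero (a b : F) : uS h a b • opt m (some ((0 : F), (0 : F))) = opt m (some (a, b)) := by
  simp [h.uS_smul_some]

lemma dS_smul_none (e : Fˣ) : dS h e • opt m (none : Option (F × F)) = opt m none :=
  smul_opt_of _ (sg m (e : F) * e) (by rw [h.mat_dS]; exact dgMat_inf0 m (e : F))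

lemma dS_smul_some (e : Fˣ) (x y : F) :
    dS h e • opt m (some (x, y)) = opt m (some (sg m (e : F) * x, sg m (e : F) * (e : F) ^ 2 * y)) :=
  smul_opt_of _ (sg m (e : F) * e)⁻¹ (by rw [h.mat_dS]; exact h.dgMat_pt e.ne_zero x y)

lemma dS_smul_zero (e : Fˣ) : dS h e • opt m (some ((0 : F), (0 : F))) = opt m (some (0, 0)) := by
  simp [h.dS_smul_some]

lemma wS_smul_none : wS h • opt m (none : Option (F × F)) = opt m (some (0, 0)) :=
  smul_opt_of _ 1 (by rw [h.mat_wS, one_smul]; exact h.wMat_inf0)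

lemma wS_smul_zero : wS h • opt m (some ((0 : F), (0 : F))) = opt m none :=
  smul_opt_of _ 1 (by rw [h.mat_wS, one_smul]; exact h.wMat_pt_zero)

lemma dS_injective : Function.Injective (dS h) := by
  intro e f hef
  have h2 := congrFun (congrFun (congrArg mat hef) 1) 1
  simp [h.mat_dS, dgMat] at h2
  exact Units.ext h2

/-- The big cell. -/
lemma cell_smul_none (x y a b : F) (e : Fˣ) :
    (uS h x y * wS h * (uS h a b * dS h e)) • opt m (none : Option (F × F)) = opt m (some (x, y)) := by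
  simp [mul_smul, h.dS_smul_none, h.uS_smul_none, h.wS_smul_none, h.uS_smul_zero]

lemma bruhat (hm : 1 ≤ m) (g : Cfsg.Sz F m) :
    ∃ a b e, g = uS h a b * dS h e ∨ ∃ x y, g = uS h x y * wS h * (uS h a b * dS h e) := by
  obtain ⟨a, b, e, he, hg | ⟨x, y, hg⟩⟩ := (h.mem_Sz_iff hm _).1 g.2
  · exact ⟨a, b, Units.mk0 e he, Or.inl (mat_injective hg)⟩
  · exact ⟨a, b, Units.mk0 e he, Or.inr ⟨x, y, mat_injective hg⟩⟩

lemma exists_opt_eq_smul (hm : 1 ≤ m) (g : Cfsg.Sz F m) :
    ∃ p, g • opt m (none : Option (F × F)) = opt m p := by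
  obtain ⟨a, b, e, rfl | ⟨x, y, rfl⟩⟩ := h.bruhat hm g
  · exact ⟨none, by rw [mul_smul, h.dS_smul_none, h.uS_smul_none]⟩
  · exact ⟨_, h.cell_smul_none x y a b e⟩

lemma eq_of_fix_none (hm : 1 ≤ m) {g : Cfsg.Sz F m}
    (hg : g • opt m (none : Option (F × F)) = opt m none) : ∃ a b e, g = uS h a b * dS h e := by
  obtain ⟨a, b, e, hg' | ⟨x, y, rfl⟩⟩ := h.bruhat hm g
  · exact ⟨a, b, e, hg'⟩
  · rw [h.cell_smul_none] at hg
    exact absurd (opt_injective hg) (by simp)

lemma eq_of_fix_two (hm : 1 ≤ m) {g : Cfsg.Sz F m}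
    (hg : g • opt m (none : Option (F × F)) = opt m none)
    (hg0 : g • opt m (some ((0 : F), (0 : F))) = opt m (some (0, 0))) : ∃ e, g = dS h e := by
  obtain ⟨a, b, e, rfl⟩ := h.eq_of_fix_none hm hg
  rw [mul_smul, h.dS_smul_zero, h.uS_smul_zero] at hg0
  obtain ⟨rfl, rfl⟩ := Prod.ext_iff.1 (Option.some.inj (opt_injective hg0))
  exact ⟨e, by rw [h.uS_zero, one_mul]⟩

lemma stabilizer_two (hm : 1 ≤ m) :
    MulAction.stabilizer (Cfsg.Sz F m) (Cfsg.suzukiPointInfinity F) ⊓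
      MulAction.stabilizer (Cfsg.Sz F m) (Cfsg.suzukiPointZero F) = (dS h).range := by
  ext g
  rw [← opt_none (m := m), ← opt_zero (m := m)]
  simp only [Subgroup.mem_inf, MulAction.mem_stabilizer_iff, MonoidHom.mem_range]
  constructor
  · rintro ⟨h1, h2⟩
    obtain ⟨e, he⟩ := h.eq_of_fix_two hm h1 h2
    exact ⟨e, he.symm⟩
  · rintro ⟨e, rfl⟩
    exact ⟨h.dS_smul_none e, h.dS_smul_zero e⟩

lemma borel_coords_inj {a b a' b' : F} {e e' : Fˣ} (heq : uS h a b * dS h e = uS h a' b' * dS h e') :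
    a = a' ∧ b = b' ∧ e = e' := by
  have h2 := congrArg (fun g => g • opt m (some ((0 : F), (0 : F)))) heq
  simp only [mul_smul, h.dS_smul_zero, h.uS_smul_zero] at h2
  obtain ⟨rfl, rfl⟩ := Prod.ext_iff.1 (Option.some.inj (opt_injective h2))
  exact ⟨rfl, rfl, h.dS_injective (mul_left_cancel heq)⟩

lemma card_stabilizer (hm : 1 ≤ m) :
    Nat.card (MulAction.stabilizer (Cfsg.Sz F m) (Cfsg.suzukiPointInfinity F)) =
      Fintype.card F ^ 2 * (Fintype.card F - 1) := by
  let f : (F × F) × Fˣ → MulAction.stabilizer (Cfsg.Sz F m) (Cfsg.suzukiPointInfinity F) := fun p =>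
    ⟨uS h p.1.1 p.1.2 * dS h p.2, by
      rw [← opt_none (m := m), MulAction.mem_stabilizer_iff, mul_smul, h.dS_smul_none, h.uS_smul_none]⟩
  have hf : Function.Bijective f := by
    constructor
    · rintro ⟨⟨a, b⟩, e⟩ ⟨⟨a', b'⟩, e'⟩ heq
      obtain ⟨rfl, rfl, rfl⟩ := h.borel_coords_inj (congrArg Subtype.val heq)
      rfl
    · rintro ⟨g, hg⟩
      rw [← opt_none (m := m)] at hg
      obtain ⟨a, b, e, rfl⟩ := h.eq_of_fix_none hm hg
      exact ⟨⟨(a, b), e⟩, rfl⟩
  classical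
  rw [← Nat.card_eq_of_bijective f hf, Nat.card_eq_fintype_card, Fintype.card_prod, Fintype.card_prod,
    Fintype.card_units, sq]

lemma card_group (hm : 1 ≤ m) :
    Nat.card (Cfsg.Sz F m) =
      Fintype.card F ^ 2 * (Fintype.card F ^ 2 + 1) * (Fintype.card F - 1) := by
  let f : Option (F × F) × (F × F) × Fˣ → Cfsg.Sz F m := fun p =>
    (p.1.elim 1 fun q => uS h q.1 q.2 * wS h) * (uS h p.2.1.1 p.2.1.2 * dS h p.2.2)
  have key : ∀ p, f p • opt m (none : Option (F × F)) = opt m p.1 := by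
    rintro ⟨_ | ⟨x, y⟩, ⟨a, b⟩, e⟩
    · simp [f, mul_smul, h.dS_smul_none, h.uS_smul_none]
    · simpa [f] using h.cell_smul_none x y a b e
  have hf : Function.Bijective f := by
    constructor
    · intro p p' heq
      have h1 : p.1 = p'.1 := opt_injective (by rw [← key p, ← key p', heq])
      obtain ⟨o, ⟨a, b⟩, e⟩ := p
      obtain ⟨o', ⟨a', b'⟩, e'⟩ := p'
      dsimp only at h1
      subst h1
      obtain ⟨rfl, rfl, rfl⟩ := h.borel_coords_inj (mul_left_cancel heq)
      rfl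
    · intro g
      obtain ⟨a, b, e, rfl | ⟨x, y, rfl⟩⟩ := h.bruhat hm g
      · exact ⟨⟨none, (a, b), e⟩, by simp [f]⟩
      · exact ⟨⟨some (x, y), (a, b), e⟩, by simp [f]⟩
  classical
  rw [← Nat.card_eq_of_bijective f hf, Nat.card_eq_fintype_card]
  simp only [Fintype.card_prod, Fintype.card_option, Fintype.card_units]
  ring

end IsSzField

/-- The root group. -/
def unip : Subgroup (Cfsg.Sz F m) where
  carrier := {g | ∃ a b, g = uS h a b}
  one_mem' := ⟨0, 0, h.uS_zero.symm⟩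
  mul_mem' := by rintro _ _ ⟨a, b, rfl⟩ ⟨c, d, rfl⟩; exact ⟨_, _, h.uS_mul a b c d⟩
  inv_mem' := by rintro _ ⟨a, b, rfl⟩; exact ⟨_, _, h.uS_inv a b⟩

/-- The centre of the root group. -/
def unipCenter : Subgroup (Cfsg.Sz F m) where
  carrier := {g | ∃ b, g = uS h 0 b}
  one_mem' := ⟨0, h.uS_zero.symm⟩
  mul_mem' := by rintro _ _ ⟨b, rfl⟩ ⟨d, rfl⟩; exact ⟨b + d, by simp [h.uS_mul, sg_zero]⟩
  inv_mem' := by rintro _ ⟨b, rfl⟩; exact ⟨b, by simp [h.uS_inv, sg_zero]⟩

namespace IsSzField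

include h

lemma uS_mem (a b : F) : uS h a b ∈ unip h := ⟨a, b, rfl⟩

lemma uS_coords_inj {a b a' b' : F} (heq : uS h a b = uS h a' b') : a = a' ∧ b = b' := by
  obtain ⟨h1, h2, -⟩ := h.borel_coords_inj (a := a) (b := b) (a' := a') (b' := b') (e := 1) (e' := 1) (by rw [heq])
  exact ⟨h1, h2⟩

lemma card_unip : Nat.card (unip h) = Fintype.card F ^ 2 := by
  let f : F × F → unip h := fun p => ⟨uS h p.1 p.2, h.uS_mem _ _⟩
  have hf : Function.Bijective f := by
    constructor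
    · rintro ⟨a, b⟩ ⟨a', b'⟩ heq
      obtain ⟨rfl, rfl⟩ := h.uS_coords_inj (congrArg Subtype.val heq)
      rfl
    · rintro ⟨g, a, b, rfl⟩
      exact ⟨(a, b), rfl⟩
  classical
  rw [← Nat.card_eq_of_bijective f hf, Nat.card_eq_fintype_card, Fintype.card_prod, sq]

lemma card_pos_facts (hm : 1 ≤ m) :
    (unip h).index = (Fintype.card F ^ 2 + 1) * (Fintype.card F - 1) := by
  have h1 := (unip h).card_mul_index
  rw [h.card_unip, h.card_group hm] at h1
  refine mul_left_cancel₀ (pow_ne_zero 2 (Fintype.card_ne_zero (α := F))) ?_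
  rw [h1]; ring

lemma index_odd (hm : 1 ≤ m) : ¬ 2 ∣ (unip h).index := by
  rw [h.card_pos_facts hm, h.card]
  have hpos : 1 ≤ 2 ^ (2 * m) := Nat.one_le_two_pow
  rw [pow_succ 2 (2 * m)]
  intro hd
  rcases (Nat.prime_two.dvd_mul).1 hd with h2 | h2
  · have : 2 ∣ (2 ^ (2 * m) * 2) ^ 2 := Dvd.dvd.pow (Dvd.intro_left _ rfl) two_ne_zero
    omega
  · omega

/-- The Sylow 2-subgroup `U`. -/
lemma exists_sylow (hm : 1 ≤ m) : ∃ S : Sylow 2 (Cfsg.Sz F m), (S : Subgroup (Cfsg.Sz F m)) = unip h := by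
  haveI : Fact (Nat.Prime 2) := ⟨Nat.prime_two⟩
  have hp : IsPGroup 2 (unip h) := IsPGroup.of_card (n := (2 * m + 1) * 2) (by rw [h.card_unip, h.card, pow_mul])
  exact ⟨hp.toSylow (h.index_odd hm), rfl⟩

lemma uS_comm (a b c d : F) :
    uS h a b * uS h c d = uS h 0 (sg m a * c + sg m c * a) * (uS h c d * uS h a b) := by
  simp only [h.uS_mul, zero_add, add_comm c a]
  congr 1
  rw [sg_zero]
  linear_combination -(sg m c * a) * h.two0

lemma uS_center_comm (b a d : F) : uS h 0 b * uS h a d = uS h a d * uS h 0 b := by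
  simp only [h.uS_mul, sg_zero, zero_mul, mul_zero, add_zero, zero_add, add_comm b d]

open scoped commutatorElement

lemma commElem_uS (a b c d : F) : ⁅uS h a b, uS h c d⁆ = uS h 0 (sg m a * c + sg m c * a) := by
  rw [commutatorElement_def, h.uS_comm]
  group

lemma uS_zero_is_comm (hm : 1 ≤ m) (c : F) : ∃ a a' : F, uS h 0 c = ⁅uS h a 0, uS h a' 0⁆ := by
  obtain ⟨t, ht0, ht1⟩ := h.exists_ne01 hm
  have hne : t + sg m t ≠ 0 := fun hz => h.sg_ne_self ht0 ht1 (by linear_combination hz - t * h.two0)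
  obtain ⟨a, ha⟩ := h.sg_mul_self_surj (c / (t + sg m t))
  refine ⟨a, a * t, ?_⟩
  rw [h.commElem_uS]
  congr 1
  rw [sg_mul]
  field_simp at ha
  linear_combination -ha

lemma commutator_unip_le : ⁅unip h, unip h⁆ ≤ unipCenter h := by
  rw [Subgroup.commutator_le]
  rintro _ ⟨a, b, rfl⟩ _ ⟨c, d, rfl⟩
  exact ⟨_, h.commElem_uS a b c d⟩

lemma unipCenter_le_commutator (hm : 1 ≤ m) : unipCenter h ≤ ⁅unip h, unip h⁆ := by
  rintro _ ⟨c, rfl⟩
  obtain ⟨a, a', hc⟩ := h.uS_zero_is_comm hm c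
  rw [hc]
  exact Subgroup.commutator_mem_commutator (h.uS_mem _ _) (h.uS_mem _ _)

lemma center_unip (hm : 1 ≤ m) : Subgroup.center (unip h) = (unipCenter h).subgroupOf (unip h) := by
  ext ⟨g, a, b, rfl⟩
  rw [Subgroup.mem_center_iff, Subgroup.mem_subgroupOf]
  constructor
  · intro hc
    refine ⟨b, ?_⟩
    obtain ⟨t, ht0, ht1⟩ := h.exists_ne01 hm
    by_contra hne
    have ha : a ≠ 0 := fun ha => hne (by rw [ha])
    have h2 := congrArg Subtype.val (hc ⟨uS h (a * t) 0, h.uS_mem _ _⟩)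
    simp only [Subgroup.coe_mul, h.uS_mul] at h2
    have h3 := (h.uS_coords_inj h2).2
    rw [sg_mul] at h3
    have hsa : sg m a ≠ 0 := mt sg_eq_zero.1 ha
    refine h.sg_ne_self ht0 ht1 (mul_left_cancel₀ (mul_ne_zero hsa ha) ?_)
    linear_combination h3
  · rintro ⟨c, hc⟩ ⟨x, a', b', rfl⟩
    apply Subtype.ext
    show uS h a' b' * uS h a b = uS h a b * uS h a' b'
    simp only at hc
    rw [hc, h.uS_center_comm]

lemma commutator_unip (hm : 1 ≤ m) : commutator (unip h) = Subgroup.center (unip h) := by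
  apply Subgroup.map_injective (unip h).subtype_injective
  rw [map_commutator_eq, Subgroup.range_subtype, h.center_unip hm, Subgroup.subgroupOf_map_subtype,
    inf_eq_left.2]
  · exact le_antisymm h.commutator_unip_le (h.unipCenter_le_commutator hm)
  · rintro _ ⟨c, rfl⟩
    exact h.uS_mem 0 c

lemma card_center_unip (hm : 1 ≤ m) : Nat.card (Subgroup.center (unip h)) = Fintype.card F := by
  rw [h.center_unip hm]
  let f : F → (unipCenter h).subgroupOf (unip h) := fun b =>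
    ⟨⟨uS h 0 b, h.uS_mem 0 b⟩, ⟨b, rfl⟩⟩
  have hf : Function.Bijective f := by
    constructor
    · intro b b' heq
      exact (h.uS_coords_inj (congrArg (fun x : (unipCenter h).subgroupOf (unip h) => ((x : unip h) : Cfsg.Sz F m)) heq)).2
    · rintro ⟨⟨g, hg⟩, c, hc⟩
      exact ⟨c, Subtype.ext (Subtype.ext hc.symm)⟩
  rw [← Nat.card_eq_of_bijective f hf, Nat.card_eq_fintype_card]

lemma uS_sq (a b : F) : uS h a b ^ 2 = uS h 0 (sg m a * a) := by
  rw [sq, h.uS_mul]
  congr 1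
  · exact h.add_self a
  · linear_combination b * h.two0

lemma exponent_unip : Monoid.exponent (unip h) = 4 := by
  have h4 : ∀ g : unip h, g ^ 4 = 1 := by
    rintro ⟨g, a, b, rfl⟩
    apply Subtype.ext
    show uS h a b ^ 4 = 1
    calc uS h a b ^ 4 = (uS h a b ^ 2) ^ 2 := by rw [← pow_mul]
      _ = 1 := by rw [h.uS_sq, h.uS_sq]; simp [h.uS_zero, sg_zero]
  have hd : Monoid.exponent (unip h) ∣ 4 := Monoid.exponent_dvd_of_forall_pow_eq_one h4
  have hne : ¬ Monoid.exponent (unip h) ∣ 2 := by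
    intro h2
    have h3 := (Monoid.exponent_dvd_iff_forall_pow_eq_one.1 h2) ⟨uS h 1 0, h.uS_mem 1 0⟩
    have h5 : uS h (1 : F) 0 ^ 2 = 1 := congrArg Subtype.val h3
    rw [h.uS_sq, ← h.uS_zero] at h5
    simpa [sg_one] using (h.uS_coords_inj h5).2
  have := Nat.le_of_dvd (by norm_num) hd
  interval_cases hh : Monoid.exponent (unip h) <;> simp_all

lemma uS_fixed_point {p : Option (F × F)} (hp : uS h 1 0 • opt m p = opt m p) : p = none := by
  rcases p with _ | ⟨x, y⟩
  · rfl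
  · rw [h.uS_smul_some] at hp
    have := (Prod.ext_iff.1 (Option.some.inj (opt_injective hp))).1
    simp at this

lemma normalizer_unip (hm : 1 ≤ m) :
    Subgroup.normalizer (unip h : Set (Cfsg.Sz F m)) =
      MulAction.stabilizer (Cfsg.Sz F m) (Cfsg.suzukiPointInfinity F) := by
  ext g
  rw [← opt_none (m := m), MulAction.mem_stabilizer_iff]
  constructor
  · intro hg
    obtain ⟨p, hp⟩ := h.exists_opt_eq_smul hm g
    have h1 : g⁻¹ * uS h 1 0 * g ∈ unip h := (Subgroup.mem_normalizer_iff''.1 hg _).1 (h.uS_mem 1 0)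
    obtain ⟨a, b, hab⟩ := h1
    have h2 : uS h 1 0 • opt m p = opt m p := by
      rw [← hp, ← mul_smul, show uS h 1 0 * g = g * (g⁻¹ * uS h 1 0 * g) by group, hab, mul_smul, h.uS_smul_none]
    rw [hp, h.uS_fixed_point h2]
  · intro hg
    obtain ⟨a, b, e, rfl⟩ := h.eq_of_fix_none hm hg
    refine mul_mem (Subgroup.le_normalizer (h.uS_mem a b)) ?_
    have key : ∀ (f : Fˣ) (x : Cfsg.Sz F m), x ∈ unip h → dS h f * x * (dS h f)⁻¹ ∈ unip h := by
      rintro f _ ⟨c, d, rfl⟩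
      rw [h.dS_mul_uS, mul_inv_cancel_right]
      exact h.uS_mem _ _
    rw [Subgroup.mem_normalizer_iff]
    refine fun x => ⟨key e x, fun hx => ?_⟩
    have := key e⁻¹ _ hx
    rwa [map_inv, inv_inv, show (dS h e)⁻¹ * (dS h e * x * (dS h e)⁻¹) * dS h e = x by group] at this

lemma eq_top_of_unips (hm : 1 ≤ m) {M : Subgroup (Cfsg.Sz F m)} (hU : ∀ a b, uS h a b ∈ M)
    (hV : ∀ a b, wS h * uS h a b * wS h ∈ M) : M = ⊤ := by
  have hwd : ∀ e : Fˣ, wS h * dS h e ∈ M := by
    intro e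
    obtain ⟨b, hb⟩ := h.sg_surjective (sg m (e : F) * e)
    have hb0 : b ≠ 0 := by
      rintro rfl
      rw [sg_zero] at hb
      exact (mul_ne_zero (mt sg_eq_zero.1 e.ne_zero) e.ne_zero) hb.symm
    have hm30 : mat (wS h * uS h 0 b * wS h) 3 0 = sg m (e : F) * e := by
      simp [mat_mul, h.mat_wS, h.mat_uS, wMat, utMat, zfun, sg_zero, Matrix.mul_apply, Fin.sum_univ_four, hb]
    obtain ⟨a', b', f, heq | ⟨x, y, heq⟩⟩ := h.bruhat hm (wS h * uS h 0 b * wS h)
    · exfalso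
      rw [heq] at hm30
      simp [mat_mul, h.mat_dS, h.mat_uS, dgMat, utMat, Matrix.mul_apply, Fin.sum_univ_four, sg_eq_zero] at hm30
    · have hf : f = e := by
        rw [heq] at hm30
        simp [mat_mul, h.mat_wS, h.mat_uS, h.mat_dS, wMat, dgMat, utMat, Matrix.mul_apply, Matrix.vecMul, dotProduct, Matrix.diagonal, Matrix.vecHead, Matrix.vecTail, Fin.sum_univ_four] at hm30
        exact Units.ext (h.sg_mul_self_inj hm30)
      subst hf
      have h1 : wS h * (uS h a' b' * dS h f) ∈ M := by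
        have := mul_mem (inv_mem (hU x y)) (hV 0 b)
        rw [heq] at this
        rwa [show (uS h x y)⁻¹ * (uS h x y * wS h * (uS h a' b' * dS h f)) = wS h * (uS h a' b' * dS h f) by group] at this
      have h2 : (wS h * uS h a' b' * wS h)⁻¹ * (wS h * (uS h a' b' * dS h f)) = wS h * dS h f := by
        rw [_root_.mul_inv_rev, _root_.mul_inv_rev, h.wS_inv]
        simp only [mul_assoc]
        rw [← mul_assoc (wS h) (wS h) (uS h a' b' * dS h f), h.wS_mul_self, one_mul, inv_mul_cancel_left]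
      rw [← h2]
      exact mul_mem (inv_mem (hV a' b')) h1
  have hw : wS h ∈ M := by simpa using hwd 1
  have hd : ∀ e, dS h e ∈ M := fun e => by
    have := mul_mem hw (hwd e)
    rwa [← mul_assoc, h.wS_mul_self, one_mul] at this
  rw [eq_top_iff]
  rintro g -
  obtain ⟨a, b, e, rfl | ⟨x, y, rfl⟩⟩ := h.bruhat hm g
  · exact mul_mem (hU a b) (hd e)
  · exact mul_mem (mul_mem (hU x y) hw) (mul_mem (hU a b) (hd e))

lemma eq_top_of_unip_le (hm : 1 ≤ m) {M : Subgroup (Cfsg.Sz F m)} (hU : unip h ≤ M)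
    {g : Cfsg.Sz F m} (hg : g ∈ M) (hgn : g • opt m (none : Option (F × F)) ≠ opt m none) : M = ⊤ := by
  obtain ⟨a, b, e, rfl | ⟨x, y, rfl⟩⟩ := h.bruhat hm g
  · exact absurd (by rw [mul_smul, h.dS_smul_none, h.uS_smul_none]) hgn
  have hu : ∀ a b, uS h a b ∈ M := fun a b => hU (h.uS_mem a b)
  refine h.eq_top_of_unips hm hu fun c d => ?_
  set a' := sg m ((e⁻¹ : Fˣ) : F) * a
  set b' := sg m ((e⁻¹ : Fˣ) : F) * ((e⁻¹ : Fˣ) : F) ^ 2 * b
  have hmv : uS h a b * dS h e = dS h e * uS h a' b' := h.uS_mul_dS e a b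
  have hwd : wS h * dS h e ∈ M := by
    have := mul_mem (mul_mem (inv_mem (hu x y)) hg) (inv_mem (hu a' b'))
    rw [hmv] at this
    rwa [show (uS h x y)⁻¹ * (uS h x y * wS h * (dS h e * uS h a' b')) * (uS h a' b')⁻¹ = wS h * dS h e by group] at this
  set c' := sg m ((e⁻¹ : Fˣ) : F) * c
  set d' := sg m ((e⁻¹ : Fˣ) : F) * ((e⁻¹ : Fˣ) : F) ^ 2 * d
  have hcd : dS h e * uS h c' d' = uS h c d * dS h e := (h.uS_mul_dS e c d).symm
  have := mul_mem (mul_mem hwd (hu c' d')) (inv_mem hwd)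
  rwa [mul_assoc (wS h), hcd, _root_.mul_inv_rev, h.wS_inv,
    show wS h * (uS h c d * dS h e) * ((dS h e)⁻¹ * wS h) = wS h * uS h c d * wS h by group] at this

lemma uS_mem_commutator (hm : 1 ≤ m) (a b : F) : uS h a b ∈ commutator (Cfsg.Sz F m) := by
  have hz : ∀ c, uS h 0 c ∈ commutator (Cfsg.Sz F m) := fun c => by
    obtain ⟨x, y, hxy⟩ := h.uS_zero_is_comm hm c
    rw [hxy]
    exact Subgroup.commutator_mem_commutator (Subgroup.mem_top _) (Subgroup.mem_top _)
  obtain ⟨t, ht0, ht1⟩ := h.exists_ne01 hm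
  have hne : sg m t + 1 ≠ 0 := fun hz => ht1 (h.sg_injective (by rw [sg_one]; linear_combination hz - h.two0))
  set a' := a / (sg m t + 1)
  have h1 : ⁅dS h (Units.mk0 t ht0), uS h a' 0⁆ = uS h a (sg m (sg m t * a') * a' + sg m a' * a') := by
    rw [commutatorElement_def, h.dS_mul_uS, mul_inv_cancel_right, h.uS_inv, h.uS_mul]
    congr 1
    · simp only [a', Units.val_mk0]; field_simp
    · simp only [Units.val_mk0]; ring
  have h2 := mul_mem (hz (b + (sg m (sg m t * a') * a' + sg m a' * a')))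
    (Subgroup.commutator_mem_commutator (Subgroup.mem_top (dS h (Units.mk0 t ht0))) (Subgroup.mem_top (uS h a' 0)))
  rw [h1, h.uS_mul, zero_add, sg_zero, zero_mul, add_zero] at h2
  convert h2 using 2
  linear_combination -(sg m (sg m t * a') * a' + sg m a' * a') * h.two0

lemma perfect (hm : 1 ≤ m) : commutator (Cfsg.Sz F m) = ⊤ := by
  refine h.eq_top_of_unips hm (h.uS_mem_commutator hm) fun a b => ?_
  have := Subgroup.Normal.conj_mem inferInstance _ (h.uS_mem_commutator hm a b) (wS h)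
  rwa [h.wS_inv] at this

lemma exists_pair (hm : 1 ≤ m) {p q : Option (F × F)} (hpq : p ≠ q) :
    ∃ g : Cfsg.Sz F m, g • opt m (none : Option (F × F)) = opt m p ∧
      g • opt m (some ((0 : F), (0 : F))) = opt m q := by
  obtain ⟨g, hg⟩ : ∃ g : Cfsg.Sz F m, g • opt m (none : Option (F × F)) = opt m p := by
    rcases p with _ | ⟨x, y⟩
    · exact ⟨1, one_smul _ _⟩
    · exact ⟨uS h x y * wS h, by rw [mul_smul, h.wS_smul_none, h.uS_smul_zero]⟩
  obtain ⟨r, hr⟩ : ∃ r, g⁻¹ • opt m q = opt m r := by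
    rcases q with _ | ⟨x, y⟩
    · exact h.exists_opt_eq_smul hm g⁻¹
    · obtain ⟨r, hr⟩ := h.exists_opt_eq_smul hm (g⁻¹ * (uS h x y * wS h))
      exact ⟨r, by rw [← hr, mul_smul, mul_smul, h.wS_smul_none, h.uS_smul_zero]⟩
  rcases r with _ | ⟨x, y⟩
  · exact absurd (opt_injective (by rw [← hg, ← hr, smul_inv_smul])) hpq
  · exact ⟨g * uS h x y, by rw [mul_smul, h.uS_smul_none, hg],
      by rw [mul_smul, h.uS_smul_zero, ← hr, smul_inv_smul]⟩

lemma fix_three (hm : 1 ≤ m) {g : Cfsg.Sz F m}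
    (hg : g • opt m (none : Option (F × F)) = opt m none)
    (hg0 : g • opt m (some ((0 : F), (0 : F))) = opt m (some (0, 0))) {x y : F} (hxy : ¬(x = 0 ∧ y = 0))
    (hg1 : g • opt m (some (x, y)) = opt m (some (x, y))) : g = 1 := by
  obtain ⟨e, rfl⟩ := h.eq_of_fix_two hm hg hg0
  rw [h.dS_smul_some] at hg1
  obtain ⟨h1, h2⟩ := Prod.ext_iff.1 (Option.some.inj (opt_injective hg1))
  simp only at h1 h2
  suffices he : (e : F) = 1 by rw [show e = 1 from Units.ext he, map_one]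
  by_cases hx : x = 0
  · have hy : y ≠ 0 := fun hy => hxy ⟨hx, hy⟩
    have h3 : sg m (e : F) * (e : F) ^ 2 = 1 := mul_right_cancel₀ hy (by rw [h2, one_mul])
    have h4 := congrArg (sg m) h3
    rw [sg_mul, sg_pow, h.sg_sg, sg_one] at h4
    haveI := h.charTwo
    have h5 : sg m (e : F) * e = 1 := CharTwo.sq_injective (by linear_combination h4)
    linear_combination h3 - (e : F) * h5
  · have h3 : sg m (e : F) = 1 := mul_right_cancel₀ hx (by rw [h1, one_mul])
    exact h.sg_injective (h3.trans sg_one.symm)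

lemma faithful (hm : 1 ≤ m) {g : Cfsg.Sz F m} (hg : ∀ p : Option (F × F), g • opt m p = opt m p) : g = 1 :=
  h.fix_three hm (hg none) (hg _) (x := 1) (y := 0) (by simp) (hg _)

omit h in
lemma sup_commutator_eq_top {G : Type*} [Group G] (hperf : commutator G = ⊤) {N X : Subgroup G} [N.Normal]
    (hX : N ⊔ X = ⊤) : N ⊔ ⁅X, X⁆ = ⊤ := by
  have hs := QuotientGroup.mk'_surjective N
  have h1 : X.map (QuotientGroup.mk' N) = ⊤ := by
    have := congrArg (Subgroup.map (QuotientGroup.mk' N)) hX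
    rwa [Subgroup.map_sup, QuotientGroup.map_mk'_self, bot_sup_eq, Subgroup.map_top_of_surjective _ hs] at this
  have h2 : (⁅X, X⁆).map (QuotientGroup.mk' N) = ⊤ := by
    rw [Subgroup.map_commutator, h1, ← Subgroup.map_top_of_surjective _ hs, ← Subgroup.map_commutator,
      ← commutator_def, hperf]
  have h3 := congrArg (Subgroup.comap (QuotientGroup.mk' N)) h2
  rwa [Subgroup.comap_map_eq, QuotientGroup.ker_mk', Subgroup.comap_top, sup_comm] at h3

lemma commutator_borel_le (hm : 1 ≤ m) :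
    ⁅MulAction.stabilizer (Cfsg.Sz F m) (Cfsg.suzukiPointInfinity F),
      MulAction.stabilizer (Cfsg.Sz F m) (Cfsg.suzukiPointInfinity F)⁆ ≤ unip h := by
  rw [← h.normalizer_unip hm]
  set B := Subgroup.normalizer (unip h : Set (Cfsg.Sz F m))
  have hle : unip h ≤ B := Subgroup.le_normalizer
  rw [Subgroup.commutator_le]
  intro g hg k hk
  have hg' := hg
  have hk' := hk
  simp only [B, h.normalizer_unip hm] at hg' hk'
  rw [← opt_none (m := m)] at hg' hk'
  obtain ⟨a, b, e, rfl⟩ := h.eq_of_fix_none hm hg'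
  obtain ⟨c, d, f, rfl⟩ := h.eq_of_fix_none hm hk'
  have hn : ∀ (e : Fˣ) (a b : F), dS h e * uS h a b = uS h (sg m (e : F) * a) (sg m (e : F) * (e : F) ^ 2 * b) * dS h e :=
    h.dS_mul_uS
  have hcomm : dS h e * dS h f = dS h f * dS h e := by rw [← map_mul, ← map_mul, mul_comm]
  obtain ⟨c', d', h1⟩ : ∃ c' d', (uS h a b * dS h e) * (uS h c d * dS h f) = uS h c' d' * (dS h e * dS h f) :=
    ⟨_, _, by rw [mul_assoc, ← mul_assoc (dS h e), hn, mul_assoc (uS h _ _), ← mul_assoc (uS h a b), h.uS_mul]⟩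
  obtain ⟨a', b', h2⟩ : ∃ a' b', (uS h c d * dS h f) * (uS h a b * dS h e) = uS h a' b' * (dS h e * dS h f) :=
    ⟨_, _, by rw [mul_assoc, ← mul_assoc (dS h f), hn, mul_assoc (uS h _ _), ← mul_assoc (uS h c d), h.uS_mul, hcomm]⟩
  rw [commutatorElement_def, mul_assoc _ (uS h a b * dS h e)⁻¹, ← _root_.mul_inv_rev, h1, h2,
    show uS h c' d' * (dS h e * dS h f) * (uS h a' b' * (dS h e * dS h f))⁻¹ = uS h c' d' * (uS h a' b')⁻¹ by group]
  exact mul_mem (h.uS_mem _ _) (inv_mem (h.uS_mem _ _))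

theorem isSimple (hm : 1 ≤ m) : IsSimpleGroup (Cfsg.Sz F m) := by
  haveI : Nontrivial (Cfsg.Sz F m) := ⟨⟨wS h, 1, fun he => by
    have := h.wS_smul_none
    rw [he, one_smul] at this
    exact absurd (opt_injective this) (by simp)⟩⟩
  refine ⟨fun N hN => or_iff_not_imp_left.2 fun hne => ?_⟩
  obtain ⟨n, hn, hn1⟩ := (Subgroup.ne_bot_iff_exists_ne_one.1 hne).elim fun x hx =>
    (⟨x.1, x.2, fun h1 => hx (Subtype.ext h1)⟩ : ∃ n ∈ N, n ≠ 1)
  obtain ⟨p, hp⟩ : ∃ p, n • opt m p ≠ opt m p := by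
    by_contra hall
    simp only [ne_eq, not_exists, not_not] at hall
    exact hn1 (h.faithful hm hall)
  obtain ⟨g, hg⟩ : ∃ g : Cfsg.Sz F m, g • opt m (none : Option (F × F)) = opt m p := by
    rcases p with _ | ⟨x, y⟩
    · exact ⟨1, one_smul _ _⟩
    · exact ⟨uS h x y * wS h, by rw [mul_smul, h.wS_smul_none, h.uS_smul_zero]⟩
  have hk : g⁻¹ * n * g ∈ N := by simpa using hN.conj_mem n hn g⁻¹
  have hkn : (g⁻¹ * n * g) • opt m (none : Option (F × F)) ≠ opt m none := fun he => hp (by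
    rw [← hg, ← mul_smul, show n * g = g * (g⁻¹ * n * g) by group, mul_smul, he])
  obtain ⟨q, hq⟩ := h.exists_opt_eq_smul hm (g⁻¹ * n * g)
  have htop : N ⊔ MulAction.stabilizer (Cfsg.Sz F m) (Cfsg.suzukiPointInfinity F) = ⊤ := by
    rw [eq_top_iff]
    rintro x -
    obtain ⟨r, hr⟩ := h.exists_opt_eq_smul hm x
    rcases r with _ | ⟨a, b⟩
    · exact Subgroup.mem_sup_right (by rw [← opt_none (m := m)]; exact hr)
    rcases q with _ | ⟨c, d⟩
    · exact absurd hq hkn
    set u := uS h a b * (uS h c d)⁻¹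
    have hu : u • opt m (none : Option (F × F)) = opt m none := by
      simp only [u]; rw [h.uS_inv, h.uS_mul, h.uS_smul_none]
    have hmem : u * (g⁻¹ * n * g) * u⁻¹ ∈ N := hN.conj_mem _ hk u
    have hpt : (u * (g⁻¹ * n * g) * u⁻¹) • opt m (none : Option (F × F)) = opt m (some (a, b)) := by
      rw [mul_smul, mul_smul, inv_smul_eq_iff.2 hu.symm, hq, show u = uS h a b * (uS h c d)⁻¹ from rfl, mul_smul,
        inv_smul_eq_iff.2 (h.uS_smul_zero c d).symm, h.uS_smul_zero]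
    rw [show x = (u * (g⁻¹ * n * g) * u⁻¹) * ((u * (g⁻¹ * n * g) * u⁻¹)⁻¹ * x) by group]
    refine Subgroup.mul_mem_sup hmem ?_
    rw [← opt_none (m := m), MulAction.mem_stabilizer_iff, mul_smul, hr, inv_smul_eq_iff, hpt]
  have hperf := h.perfect hm
  have s1 := sup_commutator_eq_top hperf htop
  have s2 : N ⊔ unip h = ⊤ := top_le_iff.1 (s1 ▸ sup_le_sup le_rfl (h.commutator_borel_le hm))
  have s3 : N ⊔ unipCenter h = ⊤ := top_le_iff.1 (sup_commutator_eq_top hperf s2 ▸ sup_le_sup le_rfl h.commutator_unip_le)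
  have s4 : ⁅unipCenter h, unipCenter h⁆ = ⊥ := by
    rw [eq_bot_iff, Subgroup.commutator_le]
    rintro _ ⟨b, rfl⟩ _ ⟨d, rfl⟩
    rw [h.commElem_uS]
    simp [h.uS_zero]
  have s5 := sup_commutator_eq_top hperf s3
  rwa [s4, sup_bot_eq] at s5

theorem two_generated (hm : 1 ≤ m) :
    ∃ a b : Cfsg.Sz F m, Subgroup.closure ({a, b} : Set (Cfsg.Sz F m)) = ⊤ := by
  obtain ⟨l, hl⟩ := IsCyclic.exists_generator (α := Fˣ)
  refine ⟨dS h l, uS h 1 0 * wS h, ?_⟩
  set H := Subgroup.closure ({dS h l, uS h 1 0 * wS h} : Set (Cfsg.Sz F m))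
  have hd : ∀ e, dS h e ∈ H := by
    intro e
    obtain ⟨k, rfl⟩ := Subgroup.mem_zpowers_iff.1 (hl e)
    rw [map_zpow]
    exact zpow_mem (Subgroup.subset_closure (by simp)) k
  have hy : uS h 1 0 * wS h ∈ H := Subgroup.subset_closure (by simp)
  set v : F := sg m ((l⁻¹ : Fˣ) : F) + 1
  have hv : v ≠ 0 := by
    intro hv
    have h1 : ((l⁻¹ : Fˣ) : F) = 1 := h.sg_injective (by rw [sg_one]; linear_combination hv - h.two0)
    obtain ⟨t, ht0, ht1⟩ := h.exists_ne01 hm
    obtain ⟨k, hk⟩ := Subgroup.mem_zpowers_iff.1 (hl (Units.mk0 t ht0))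
    have hl1 : l = 1 := by
      rw [← _root_.inv_inj, inv_one]
      exact Units.ext h1
    rw [hl1, _root_.one_zpow] at hk
    exact ht1 (congrArg Units.val hk).symm
  obtain ⟨v', hu⟩ : ∃ v', uS h v v' ∈ H := by
    have hmem := mul_mem (mul_mem (mul_mem hy (hd l)) (inv_mem hy)) (hd l)
    rw [_root_.mul_inv_rev, h.wS_inv] at hmem
    have : uS h 1 0 * wS h * dS h l * (wS h * (uS h 1 0)⁻¹) * dS h l =
        uS h 1 0 * (dS h l⁻¹ * (uS h 1 0)⁻¹ * dS h l) := by
      rw [mul_assoc (uS h 1 0) (wS h), h.wS_mul_dS]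
      simp only [mul_assoc]
      rw [← mul_assoc (wS h) (wS h), h.wS_mul_self, one_mul]
    rw [this, h.uS_inv, h.dS_mul_uS, mul_assoc (uS h _ _), ← map_mul, inv_mul_cancel, map_one, mul_one,
      h.uS_mul] at hmem
    have hv' : v = 1 + sg m ((l⁻¹ : Fˣ) : F) * 1 := by simp [v, add_comm]
    rw [← hv'] at hmem
    exact ⟨_, hmem⟩
  have hz : ∀ c, uS h 0 c ∈ H := by
    intro c
    obtain ⟨a, ha⟩ := h.sg_mul_self_surj c
    by_cases ha0 : a = 0
    · subst ha0
      rw [← ha]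
      simp [sg_zero, h.uS_zero]
    obtain ⟨e, he⟩ := h.sg_surjective (a / v)
    have he0 : e ≠ 0 := by
      rintro rfl
      rw [sg_zero] at he
      exact (div_ne_zero ha0 hv) he.symm
    have hmem := mul_mem (mul_mem (hd (Units.mk0 e he0)) hu) (inv_mem (hd (Units.mk0 e he0)))
    rw [h.dS_mul_uS, mul_inv_cancel_right, Units.val_mk0, he, div_mul_cancel₀ _ hv] at hmem
    have := pow_mem hmem 2
    rwa [h.uS_sq, ha] at this
  have hU : ∀ a b, uS h a b ∈ H := by
    intro a b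
    by_cases ha0 : a = 0
    · subst ha0; exact hz b
    obtain ⟨e, he⟩ := h.sg_surjective (a / v)
    have he0 : e ≠ 0 := by
      rintro rfl
      rw [sg_zero] at he
      exact (div_ne_zero ha0 hv) he.symm
    have hmem := mul_mem (mul_mem (hd (Units.mk0 e he0)) hu) (inv_mem (hd (Units.mk0 e he0)))
    rw [h.dS_mul_uS, mul_inv_cancel_right, Units.val_mk0, he, div_mul_cancel₀ _ hv] at hmem
    have h2 := mul_mem (hz (b + a / v * e ^ 2 * v')) hmem
    rw [h.uS_mul, zero_add, sg_zero, zero_mul, add_zero] at h2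
    convert h2 using 2
    linear_combination -(a / v * e ^ 2 * v') * h.two0
  have hw : wS h ∈ H := by
    have := mul_mem (inv_mem (hU 1 0)) hy
    rwa [inv_mul_cancel_left] at this
  exact h.eq_top_of_unips hm hU fun a b => mul_mem (mul_mem hw (hU a b)) hw

end IsSzField

end Cfsg.Agent.Lib.LieTwisted.Suzuki
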