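import Cfsg.Agent.Lib.LieTwisted.Suzuki

/-!
Bruhat decomposition for both definitions of the Suzuki group, their identification, and the
action on the Suzuki–Tits ovoid.
-/

set_option autoImplicit false
set_option linter.unusedSectionVars false

namespace Cfsg.Agent.Lib.LieTwisted.Suzuki

open Matrix
open scoped Pointwise

variable {F : Type*} [Field F]

/-! ### The ovoid -/

/-- A non-zero vector spanning a point of the ovoid. -/
def IsOvVec (m : ℕ) (v : Fin 4 → F) : Prop :=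
  ∃ c : F, c ≠ 0 ∧ (v = c • inf0 F ∨ ∃ x y, v = c • pt m x y)

lemma inf0_ne : inf0 F ≠ 0 := fun h => one_ne_zero (congrFun h 0 : (1 : F) = 0)

lemma pt_ne (m : ℕ) (x y : F) : pt m x y ≠ 0 := fun h => one_ne_zero (congrFun h 3 : (1 : F) = 0)

lemma pt_eq (m : ℕ) (x y : F) :
    pt m x y = ![x * y + x ^ (2 ^ (m + 1) + 2) + y ^ (2 ^ (m + 1)), y, x, 1] := by
  simp [pt, zfun, sg, pow_add]

lemma mk_mem_ovoid_iff (m : ℕ) (v : Fin 4 → F) (hv : v ≠ 0) :
    Projectivization.mk F v hv ∈ Cfsg.suzukiOvoid F m ↔ IsOvVec m v := by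
  constructor
  · rintro ⟨u, hu, he, h⟩
    obtain ⟨c, hc⟩ := (Projectivization.mk_eq_mk_iff' F v u hv hu).1 he
    refine ⟨c, fun hc0 => hv (by rw [← hc, hc0, zero_smul]), ?_⟩
    rcases h with rfl | ⟨x, y, rfl⟩
    · exact Or.inl hc.symm
    · exact Or.inr ⟨x, y, by rw [pt_eq]; exact hc.symm⟩
  · rintro ⟨c, hc, rfl | ⟨x, y, rfl⟩⟩
    · exact ⟨inf0 F, inf0_ne, (Projectivization.mk_eq_mk_iff' F _ _ _ _).2 ⟨c, rfl⟩, Or.inl rfl⟩
    · exact ⟨pt m x y, pt_ne m x y, (Projectivization.mk_eq_mk_iff' F _ _ _ _).2 ⟨c, rfl⟩,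
        Or.inr ⟨x, y, pt_eq m x y⟩⟩

/-- The points of the ovoid: `none` is `∞`. -/
def ovPt (m : ℕ) : Option (F × F) → Cfsg.suzukiOvoid F m
  | none => ⟨Projectivization.mk F (inf0 F) inf0_ne,
      (mk_mem_ovoid_iff m _ _).2 ⟨1, one_ne_zero, Or.inl (one_smul _ _).symm⟩⟩
  | some p => ⟨Projectivization.mk F (pt m p.1 p.2) (pt_ne m _ _),
      (mk_mem_ovoid_iff m _ _).2 ⟨1, one_ne_zero, Or.inr ⟨p.1, p.2, (one_smul _ _).symm⟩⟩⟩

lemma ovPt_bijective (m : ℕ) : Function.Bijective (ovPt (F := F) m) := by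
  constructor
  · intro p q h
    have h' := congrArg Subtype.val h
    rcases p with _ | ⟨x, y⟩ <;> rcases q with _ | ⟨x', y'⟩ <;>
      simp only [ovPt, Projectivization.mk_eq_mk_iff'] at h'
    · rfl
    · obtain ⟨c, hc⟩ := h'
      have h3 : c = 0 := by simpa [pt, inf0] using congrFun hc 3
      exact absurd (congrFun hc 0) (by simp [h3, inf0])
    · obtain ⟨c, hc⟩ := h'
      exact absurd (congrFun hc 3) (by simp [pt, inf0])
    · obtain ⟨c, hc⟩ := h'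
      obtain rfl : c = 1 := by simpa [pt] using congrFun hc 3
      rw [one_smul] at hc
      have hx : x' = x := by simpa [pt] using congrFun hc 2
      have hy : y' = y := by simpa [pt] using congrFun hc 1
      rw [hx, hy]
  · rintro ⟨p, hp⟩
    obtain ⟨v, hv, rfl⟩ : ∃ v hv, p = Projectivization.mk F v hv :=
      ⟨p.rep, p.rep_nonzero, (Projectivization.mk_rep p).symm⟩
    obtain ⟨c, -, rfl | ⟨x, y, rfl⟩⟩ := (mk_mem_ovoid_iff m v hv).1 hp
    · exact ⟨none, Subtype.ext ((Projectivization.mk_eq_mk_iff' F _ _ _ _).2 ⟨c, rfl⟩).symm⟩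
    · exact ⟨some (x, y), Subtype.ext ((Projectivization.mk_eq_mk_iff' F _ _ _ _).2 ⟨c, rfl⟩).symm⟩

/-- The equivalence of `Option (F × F)` with the ovoid. -/
noncomputable def ovEquiv (m : ℕ) : Option (F × F) ≃ Cfsg.suzukiOvoid F m :=
  Equiv.ofBijective _ (ovPt_bijective m)

theorem card_ovoid [Fintype F] (m : ℕ) : Nat.card (Cfsg.suzukiOvoid F m) = Fintype.card F ^ 2 + 1 := by
  classical
  rw [← Nat.card_congr (ovEquiv m), Nat.card_eq_fintype_card, Fintype.card_option, Fintype.card_prod, sq]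

/-- `g` maps the vectors of the ovoid to such vectors. -/
def Preserves (m : ℕ) (g : Matrix (Fin 4) (Fin 4) F) : Prop :=
  ∀ v, IsOvVec m v → IsOvVec m (g *ᵥ v)

lemma IsOvVec.smul {m : ℕ} {v : Fin 4 → F} (hv : IsOvVec m v) {a : F} (ha : a ≠ 0) :
    IsOvVec m (a • v) := by
  obtain ⟨c, hc, rfl | ⟨x, y, rfl⟩⟩ := hv
  · exact ⟨a * c, mul_ne_zero ha hc, Or.inl (smul_smul _ _ _)⟩
  · exact ⟨a * c, mul_ne_zero ha hc, Or.inr ⟨x, y, smul_smul _ _ _⟩⟩

lemma isOvVec_inf0 (m : ℕ) : IsOvVec m (inf0 F) := ⟨1, one_ne_zero, Or.inl (one_smul _ _).symm⟩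

lemma isOvVec_pt (m : ℕ) (x y : F) : IsOvVec m (pt m x y) :=
  ⟨1, one_ne_zero, Or.inr ⟨x, y, (one_smul _ _).symm⟩⟩

lemma preserves_of_gens {m : ℕ} {g : Matrix (Fin 4) (Fin 4) F} (h1 : IsOvVec m (g *ᵥ inf0 F))
    (h2 : ∀ x y, IsOvVec m (g *ᵥ pt m x y)) : Preserves m g := by
  rintro v ⟨c, hc, rfl | ⟨x, y, rfl⟩⟩ <;> rw [Matrix.mulVec_smul]
  · exact h1.smul hc
  · exact (h2 x y).smul hc

lemma Preserves.mul {m : ℕ} {g k : Matrix (Fin 4) (Fin 4) F} (hg : Preserves m g) (hk : Preserves m k) :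
    Preserves m (g * k) := fun v hv => by
  rw [← Matrix.mulVec_mulVec]
  exact hg _ (hk v hv)

lemma mulVec_inj_of_det {g : Matrix (Fin 4) (Fin 4) F} (hg : g.det = 1) :
    Function.Injective g.mulVec :=
  Matrix.mulVec_injective_iff_isUnit.2 ((Matrix.isUnit_iff_isUnit_det g).2 (by simp [hg]))

/-- Membership in the Bruhat set `U H ∪ U w U H`. -/
def InBruhat (m : ℕ) (g : Matrix (Fin 4) (Fin 4) F) : Prop :=
  ∃ a b e : F, e ≠ 0 ∧ (g = utMat m a b * dgMat m e ∨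
    ∃ x y, g = utMat m x y * wMat F * (utMat m a b * dgMat m e))

lemma dgMat_inf0 (m : ℕ) (b : F) : dgMat m b *ᵥ inf0 F = (sg m b * b) • inf0 F := by
  funext i
  fin_cases i <;> simp [dgMat, inf0, Matrix.mulVec_diagonal]

lemma mulVec_inf0 (g : Matrix (Fin 4) (Fin 4) F) (i : Fin 4) : (g *ᵥ inf0 F) i = g i 0 := by
  simp [inf0, Matrix.mulVec, dotProduct, Fin.sum_univ_four]

lemma mulVec_pt_zero (m : ℕ) (g : Matrix (Fin 4) (Fin 4) F) (i : Fin 4) : (g *ᵥ pt m 0 0) i = g i 3 := by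
  simp [pt, zfun, sg_zero, Matrix.mulVec, dotProduct, Fin.sum_univ_four]

lemma utMat_zero (m : ℕ) : utMat m (0 : F) 0 = 1 := by
  ext i j
  fin_cases i <;> fin_cases j <;> simp [utMat, zfun, sg_zero]

variable [Fintype F] {m : ℕ}

namespace IsSzField

variable (h : IsSzField F m)
include h

lemma add_self (x : F) : x + x = 0 := by linear_combination x * h.two0

lemma utMat_mul_inv (x y : F) : utMat m x y * utMat m x (y + sg m x * x) = 1 := by
  rw [h.utMat_mul, h.add_self, ← utMat_zero m]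
  congr 1
  linear_combination (y + sg m x * x) * h.two0

lemma utMat_inv_pt (x y : F) : utMat m x (y + sg m x * x) *ᵥ pt m x y = pt m 0 0 := by
  rw [h.utMat_pt, h.add_self]
  congr 1
  linear_combination (y + sg m x * x) * h.two0

lemma preserves_utMat (a b : F) : Preserves m (utMat m a b) :=
  preserves_of_gens (by rw [utMat_inf0]; exact isOvVec_inf0 m)
    fun x y => by rw [h.utMat_pt]; exact isOvVec_pt m _ _

lemma preserves_dgMat {b : F} (hb : b ≠ 0) : Preserves m (dgMat m b) :=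
  have hs : sg m b * b ≠ 0 := mul_ne_zero (mt sg_eq_zero.1 hb) hb
  preserves_of_gens (by rw [dgMat_inf0]; exact (isOvVec_inf0 m).smul hs)
    fun x y => by rw [h.dgMat_pt hb]; exact (isOvVec_pt m _ _).smul (inv_ne_zero hs)

lemma preserves_wMat : Preserves m (wMat F) :=
  preserves_of_gens (by rw [h.wMat_inf0]; exact isOvVec_pt m 0 0) fun x y => by
    by_cases hz : zfun m x y = 0
    · obtain ⟨rfl, rfl⟩ := h.z_eq_zero hz
      rw [h.wMat_pt_zero]
      exact isOvVec_inf0 m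
    · rw [h.wMat_pt hz]
      exact (isOvVec_pt m _ _).smul hz

lemma preserves_of_inBruhat {g : Matrix (Fin 4) (Fin 4) F} (hg : InBruhat m g) : Preserves m g := by
  obtain ⟨a, b, e, he, rfl | ⟨x, y, rfl⟩⟩ := hg
  · exact (h.preserves_utMat a b).mul (h.preserves_dgMat he)
  · exact ((h.preserves_utMat x y).mul h.preserves_wMat).mul ((h.preserves_utMat a b).mul (h.preserves_dgMat he))

lemma isSzMat_of_inBruhat {g : Matrix (Fin 4) (Fin 4) F} (hg : InBruhat m g) : IsSzMat m g := by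
  obtain ⟨a, b, e, he, rfl | ⟨x, y, rfl⟩⟩ := hg
  · exact h.isSzMat_mul (h.isSzMat_utMat a b) (h.isSzMat_dgMat he)
  · exact h.isSzMat_mul (h.isSzMat_mul (h.isSzMat_utMat x y) h.isSzMat_wMat)
      (h.isSzMat_mul (h.isSzMat_utMat a b) (h.isSzMat_dgMat he))

lemma inBruhat_of {P : Matrix (Fin 4) (Fin 4) F → Prop}
    (hut : ∀ a b g, P g → P (utMat m a b * g)) (hw : ∀ g, P g → P (wMat F * g))
    (hinf : ∀ g, P g → IsOvVec m (g *ᵥ inf0 F)) (hzero : ∀ g, P g → IsOvVec m (g *ᵥ pt m 0 0))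
    (hinj : ∀ g, P g → Function.Injective g.mulVec)
    (hdiag : ∀ g, P g → (∃ c : F, c ≠ 0 ∧ g *ᵥ inf0 F = c • inf0 F) →
      (∃ c : F, c ≠ 0 ∧ g *ᵥ pt m 0 0 = c • pt m 0 0) → ∃ b, b ≠ 0 ∧ g = dgMat m b)
    {g : Matrix (Fin 4) (Fin 4) F} (hg : P g) : InBruhat m g := by
  have stepA : ∀ g, P g → (∃ c : F, c ≠ 0 ∧ g *ᵥ inf0 F = c • inf0 F) →
      ∃ a b e, e ≠ 0 ∧ g = utMat m a b * dgMat m e := by
    intro g hg ⟨c, hc, hgi⟩
    obtain ⟨c', hc', h0 | ⟨x, y, h0⟩⟩ := hzero g hg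
    · exfalso
      have hd : g *ᵥ ((c' / c) • inf0 F) = g *ᵥ pt m 0 0 := by
        rw [Matrix.mulVec_smul, hgi, h0, smul_smul, div_mul_cancel₀ _ hc]
      simpa [pt, inf0] using congrFun (hinj g hg hd) 3
    · obtain ⟨e, he, hge⟩ := hdiag _ (hut x (y + sg m x * x) g hg)
        ⟨c, hc, by rw [← Matrix.mulVec_mulVec, hgi, Matrix.mulVec_smul, utMat_inf0]⟩
        ⟨c', hc', by rw [← Matrix.mulVec_mulVec, h0, Matrix.mulVec_smul, h.utMat_inv_pt]⟩
      exact ⟨x, y, e, he, by rw [← hge, ← mul_assoc, h.utMat_mul_inv, one_mul]⟩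
  obtain ⟨c, hc, h1 | ⟨x, y, h1⟩⟩ := hinf g hg
  · obtain ⟨a, b, e, he, rfl⟩ := stepA g hg ⟨c, hc, h1⟩
    exact ⟨a, b, e, he, Or.inl rfl⟩
  · obtain ⟨a, b, e, he, hge⟩ := stepA _ (hw _ (hut x (y + sg m x * x) g hg))
      ⟨c, hc, by rw [← Matrix.mulVec_mulVec, ← Matrix.mulVec_mulVec, h1, Matrix.mulVec_smul,
        h.utMat_inv_pt, Matrix.mulVec_smul, h.wMat_pt_zero]⟩
    refine ⟨a, b, e, he, Or.inr ⟨x, y, ?_⟩⟩
    rw [← hge, mul_assoc (utMat m x y), ← mul_assoc (wMat F) (wMat F), wMat_mul_self, one_mul,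
      ← mul_assoc, h.utMat_mul_inv, one_mul]

lemma isOvVec_col {g : Matrix (Fin 4) (Fin 4) F} (hg : IsSzMat m g) : IsOvVec m (g *ᵥ inf0 F) := by
  have t := h.two0
  have p01 := congrFun (congrFun hg.2 0) 0
  have p02 := congrFun (congrFun hg.2 1) 0
  have p13 := congrFun (congrFun hg.2 2) 0
  have p23 := congrFun (congrFun hg.2 3) 0
  simp [Cfsg.Lie.star4, Cfsg.Lie.pairOf] at p01 p02 p13 p23
  have hs := congrFun (congrFun hg.1 0) 1
  simp [wMat, Matrix.mul_apply, Fin.sum_univ_four] at hs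
  have hee : g 1 0 * g 2 1 - g 2 0 * g 1 1 = g 0 0 * g 3 1 - g 3 0 * g 0 1 := by
    linear_combination hs - (g 2 0 * g 1 1 + g 0 0 * g 3 1) * t
  generalize he : g 0 0 * g 3 1 - g 3 0 * g 0 1 = e at hee
  have e1 : g 0 0 * e + g 1 0 * sg m (g 1 0) + g 2 0 * sg m (g 0 0) = 0 := by
    rw [← hee, ← p02, ← p01]
    linear_combination g 1 0 * (g 0 0 * g 2 1 - g 2 0 * g 0 1) * t
  have e2 : g 0 0 * sg m (g 2 0) + g 1 0 * e + g 3 0 * sg m (g 0 0) = 0 := by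
    rw [← he, ← p13, ← p01]
    linear_combination g 1 0 * (g 0 0 * g 3 1 - g 3 0 * g 0 1) * t
  have e3 : g 0 0 * sg m (g 3 0) + g 2 0 * e + g 3 0 * sg m (g 1 0) = 0 := by
    rw [← he, ← p23, ← p02]
    linear_combination g 2 0 * (g 0 0 * g 3 1 - g 3 0 * g 0 1) * t
  have e4 : g 1 0 * sg m (g 3 0) + g 2 0 * sg m (g 2 0) + g 3 0 * e = 0 := by
    rw [← hee, ← p23, ← p13]
    linear_combination g 2 0 * (g 1 0 * g 3 1 - g 3 0 * g 1 1) * t
  by_cases hd : g 3 0 = 0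
  · rw [hd] at e4 e2
    simp only [sg_zero, mul_zero, zero_add, zero_mul, add_zero, mul_eq_zero, sg_eq_zero, or_self] at e4
    rw [e4] at e1 e2
    simp only [zero_mul, add_zero, sg_zero, mul_zero, zero_add] at e1 e2
    have h1 : g 1 0 = 0 := by
      by_contra hb
      have he0 : e = 0 := (mul_eq_zero.1 e2).resolve_left hb
      rw [he0, mul_zero, zero_add] at e1
      exact hb ((mul_eq_zero.1 e1).elim id sg_eq_zero.1)
    have hv : g *ᵥ inf0 F = g 0 0 • inf0 F := by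
      funext i
      rw [mulVec_inf0]
      fin_cases i <;> simp [inf0, hd, e4, h1]
    refine ⟨g 0 0, fun h0 => inf0_ne (F := F) ?_, Or.inl hv⟩
    apply mulVec_inj_of_det (h.det_of_isSzMat hg)
    rw [hv, h0, zero_smul, Matrix.mulVec_zero]
  · refine ⟨g 3 0, hd, Or.inr ⟨g 2 0 / g 3 0, g 1 0 / g 3 0, ?_⟩⟩
    have hsd : sg m (g 3 0) ≠ 0 := mt sg_eq_zero.1 hd
    funext i
    rw [mulVec_inf0]
    fin_cases i <;> simp [pt, hd, mul_div_cancel₀]
    simp only [zfun, div_eq_mul_inv, sg_mul, sg_inv, mul_pow]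
    field_simp
    linear_combination g 3 0 * e3 + g 2 0 * e4 - (g 3 0 * g 2 0 * e + g 1 0 * g 2 0 * sg m (g 3 0) + g 2 0 ^ 2 * sg m (g 2 0) + g 3 0 ^ 2 * sg m (g 1 0)) * t

lemma isOvVec_col3 {g : Matrix (Fin 4) (Fin 4) F} (hg : IsSzMat m g) : IsOvVec m (g *ᵥ pt m 0 0) := by
  have := h.isOvVec_col (h.isSzMat_mul hg h.isSzMat_wMat)
  rwa [← Matrix.mulVec_mulVec, h.wMat_inf0] at this

lemma diag_of_isSzMat {g : Matrix (Fin 4) (Fin 4) F} (hg : IsSzMat m g)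
    (hi : ∃ c : F, c ≠ 0 ∧ g *ᵥ inf0 F = c • inf0 F)
    (hp : ∃ c : F, c ≠ 0 ∧ g *ᵥ pt m 0 0 = c • pt m 0 0) : ∃ b, b ≠ 0 ∧ g = dgMat m b := by
  obtain ⟨α, hα, hi⟩ := hi
  obtain ⟨δ, hδ, hp⟩ := hp
  have col0 : ∀ i, g i 0 = (α • inf0 F) i := fun i => by rw [← hi, mulVec_inf0]
  have col3 : ∀ i, g i 3 = (δ • pt m 0 0) i := fun i => by rw [← hp, mulVec_pt_zero]
  have g00 := col0 0; have g10 := col0 1; have g20 := col0 2; have g30 := col0 3
  have g03 := col3 0; have g13 := col3 1; have g23 := col3 2; have g33 := col3 3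
  simp [inf0] at g00 g10 g20 g30
  simp [pt, zfun, sg_zero] at g03 g13 g23 g33
  have s03 := congrFun (congrFun hg.1 0) 3
  have s01 := congrFun (congrFun hg.1 0) 1
  have s02 := congrFun (congrFun hg.1 0) 2
  have s31 := congrFun (congrFun hg.1 3) 1
  have s32 := congrFun (congrFun hg.1 3) 2
  have s12 := congrFun (congrFun hg.1 1) 2
  simp [wMat, Matrix.mul_apply, Fin.sum_univ_four, g00, g10, g20, g30, g03, g13, g23, g33] at s03 s01 s02 s31 s32
  have hαδ : α * δ = 1 := s03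
  have g31 : g 3 1 = 0 := s01.resolve_left hα
  have g32 : g 3 2 = 0 := s02.resolve_left hα
  have g01 : g 0 1 = 0 := s31.resolve_left hδ
  have g02 : g 0 2 = 0 := s32.resolve_left hδ
  have t00 := congrFun (congrFun hg.2 0) 0
  have t10 := congrFun (congrFun hg.2 1) 0
  have t23 := congrFun (congrFun hg.2 2) 3
  have t11 := congrFun (congrFun hg.2 1) 1
  simp [Cfsg.Lie.star4, Cfsg.Lie.pairOf, g00, g10, g20, g30, g03, g13, g23, g33, g31, g32, g01, g02, sg_zero] at t00 t10 t23 t11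
  have g21 : g 2 1 = 0 := t10.resolve_left hα
  have g12 : g 1 2 = 0 := t23.resolve_right hδ
  simp [wMat, Matrix.mul_apply, Fin.sum_univ_four, g01, g02, g12, g21, g31, g32] at s12
  refine ⟨g 1 1, left_ne_zero_of_mul_eq_one s12, ?_⟩
  have g22 : g 2 2 = (g 1 1)⁻¹ := (eq_inv_of_mul_eq_one_right s12)
  have hα' : α = sg m (g 1 1) * g 1 1 := by
    rw [← t11, g22, mul_assoc, inv_mul_cancel₀ (left_ne_zero_of_mul_eq_one s12), mul_one]
  have hδ' : δ = (sg m (g 1 1) * g 1 1)⁻¹ := by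
    rw [← hα']; exact eq_inv_of_mul_eq_one_right hαδ
  ext i j
  fin_cases i <;> fin_cases j <;>
    simp [dgMat, g00, g10, g20, g30, g03, g13, g23, g33, g31, g32, g01, g02, g12, g21, g22, ← hα', hδ']

lemma inBruhat_of_isSzMat {g : Matrix (Fin 4) (Fin 4) F} (hg : IsSzMat m g) : InBruhat m g :=
  h.inBruhat_of (fun a b _ hk => h.isSzMat_mul (h.isSzMat_utMat a b) hk)
    (fun _ hk => h.isSzMat_mul h.isSzMat_wMat hk) (fun _ hk => h.isOvVec_col hk)
    (fun _ hk => h.isOvVec_col3 hk) (fun _ hk => mulVec_inj_of_det (h.det_of_isSzMat hk))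
    (fun _ hk => h.diag_of_isSzMat hk) hg

lemma isOvVec_last_zero {v : Fin 4 → F} (hv : IsOvVec m v) (h3 : v 3 = 0) :
    ∃ c : F, c ≠ 0 ∧ v = c • inf0 F := by
  obtain ⟨c, hc, hv | ⟨x, y, hv⟩⟩ := hv
  · exact ⟨c, hc, hv⟩
  · rw [hv] at h3
    simp [pt, hc] at h3

lemma row3_of_preserves {g : Matrix (Fin 4) (Fin 4) F} (hg : Preserves m g) (hinj : Function.Injective g.mulVec)
    {α δ : F} (hα : α ≠ 0) (hi : g *ᵥ inf0 F = α • inf0 F) (hp : g *ᵥ pt m 0 0 = δ • pt m 0 0) :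
    g 3 1 = 0 ∧ g 3 2 = 0 := by
  have g30 : g 3 0 = 0 := by rw [← mulVec_inf0 g 3, hi]; simp [inf0]
  have g33 : g 3 3 = δ := by rw [← mulVec_pt_zero m g 3, hp]; simp [pt]
  by_contra hne
  obtain ⟨x, y, hxy⟩ : ∃ x y : F, g 3 1 * y + g 3 2 * x + δ = 0 := by
    by_cases h1 : g 3 1 = 0
    · have h2 : g 3 2 ≠ 0 := fun h2 => hne ⟨h1, h2⟩
      exact ⟨-δ / g 3 2, 0, by rw [mul_zero, zero_add, mul_div_cancel₀ _ h2, neg_add_cancel]⟩
    · exact ⟨0, -δ / g 3 1, by rw [mul_zero, add_zero, mul_div_cancel₀ _ h1, neg_add_cancel]⟩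
  obtain ⟨c, hc, hv⟩ := h.isOvVec_last_zero (hg _ (isOvVec_pt m x y)) (by
    simp [Matrix.mulVec, dotProduct, Fin.sum_univ_four, pt, g30, g33]
    exact hxy)
  have hd : g *ᵥ ((c / α) • inf0 F) = g *ᵥ pt m x y := by
    rw [hv, Matrix.mulVec_smul, hi, smul_smul, div_mul_cancel₀ _ hα]
  simpa [inf0, pt] using congrFun (hinj hd) 3

lemma coeff_vanish (hm : 1 ≤ m) {c₁ c₂ c₃ : F}
    (hx : ∀ x : F, c₁ * (sg m x * x ^ 2) + c₂ * sg m x + c₃ * x ^ 2 = 0) : c₁ = 0 ∧ c₂ = 0 ∧ c₃ = 0 := by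
  have hs : 4 ≤ 2 ^ (m + 1) := by
    calc 4 = 2 ^ 2 := rfl
      _ ≤ 2 ^ (m + 1) := Nat.pow_le_pow_right (by norm_num) (by omega)
  have hq : 2 ^ (m + 1) + 2 < Fintype.card F := by
    rw [h.card]
    calc 2 ^ (m + 1) + 2 < 2 ^ (m + 1) + 2 ^ (m + 1) := by omega
      _ = 2 ^ (m + 2) := by ring
      _ ≤ 2 ^ (2 * m + 1) := Nat.pow_le_pow_right (by norm_num) (by omega)
  open Polynomial in
  have hP : C c₁ * X ^ (2 ^ (m + 1) + 2) + C c₂ * X ^ (2 ^ (m + 1)) + C c₃ * X ^ 2 = 0 := by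
    refine eq_zero_of_natDegree_lt_card_of_eval_eq_zero' _ (Finset.univ : Finset F) (fun x _ => ?_) ?_
    · simp only [eval_add, eval_mul, eval_C, eval_pow, eval_X, pow_add]
      exact hx x
    · rw [Finset.card_univ]
      refine lt_of_le_of_lt ?_ hq
      compute_degree
  open Polynomial in
  have k : ∀ n, (C c₁ * X ^ (2 ^ (m + 1) + 2) + C c₂ * X ^ (2 ^ (m + 1)) + C c₃ * X ^ 2).coeff n = 0 := by
    simp [hP]
  simp only [Polynomial.coeff_add, Polynomial.coeff_C_mul_X_pow] at k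
  refine ⟨?_, ?_, ?_⟩
  · have := k (2 ^ (m + 1) + 2)
    simpa [show 2 ^ (m + 1) ≠ 0 by omega] using this
  · have := k (2 ^ (m + 1))
    simpa [show 2 ^ (m + 1) ≠ 2 by omega] using this
  · have := k 2
    simpa [show (2 : ℕ) ≠ 2 ^ (m + 1) by omega, show (2:ℕ) ≠ 2 ^ (m + 1) + 2 by omega] using this

lemma diag_of_preserves (hm : 1 ≤ m) {g : Matrix (Fin 4) (Fin 4) F} (hg : Preserves m g) (hdet : g.det = 1)
    (hi : ∃ c : F, c ≠ 0 ∧ g *ᵥ inf0 F = c • inf0 F)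
    (hp : ∃ c : F, c ≠ 0 ∧ g *ᵥ pt m 0 0 = c • pt m 0 0) : ∃ b, b ≠ 0 ∧ g = dgMat m b := by
  haveI := h.charTwo
  have t := h.two0
  obtain ⟨α, hα, hi⟩ := hi
  obtain ⟨δ, hδ, hp⟩ := hp
  have hinj := mulVec_inj_of_det hdet
  obtain ⟨g31, g32⟩ := h.row3_of_preserves hg hinj hα hi hp
  have hinjw : Function.Injective (wMat F * g * wMat F).mulVec :=
    mulVec_inj_of_det (by rw [Matrix.det_mul, Matrix.det_mul, hdet, h.det_of_isSzMat h.isSzMat_wMat]; simp)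
  obtain ⟨w31, w32⟩ := h.row3_of_preserves ((h.preserves_wMat.mul hg).mul h.preserves_wMat) hinjw hδ
    (by rw [← Matrix.mulVec_mulVec, ← Matrix.mulVec_mulVec, h.wMat_inf0, hp, Matrix.mulVec_smul, h.wMat_pt_zero])
    (by rw [← Matrix.mulVec_mulVec, ← Matrix.mulVec_mulVec, h.wMat_pt_zero, hi, Matrix.mulVec_smul, h.wMat_inf0])
  simp [wMat, Matrix.mul_apply, Matrix.vecMul, dotProduct, Fin.sum_univ_four] at w31 w32
  have col0 : ∀ i, g i 0 = (α • inf0 F) i := fun i => by rw [← hi, mulVec_inf0]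
  have col3 : ∀ i, g i 3 = (δ • pt m 0 0) i := fun i => by rw [← hp, mulVec_pt_zero]
  have g00 := col0 0; have g10 := col0 1; have g20 := col0 2; have g30 := col0 3
  have g03 := col3 0; have g13 := col3 1; have g23 := col3 2; have g33 := col3 3
  simp [inf0] at g00 g10 g20 g30
  simp [pt, zfun, sg_zero] at g03 g13 g23 g33
  have key : ∀ x y : F, α * zfun m x y =
      δ * zfun m ((g 2 1 * y + g 2 2 * x) / δ) ((g 1 1 * y + g 1 2 * x) / δ) := by
    intro x y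
    obtain ⟨c, hc, hv | ⟨X, Y, hv⟩⟩ := hg _ (isOvVec_pt m x y)
    · exfalso
      have h3 := congrFun hv 3
      simp [Matrix.mulVec, dotProduct, Fin.sum_univ_four, pt, inf0, g30, g31, g32, g33, hδ] at h3
    · have k0 := congrFun hv 0; have k1 := congrFun hv 1; have k2 := congrFun hv 2; have k3 := congrFun hv 3
      simp [Matrix.mulVec, dotProduct, Fin.sum_univ_four, pt, g00, g03, g30, g31, g32, g33, g10, g13, g20, g23, w31, w32] at k0 k1 k2 k3
      subst k3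
      rw [k1, k2, mul_div_cancel_left₀ _ hδ, mul_div_cancel_left₀ _ hδ, k0]
  have kx : ∀ x : F, (α / δ - sg m (g 2 2 / δ) * (g 2 2 / δ) ^ 2) * (sg m x * x ^ 2) +
      (-sg m (g 1 2 / δ)) * sg m x + (-(g 2 2 / δ * (g 1 2 / δ))) * x ^ 2 = 0 := by
    intro x
    have hk := key x 0
    simp only [mul_zero, zero_add, zfun, sg_zero, add_zero, mul_div_right_comm _ x δ, sg_mul, mul_pow] at hk
    rw [div_eq_mul_inv α δ]
    linear_combination δ⁻¹ * hk + (g 2 2 / δ * x * (g 1 2 / δ * x) + sg m (g 2 2 / δ) * sg m x * ((g 2 2 / δ) ^ 2 * x ^ 2) + sg m (g 1 2 / δ) * sg m x) * inv_mul_cancel₀ hδ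
  obtain ⟨hx1, hx2, -⟩ := h.coeff_vanish hm kx
  have g12 : g 1 2 = 0 := by simpa [sg_eq_zero, hδ] using hx2
  have ky : ∀ y : F, (-(sg m (g 2 1 / δ) * (g 2 1 / δ) ^ 2)) * (sg m y * y ^ 2) +
      (α / δ - sg m (g 1 1 / δ)) * sg m y + (-(g 2 1 / δ * (g 1 1 / δ))) * y ^ 2 = 0 := by
    intro y
    have hk := key 0 y
    simp only [mul_zero, zero_mul, add_zero, zero_add, zfun, sg_zero, mul_div_right_comm _ y δ, sg_mul, mul_pow] at hk
    rw [div_eq_mul_inv α δ]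
    linear_combination δ⁻¹ * hk + (g 2 1 / δ * y * (g 1 1 / δ * y) + sg m (g 2 1 / δ) * sg m y * ((g 2 1 / δ) ^ 2 * y ^ 2) + sg m (g 1 1 / δ) * sg m y) * inv_mul_cancel₀ hδ
  obtain ⟨hy1, hy2, -⟩ := h.coeff_vanish hm ky
  have g21 : g 2 1 = 0 := by
    simpa [sg_eq_zero, hδ] using hy1
  have hA : α / δ = sg m (g 2 2 / δ) * (g 2 2 / δ) ^ 2 := sub_eq_zero.1 hx1
  have hT : α / δ = sg m (g 1 1 / δ) := sub_eq_zero.1 hy2
  have hPT : α / δ = g 2 2 / δ * (g 1 1 / δ) := by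
    have hk := key 1 1
    simp only [g12, g21, zero_mul, zero_add, add_zero, mul_one, zfun, sg_one, one_pow] at hk
    rw [div_eq_mul_inv α δ]
    linear_combination δ⁻¹ * hk - hA - hT + (g 2 2 / δ * (g 1 1 / δ) + sg m (g 2 2 / δ) * (g 2 2 / δ) ^ 2 + sg m (g 1 1 / δ)) * inv_mul_cancel₀ hδ
  have hg' : g = Matrix.diagonal ![α, g 1 1, g 2 2, δ] := by
    ext i j
    fin_cases i <;> fin_cases j <;> simp [g00, g10, g20, g30, g03, g13, g23, g33, g31, g32, w31, w32, g12, g21]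
  have hdet' : α * g 1 1 * g 2 2 * δ = 1 := by
    rw [hg', Matrix.det_diagonal] at hdet
    simpa [Fin.prod_univ_four] using hdet
  have h11 : g 1 1 * g 2 2 = α * δ := by
    field_simp at hPT
    linear_combination -hPT
  have hαδ : α * δ = 1 := CharTwo.sq_injective (by linear_combination hdet' - (α * δ) * h11)
  have hb : g 1 1 ≠ 0 := left_ne_zero_of_mul_eq_one (h11.trans hαδ)
  refine ⟨g 1 1, hb, ?_⟩
  have g22 : g 2 2 = (g 1 1)⁻¹ := eq_inv_of_mul_eq_one_right (h11.trans hαδ)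
  have hδ' : δ = α⁻¹ := eq_inv_of_mul_eq_one_right hαδ
  have hα' : α = sg m (g 1 1) * g 1 1 := by
    rw [hδ', div_inv_eq_mul, div_inv_eq_mul] at hT
    rw [sg_mul] at hT
    have h2 : sg m (α * α) = sg m (sg m (g 1 1)) * sg m (sg m α) := by rw [hT, sg_mul]
    rw [h.sg_sg, h.sg_sg, sg_mul] at h2
    have hh : sg m α = g 1 1 * α := CharTwo.sq_injective (by linear_combination h2)
    apply mul_left_cancel₀ hα
    linear_combination hT + sg m (g 1 1) * hh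
  rw [g22, hδ'] at hg'
  exact hg'.trans (by rw [dgMat, ← hα'])

lemma inBruhat_of_preserves (hm : 1 ≤ m) {g : Matrix (Fin 4) (Fin 4) F} (hg : Preserves m g) (hdet : g.det = 1) :
    InBruhat m g :=
  h.inBruhat_of (P := fun k => Preserves m k ∧ k.det = 1)
    (fun a b _ hk => ⟨(h.preserves_utMat a b).mul hk.1, by
      rw [Matrix.det_mul, h.det_of_isSzMat (h.isSzMat_utMat a b), hk.2, one_mul]⟩)
    (fun _ hk => ⟨h.preserves_wMat.mul hk.1, by
      rw [Matrix.det_mul, h.det_of_isSzMat h.isSzMat_wMat, hk.2, one_mul]⟩)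
    (fun _ hk => hk.1 _ (isOvVec_inf0 m)) (fun _ hk => hk.1 _ (isOvVec_pt m 0 0))
    (fun _ hk => mulVec_inj_of_det hk.2) (fun _ hk => h.diag_of_preserves hm hk.1 hk.2) ⟨hg, hdet⟩

/-! ### The two groups -/

lemma mem_Sz_iff_preserves (g : Matrix.SpecialLinearGroup (Fin 4) F) :
    g ∈ Cfsg.Sz F m ↔ Preserves m (g : Matrix (Fin 4) (Fin 4) F) := by
  show g • Cfsg.suzukiOvoid F m = Cfsg.suzukiOvoid F m ↔ _
  constructor
  · intro hg v hv
    have hv0 : v ≠ 0 := by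
      obtain ⟨c, hc, rfl | ⟨x, y, rfl⟩⟩ := hv
      · exact smul_ne_zero hc inf0_ne
      · exact smul_ne_zero hc (pt_ne m x y)
    have h1 := Set.smul_mem_smul_set (a := g) ((mk_mem_ovoid_iff m v hv0).2 hv)
    rw [hg, Projectivization.smul_mk] at h1
    exact (mk_mem_ovoid_iff m _ _).1 h1
  · intro hg
    refine Set.eq_of_subset_of_ncard_le ?_ ?_ (Set.toFinite _)
    · rintro _ ⟨p, hp, rfl⟩
      obtain ⟨v, hv, rfl⟩ : ∃ v hv, p = Projectivization.mk F v hv :=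
        ⟨p.rep, p.rep_nonzero, (Projectivization.mk_rep p).symm⟩
      show g • Projectivization.mk F v hv ∈ _
      rw [Projectivization.smul_mk]
      exact (mk_mem_ovoid_iff m _ _).2 (hg v ((mk_mem_ovoid_iff m v hv).1 hp))
    · rw [Set.ncard_smul_set]

lemma mem_Sz_iff (hm : 1 ≤ m) (g : Matrix.SpecialLinearGroup (Fin 4) F) :
    g ∈ Cfsg.Sz F m ↔ InBruhat m (g : Matrix (Fin 4) (Fin 4) F) :=
  (h.mem_Sz_iff_preserves g).trans ⟨fun hg => h.inBruhat_of_preserves hm hg g.2, h.preserves_of_inBruhat⟩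

/-- The two models of the Suzuki group agree. -/
theorem lieSz_eq_map (hm : 1 ≤ m) :
    Cfsg.Lie.Sz F (2 ^ (m + 1)) = (Cfsg.Sz F m).map Matrix.SpecialLinearGroup.toGL := by
  apply le_antisymm
  · refine (Subgroup.closure_le _).2 fun g hg => ?_
    have hsz : IsSzMat m (g : Matrix (Fin 4) (Fin 4) F) := ⟨(mem_Sp4_iff g).1 hg.1, hg.2⟩
    refine ⟨⟨g, h.det_of_isSzMat hsz⟩, (h.mem_Sz_iff hm _).2 (h.inBruhat_of_isSzMat hsz), ?_⟩
    apply Units.ext
    rfl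
  · rintro _ ⟨g, hg, rfl⟩
    have hsz := h.isSzMat_of_inBruhat ((h.mem_Sz_iff hm g).1 hg)
    exact Subgroup.subset_closure ⟨(mem_Sp4_iff _).2 hsz.1, hsz.2⟩

end IsSzField

/-- The isomorphism between the two models of the Suzuki group. -/
noncomputable def szEquiv (h : IsSzField F m) (hm : 1 ≤ m) :
    Cfsg.Sz F m ≃* Cfsg.Lie.Sz F (2 ^ (m + 1)) :=
  ((Cfsg.Sz F m).equivMapOfInjective Matrix.SpecialLinearGroup.toGL
      Matrix.SpecialLinearGroup.toGL_injective).trans (MulEquiv.subgroupCongr (h.lieSz_eq_map hm).symm)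

end Cfsg.Agent.Lib.LieTwisted.Suzuki
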