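import Cfsg.Agent.Lib.LieTwisted.SuzukiStructure

/-!
Transport of facts about the root group `unip h` of the Suzuki group to an arbitrary Sylow
2-subgroup; the regularity of the root group on the cosets of its normaliser.
-/

set_option autoImplicit false
set_option linter.unusedSectionVars false
set_option linter.style.haveILetI false

namespace Cfsg.Agent.Lib.LieTwisted.Suzuki

open scoped Pointwise

variable {F : Type*} [Field F] [Fintype F] {m : ℕ}

namespace IsSzField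

variable (h : IsSzField F m)
include h

lemma sylow_equiv (hm : 1 ≤ m) (P : Sylow 2 (Cfsg.Sz F m)) : Nonempty (↥(P : Subgroup (Cfsg.Sz F m)) ≃* ↥(unip h)) := by
  haveI : Fact (Nat.Prime 2) := ⟨Nat.prime_two⟩
  obtain ⟨S, hS⟩ := h.exists_sylow hm
  exact ⟨(P.equiv S).trans (MulEquiv.subgroupCongr hS)⟩

lemma conj_sylow (hm : 1 ≤ m) (P : Sylow 2 (Cfsg.Sz F m)) :
    ∃ g : Cfsg.Sz F m, (P : Subgroup (Cfsg.Sz F m)) = (unip h).map (MulAut.conj g).toMonoidHom := by
  haveI : Fact (Nat.Prime 2) := ⟨Nat.prime_two⟩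
  obtain ⟨S, hS⟩ := h.exists_sylow hm
  obtain ⟨g, hg⟩ := MulAction.exists_smul_eq (Cfsg.Sz F m) S P
  refine ⟨g, ?_⟩
  rw [← hg, Sylow.coe_subgroup_smul, hS]
  rfl

lemma unique_unip (hm : 1 ≤ m) {x y : Cfsg.Sz F m}
    (hx : x ∉ Subgroup.normalizer (unip h : Set (Cfsg.Sz F m)))
    (hy : y ∉ Subgroup.normalizer (unip h : Set (Cfsg.Sz F m))) :
    ∃! s : unip h, ((s : Cfsg.Sz F m) * x)⁻¹ * y ∈ Subgroup.normalizer (unip h : Set (Cfsg.Sz F m)) := by
  simp only [h.normalizer_unip hm, ← opt_none (m := m), MulAction.mem_stabilizer_iff] at hx hy ⊢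
  obtain ⟨p, hp⟩ := h.exists_opt_eq_smul hm x
  obtain ⟨q, hq⟩ := h.exists_opt_eq_smul hm y
  rcases p with _ | ⟨a, b⟩
  · exact absurd hp hx
  rcases q with _ | ⟨c, d⟩
  · exact absurd hq hy
  have key : ∀ s : Cfsg.Sz F m, ((s * x)⁻¹ * y) • opt m (none : Option (F × F)) = opt m none ↔
      s • opt m (some (a, b)) = opt m (some (c, d)) := by
    intro s
    rw [mul_smul, inv_smul_eq_iff, mul_smul, hq, hp, eq_comm]
  refine ⟨⟨uS h c d * (uS h a b)⁻¹, mul_mem (h.uS_mem _ _) (inv_mem (h.uS_mem _ _))⟩, ?_, ?_⟩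
  · simp only [key]
    rw [mul_smul, inv_smul_eq_iff.2 (h.uS_smul_zero a b).symm, h.uS_smul_zero]
  · rintro ⟨s, hs⟩ hsy
    rw [key] at hsy
    apply Subtype.ext
    show s = uS h c d * (uS h a b)⁻¹
    obtain ⟨c', d', hs'⟩ := mul_mem hs (h.uS_mem a b)
    rw [← h.uS_smul_zero a b, ← mul_smul, hs', h.uS_smul_zero] at hsy
    obtain ⟨rfl, rfl⟩ := Prod.ext_iff.1 (Option.some.inj (opt_injective hsy))
    exact eq_mul_inv_of_mul_eq hs'

lemma index_normalizer (hm : 1 ≤ m) :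
    (Subgroup.normalizer (unip h : Set (Cfsg.Sz F m))).index = Fintype.card F ^ 2 + 1 := by
  have h1 := (Subgroup.normalizer (unip h : Set (Cfsg.Sz F m))).card_mul_index
  rw [h.normalizer_unip hm, h.card_stabilizer hm, h.card_group hm] at h1
  rw [h.normalizer_unip hm]
  have hq : 0 < Fintype.card F ^ 2 * (Fintype.card F - 1) :=
    Nat.mul_pos (pow_pos Fintype.card_pos 2) (by have := h.two_lt_card hm; omega)
  refine Nat.eq_of_mul_eq_mul_left hq ?_
  rw [h1]; ring

end IsSzField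

end Cfsg.Agent.Lib.LieTwisted.Suzuki
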