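import Cfsg.Agent.Lib.LieTwisted.SuzukiSylow
import Cfsg.Agent.Lib.AutPSL.Card
import Cfsg.Prelude.Def_KGroupFacts

/-!
`Out (Sz F m)` consists of the field automorphisms only.
-/

set_option autoImplicit false
set_option linter.unusedSectionVars false
set_option linter.style.haveILetI false

namespace Cfsg.Agent.Lib.LieTwisted.Suzuki

variable {F : Type*} [Field F] [Fintype F] {m : ℕ}

lemma ringEquiv_sg (ρ : F ≃+* F) (x : F) : ρ (sg m x) = sg m (ρ x) := map_pow ρ x _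

namespace IsSzField

variable (h : IsSzField F m)
include h

lemma map_mem_Sz (hm : 1 ≤ m) (ρ : F ≃+* F) {g : Matrix.SpecialLinearGroup (Fin 4) F}
    (hg : g ∈ Cfsg.Sz F m) : Matrix.SpecialLinearGroup.map ρ.toRingHom g ∈ Cfsg.Sz F m := by
  rw [h.mem_Sz_iff hm] at hg ⊢
  have hu : ∀ a b, (utMat m a b).map ρ.toRingHom = utMat m (ρ a) (ρ b) := fun a b => by
    ext i j; fin_cases i <;> fin_cases j <;> simp [utMat, zfun, ringEquiv_sg]
  have hd : ∀ e, (dgMat m e).map ρ.toRingHom = dgMat m (ρ e) := fun e => by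
    ext i j; fin_cases i <;> fin_cases j <;> simp [dgMat, ringEquiv_sg]
  have hw : (wMat F).map ρ.toRingHom = wMat F := by
    ext i j; fin_cases i <;> fin_cases j <;> simp [wMat]
  obtain ⟨a, b, e, he, hg | ⟨x, y, hg⟩⟩ := hg
  · refine ⟨ρ a, ρ b, ρ e, by simpa using he, Or.inl ?_⟩
    show (g : Matrix (Fin 4) (Fin 4) F).map ρ.toRingHom = _
    rw [hg, Matrix.map_mul, hu, hd]
  · refine ⟨ρ a, ρ b, ρ e, by simpa using he, Or.inr ⟨ρ x, ρ y, ?_⟩⟩
    show (g : Matrix (Fin 4) (Fin 4) F).map ρ.toRingHom = _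
    rw [hg, Matrix.map_mul, Matrix.map_mul, Matrix.map_mul, hu, hu, hd, hw]

/-- The automorphism given by a field automorphism. -/
def fieldMap (hm : 1 ≤ m) (ρ : F ≃+* F) : Cfsg.Sz F m ≃* Cfsg.Sz F m where
  toFun g := ⟨Matrix.SpecialLinearGroup.map ρ.toRingHom g.1, h.map_mem_Sz hm ρ g.2⟩
  invFun g := ⟨Matrix.SpecialLinearGroup.map ρ.symm.toRingHom g.1, h.map_mem_Sz hm ρ.symm g.2⟩
  left_inv g := Subtype.ext (Subtype.ext (by ext i j; exact ρ.symm_apply_apply _))
  right_inv g := Subtype.ext (Subtype.ext (by ext i j; exact ρ.apply_symm_apply _))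
  map_mul' g k := Subtype.ext (map_mul (Matrix.SpecialLinearGroup.map ρ.toRingHom) g.1 k.1)

/-- Field automorphisms as a homomorphism. -/
def fieldHom (hm : 1 ≤ m) : (F ≃+* F) →* MulAut (Cfsg.Sz F m) where
  toFun ρ := h.fieldMap hm ρ
  map_one' := MulEquiv.ext fun g => Subtype.ext (Subtype.ext (by ext i j; rfl))
  map_mul' ρ ρ' := MulEquiv.ext fun g => Subtype.ext (Subtype.ext (by ext i j; rfl))

lemma mat_fieldHom (hm : 1 ≤ m) (ρ : F ≃+* F) (g : Cfsg.Sz F m) :
    mat (h.fieldHom hm ρ g) = (mat g).map ρ := rfl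

lemma fieldHom_uS (hm : 1 ≤ m) (ρ : F ≃+* F) (a b : F) :
    h.fieldHom hm ρ (uS h a b) = uS h (ρ a) (ρ b) := mat_injective (by
  rw [h.mat_fieldHom, h.mat_uS, h.mat_uS]
  ext i j; fin_cases i <;> fin_cases j <;> simp [utMat, zfun, ringEquiv_sg])

lemma fieldHom_dS (hm : 1 ≤ m) (ρ : F ≃+* F) (e : Fˣ) :
    h.fieldHom hm ρ (dS h e) = dS h (Units.map (ρ : F →* F) e) := mat_injective (by
  rw [h.mat_fieldHom, h.mat_dS, h.mat_dS]
  ext i j; fin_cases i <;> fin_cases j <;> simp [dgMat, ringEquiv_sg])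

lemma fieldHom_wS (hm : 1 ≤ m) (ρ : F ≃+* F) : h.fieldHom hm ρ (wS h) = wS h := mat_injective (by
  rw [h.mat_fieldHom, h.mat_wS]
  ext i j; fin_cases i <;> fin_cases j <;> simp [wMat])

lemma fix_none_of_conj {g : Cfsg.Sz F m} (hm : 1 ≤ m) (hg : ∀ x ∈ unip h, g * x * g⁻¹ ∈ unip h) :
    g • opt m (none : Option (F × F)) = opt m none := by
  have hmem : g ∈ Subgroup.normalizer (unip h : Set (Cfsg.Sz F m)) := by
    rw [Subgroup.mem_normalizer_iff]
    refine fun x => ⟨hg x, fun hx => ?_⟩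
    have hmap : (unip h).map (MulAut.conj g).toMonoidHom = unip h := by
      refine Subgroup.eq_of_le_of_card_ge ?_ ?_
      · rintro _ ⟨y, hy, rfl⟩; exact hg y hy
      · rw [Subgroup.card_map_of_injective (MulAut.conj g).injective]
    obtain ⟨y, hy, hy'⟩ : g * x * g⁻¹ ∈ (unip h).map (MulAut.conj g).toMonoidHom := by rwa [hmap]
    obtain rfl : y = x := (MulAut.conj g).injective hy'
    exact hy
  rwa [h.normalizer_unip hm, ← opt_none (m := m), MulAction.mem_stabilizer_iff] at hmem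

lemma exists_dS_of_normalizes (hm : 1 ≤ m) {g : Cfsg.Sz F m} (hU : ∀ x ∈ unip h, g * x * g⁻¹ ∈ unip h)
    (hV : ∀ x ∈ unip h, (wS h * g * wS h) * x * (wS h * g * wS h)⁻¹ ∈ unip h) : ∃ e, g = dS h e := by
  refine h.eq_of_fix_two hm (h.fix_none_of_conj hm hU) ?_
  have := congrArg (fun p => wS h • p) (h.fix_none_of_conj hm hV)
  simp only [← mul_smul] at this
  rw [show wS h * (wS h * g * wS h) = g * wS h by rw [← mul_assoc, ← mul_assoc, h.wS_mul_self, one_mul],
    mul_smul, h.wS_smul_none] at this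
  exact this

lemma torus_mul_inj {e : Fˣ} {c : F} (hc : c ≠ 0) (he : sg m (e : F) * (e : F) ^ 2 * c = c) : e = 1 := by
  have h3 : sg m (e : F) * (e : F) ^ 2 = 1 := mul_right_cancel₀ hc (by rw [he, one_mul])
  have h4 := congrArg (sg m) h3
  rw [sg_mul, sg_pow, h.sg_sg, sg_one] at h4
  haveI := h.charTwo
  have h5 : sg m (e : F) * e = 1 := CharTwo.sq_injective (by linear_combination h4)
  exact Units.ext (by rw [Units.val_one]; linear_combination h3 - (e : F) * h5)

lemma map_conj_uS_mem (hm : 1 ≤ m) (e : Fˣ) : ∀ x ∈ unip h, dS h e * x * (dS h e)⁻¹ ∈ unip h := by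
  rintro _ ⟨a, b, rfl⟩
  rw [h.dS_mul_uS, mul_inv_cancel_right]
  exact h.uS_mem _ _

lemma conj_dS_uS (e : Fˣ) (a b : F) :
    MulAut.conj (dS h e) (uS h a b) = uS h (sg m (e : F) * a) (sg m (e : F) * (e : F) ^ 2 * b) := by
  rw [MulAut.conj_apply, h.dS_mul_uS, mul_inv_cancel_right]

lemma wS_dS_wS (e : Fˣ) : wS h * dS h e * wS h = dS h e⁻¹ := by
  rw [h.wS_mul_dS, mul_assoc, h.wS_mul_self, mul_one]

/-- `φ` fixes `U` and `wUw`. -/
def Adapted (φ : MulAut (Cfsg.Sz F m)) : Prop :=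
  (∀ x, φ x ∈ unip h ↔ x ∈ unip h) ∧ ∀ x, wS h * φ x * wS h ∈ unip h ↔ wS h * x * wS h ∈ unip h

lemma Adapted.mul {φ ψ : MulAut (Cfsg.Sz F m)} (hφ : h.Adapted φ) (hψ : h.Adapted ψ) : h.Adapted (φ * ψ) :=
  ⟨fun x => (hφ.1 (ψ x)).trans (hψ.1 x), fun x => (hφ.2 (ψ x)).trans (hψ.2 x)⟩

lemma adapted_fieldHom (hm : 1 ≤ m) (ρ : F ≃+* F) : h.Adapted (h.fieldHom hm ρ) := by
  have key : ∀ x, h.fieldHom hm ρ x ∈ unip h ↔ x ∈ unip h := by
    intro x
    constructor
    · rintro ⟨a, b, hab⟩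
      refine ⟨ρ.symm a, ρ.symm b, (h.fieldHom hm ρ).injective ?_⟩
      rw [hab, h.fieldHom_uS, ρ.apply_symm_apply, ρ.apply_symm_apply]
    · rintro ⟨a, b, rfl⟩
      rw [h.fieldHom_uS]
      exact h.uS_mem _ _
  refine ⟨key, fun x => ?_⟩
  rw [← key (wS h * x * wS h), map_mul, map_mul, h.fieldHom_wS]

lemma conj_dS_mem_iff (hm : 1 ≤ m) (e : Fˣ) (x : Cfsg.Sz F m) :
    MulAut.conj (dS h e) x ∈ unip h ↔ x ∈ unip h := by
  refine ⟨fun hx => ?_, h.map_conj_uS_mem hm e x⟩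
  have := h.map_conj_uS_mem hm e⁻¹ _ hx
  rwa [MulAut.conj_apply, map_inv, inv_inv, show (dS h e)⁻¹ * (dS h e * x * (dS h e)⁻¹) * dS h e = x by group] at this

lemma adapted_conj_dS (hm : 1 ≤ m) (e : Fˣ) : h.Adapted (MulAut.conj (dS h e)) := by
  refine ⟨h.conj_dS_mem_iff hm e, fun x => ?_⟩
  rw [← h.conj_dS_mem_iff hm e⁻¹ (wS h * x * wS h)]
  suffices he : wS h * MulAut.conj (dS h e) x * wS h = MulAut.conj (dS h e⁻¹) (wS h * x * wS h) by rw [he]
  have h1 := h.wS_mul_dS e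
  have h2 : (dS h e)⁻¹ * wS h = wS h * (dS h e⁻¹)⁻¹ := by
    rw [map_inv, inv_inv, h.wS_mul_dS, map_inv]
  simp only [MulAut.conj_apply, mul_assoc] at h1 h2 ⊢
  rw [h2, ← mul_assoc, h1, mul_assoc]

lemma exists_adapted (hm : 1 ≤ m) (φ : MulAut (Cfsg.Sz F m)) :
    ∃ g : Cfsg.Sz F m, h.Adapted (MulAut.conj g * φ) := by
  haveI : Fact (Nat.Prime 2) := ⟨Nat.prime_two⟩
  have hwn : ¬ ∀ x, wS h * x * wS h ∈ unip h ↔ x ∈ unip h := by
    intro hx
    have := h.fix_none_of_conj hm (g := wS h) (fun x hxU => by rw [h.wS_inv]; exact (hx x).2 hxU)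
    rw [h.wS_smul_none] at this
    exact absurd (opt_injective this) (by simp)
  have sylow : ∀ χ : MulAut (Cfsg.Sz F m), ∃ g : Cfsg.Sz F m, ∀ y, y ∈ unip h ↔ g⁻¹ * χ y * g ∈ unip h := by
    intro χ
    have hp : IsPGroup 2 ((unip h).map χ.toMonoidHom) :=
      (IsPGroup.of_card (n := (2 * m + 1) * 2) (by rw [h.card_unip, h.card, pow_mul])).map _
    have hi : ¬ 2 ∣ ((unip h).map χ.toMonoidHom).index := by
      rw [MulEquiv.toMonoidHom_eq_coe, Subgroup.index_map_equiv]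
      exact h.index_odd hm
    obtain ⟨g, hg⟩ := h.conj_sylow hm (hp.toSylow hi)
    refine ⟨g, fun y => ?_⟩
    have hg' : (unip h).map χ.toMonoidHom = (unip h).map (MulAut.conj g).toMonoidHom := hg
    constructor
    · intro hy
      have hmem := Subgroup.mem_map_of_mem χ.toMonoidHom hy
      rw [hg'] at hmem
      obtain ⟨z, hz, hze⟩ := hmem
      rw [show χ y = g * z * g⁻¹ from hze.symm, show g⁻¹ * (g * z * g⁻¹) * g = z by group]
      exact hz
    · intro hy
      have hmem := Subgroup.mem_map_of_mem (MulAut.conj g).toMonoidHom hy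
      rw [← hg'] at hmem
      obtain ⟨z, hz, hze⟩ := hmem
      obtain rfl : z = y := χ.injective (hze.trans (by
        show g * (g⁻¹ * χ y * g) * g⁻¹ = χ y
        group))
      exact hz
  obtain ⟨g, hg⟩ := sylow φ
  obtain ⟨ψ, hψ⟩ : ∃ ψ : MulAut (Cfsg.Sz F m), ψ = MulAut.conj g⁻¹ * φ := ⟨_, rfl⟩
  have h1 : ∀ x, ψ x ∈ unip h ↔ x ∈ unip h := fun x => by
    rw [hψ, MulAut.mul_apply, MulAut.conj_apply, inv_inv, ← hg]
  obtain ⟨k, hk⟩ := sylow (ψ * MulAut.conj (wS h))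
  have hk' : ∀ x, wS h * x * wS h ∈ unip h ↔ k⁻¹ * ψ x * k ∈ unip h := by
    intro x
    rw [hk, MulAut.mul_apply, MulAut.conj_apply, h.wS_inv]
    simp only [← mul_assoc, h.wS_mul_self, one_mul]
    rw [mul_assoc x, h.wS_mul_self, mul_one]
  have hB : ∀ a b e z, (uS h a b * dS h e)⁻¹ * z * (uS h a b * dS h e) ∈ unip h ↔ z ∈ unip h := by
    intro a b e z
    rw [show (uS h a b * dS h e)⁻¹ * z * (uS h a b * dS h e) =
      MulAut.conj (dS h e⁻¹) ((uS h a b)⁻¹ * z * uS h a b) by rw [MulAut.conj_apply, map_inv, inv_inv]; group,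
      h.conj_dS_mem_iff hm]
    rw [Subgroup.mul_mem_cancel_right _ (h.uS_mem a b), Subgroup.mul_mem_cancel_left _ (inv_mem (h.uS_mem a b))]
  obtain ⟨a, b, e, rfl | ⟨x, y, rfl⟩⟩ := h.bruhat hm k
  · exact absurd (fun x => by rw [hk', hB, h1]) hwn
  refine ⟨(uS h x y)⁻¹ * g⁻¹, ?_⟩
  rw [map_mul, mul_assoc, ← hψ]
  refine ⟨fun z => ?_, fun z => ?_⟩
  · rw [MulAut.mul_apply, MulAut.conj_apply, inv_inv, Subgroup.mul_mem_cancel_right _ (h.uS_mem x y),
      Subgroup.mul_mem_cancel_left _ (inv_mem (h.uS_mem x y)), h1]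
  · rw [MulAut.mul_apply, MulAut.conj_apply, inv_inv, hk' z, ← hB a b e (wS h * ((uS h x y)⁻¹ * ψ z * uS h x y) * wS h)]
    simp only [_root_.mul_inv_rev, h.wS_inv, mul_assoc]

variable {φ : MulAut (Cfsg.Sz F m)}

lemma Adapted.map_dS (hm : 1 ≤ m) (hφ : h.Adapted φ) (e : Fˣ) : ∃ e', φ (dS h e) = dS h e' := by
  refine h.exists_dS_of_normalizes hm (fun x hx => ?_) fun x hx => ?_
  · obtain ⟨y, rfl⟩ := φ.surjective x
    rw [← map_inv, ← map_mul, ← map_mul, hφ.1]
    exact h.map_conj_uS_mem hm e y ((hφ.1 y).1 hx)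
  · rw [_root_.mul_inv_rev, _root_.mul_inv_rev, h.wS_inv]
    obtain ⟨y, hy⟩ := φ.surjective (wS h * x * wS h)
    have hxy : wS h * φ y * wS h = x := by
      rw [hy]; simp only [← mul_assoc, h.wS_mul_self, one_mul]; rw [mul_assoc x, h.wS_mul_self, mul_one]
    have e1 : wS h * φ (dS h e) * wS h * x * (wS h * ((φ (dS h e))⁻¹ * wS h)) =
        wS h * φ (dS h e * y * (dS h e)⁻¹) * wS h := by
      rw [map_mul, map_mul, map_inv, hy]; simp only [mul_assoc]
    rw [e1, hφ.2, ← h.conj_dS_mem_iff hm e]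
    have e2 : MulAut.conj (dS h e) (wS h * (dS h e * y * (dS h e)⁻¹) * wS h) = wS h * y * wS h := by
      have h5 : dS h e * wS h * dS h e = wS h := by
        rw [mul_assoc, h.wS_mul_dS, ← mul_assoc, ← map_mul, mul_inv_cancel, map_one, one_mul]
      have h6 : (dS h e)⁻¹ * wS h * (dS h e)⁻¹ = wS h := by
        rw [← h.wS_inv, mul_assoc, ← _root_.mul_inv_rev, ← _root_.mul_inv_rev, h5]
      rw [MulAut.conj_apply, show dS h e * (wS h * (dS h e * y * (dS h e)⁻¹) * wS h) * (dS h e)⁻¹ =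
        (dS h e * wS h * dS h e) * y * ((dS h e)⁻¹ * wS h * (dS h e)⁻¹) by group, h5, h6]
    rw [e2, ← hφ.2, hxy]
    exact hx

lemma uS_split (a b : F) : uS h a b = uS h 0 b * uS h a 0 := by
  simp [h.uS_mul, sg_zero]

lemma wS_uS01_not_fix (hm : 1 ≤ m) :
    (wS h * uS h 0 1 * wS h) • opt m (none : Option (F × F)) ≠ opt m none := by
  rw [mul_smul, mul_smul, h.wS_smul_none, h.uS_smul_zero]
  intro hh
  rw [← h.wS_smul_zero] at hh
  simpa using Prod.ext_iff.1 (Option.some.inj (opt_injective (smul_left_cancel _ hh)))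

/-- An adapted automorphism with trivial action on `U / Z(U)` is trivial. -/
lemma Adapted.eq_one (hm : 1 ≤ m) (hφ : h.Adapted φ) (hA : ∀ a, ∃ b, φ (uS h a 0) = uS h a b) : φ = 1 := by
  classical
  choose H hH using hA
  obtain ⟨Bf, hBf⟩ : ∃ Bf : F → F, ∀ b, φ (uS h 0 b) = uS h 0 (Bf b) := by
    choose r hr using h.sg_mul_self_surj (F := F) (m := m)
    refine ⟨fun b => sg m (r b) * r b, fun b => ?_⟩
    conv_lhs => rw [← hr b, ← h.uS_sq (r b) 0, map_pow, hH, h.uS_sq]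
  have hB1 : Bf 1 = 1 := by
    have h1 : φ (uS h (1 : F) 0 ^ 2) = φ (uS h 1 0) ^ 2 := map_pow φ _ 2
    rw [hH, h.uS_sq, h.uS_sq, hBf] at h1
    simpa [sg_one] using (h.uS_coords_inj h1).2
  have hT : ∀ e, φ (dS h e) = dS h e := by
    intro e
    obtain ⟨e', he'⟩ := hφ.map_dS h hm e
    have h1 : φ (dS h e * uS h 1 0) = φ (dS h e) * φ (uS h 1 0) := map_mul _ _ _
    rw [h.dS_mul_uS, map_mul, mul_zero, he', hH, hH, h.dS_mul_uS] at h1
    have h2 := (h.uS_coords_inj (mul_right_cancel h1)).1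
    rw [mul_one, mul_one] at h2
    rw [he', Units.ext (h.sg_injective h2)]
  have hBl : ∀ (e : Fˣ) b, Bf (sg m (e : F) * (e : F) ^ 2 * b) = sg m (e : F) * (e : F) ^ 2 * Bf b := by
    intro e b
    have h1 : φ (dS h e * uS h 0 b) = φ (dS h e) * φ (uS h 0 b) := map_mul _ _ _
    rw [h.dS_mul_uS, map_mul, mul_zero, hT, hBf, hBf, h.dS_mul_uS] at h1
    exact (h.uS_coords_inj (mul_right_cancel h1)).2
  have hHl : ∀ (e : Fˣ) a, H (sg m (e : F) * a) = sg m (e : F) * (e : F) ^ 2 * H a := by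
    intro e a
    have h1 : φ (dS h e * uS h a 0) = φ (dS h e) * φ (uS h a 0) := map_mul _ _ _
    rw [h.dS_mul_uS, map_mul, mul_zero, hT, hH, hH, h.dS_mul_uS] at h1
    exact (h.uS_coords_inj (mul_right_cancel h1)).2
  have surj : ∀ c : F, c ≠ 0 → ∃ e : Fˣ, sg m (e : F) * (e : F) ^ 2 = c := by
    have hinj : Function.Injective (fun e : Fˣ => Units.mk0 (sg m (e : F) * (e : F) ^ 2)
        (mul_ne_zero (mt sg_eq_zero.1 e.ne_zero) (pow_ne_zero 2 e.ne_zero))) := by
      intro e f hef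
      have h1 : sg m (e : F) * (e : F) ^ 2 = sg m (f : F) * (f : F) ^ 2 := congrArg Units.val hef
      refine mul_inv_eq_one.1 (h.torus_mul_inj
        (c := sg m (f : F) * (f : F) ^ 2) (mul_ne_zero (mt sg_eq_zero.1 f.ne_zero) (pow_ne_zero 2 f.ne_zero)) ?_)
      conv_rhs => rw [← h1]
      rw [Units.val_mul, sg_mul, Units.val_inv_eq_inv_val, sg_inv, mul_pow, inv_pow]
      have := f.ne_zero
      have : sg m (f : F) ≠ 0 := mt sg_eq_zero.1 f.ne_zero
      field_simp
    intro c hc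
    obtain ⟨e, he⟩ := Finite.surjective_of_injective hinj (Units.mk0 c hc)
    exact ⟨e, congrArg Units.val he⟩
  have hB : ∀ b, Bf b = b := by
    intro b
    by_cases hb : b = 0
    · subst hb
      have h1 := hBf 0
      rw [h.uS_zero, map_one, ← h.uS_zero] at h1
      exact ((h.uS_coords_inj h1).2).symm
    · obtain ⟨e, he⟩ := surj b hb
      have := hBl e 1
      rwa [mul_one, hB1, mul_one, he] at this
  have hHadd : ∀ a c, H (a + c) = H a + H c := by
    intro a c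
    have h1 : φ (uS h a 0 * uS h c 0) = φ (uS h a 0) * φ (uS h c 0) := map_mul _ _ _
    rw [h.uS_mul, h.uS_split (a + c), map_mul, hBf, hH, hH, hH, h.uS_mul, h.uS_mul, hB] at h1
    have h2 := (h.uS_coords_inj h1).2
    rw [sg_zero] at h2
    linear_combination h2
  have hH1 : ∀ a, H a = sg m a * a * H 1 := by
    intro a
    by_cases ha : a = 0
    · subst ha
      have := hHadd 0 0
      rw [add_zero] at this
      rw [sg_zero]
      linear_combination -this
    · obtain ⟨e, he⟩ := h.sg_surjective a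
      have he0 : e ≠ 0 := by rintro rfl; exact ha (by rw [← he, sg_zero])
      have := hHl (Units.mk0 e he0) 1
      rw [Units.val_mk0, mul_one, he] at this
      rw [this, ← he, h.sg_sg]
      ring
  have hd : H 1 = 0 := by
    obtain ⟨t, ht0, ht1⟩ := h.exists_ne01 hm
    have := hHadd 1 t
    rw [hH1 (1 + t), hH1 t, h.sg_add, sg_one] at this
    have hne : t + sg m t ≠ 0 := fun hz => h.sg_ne_self ht0 ht1 (by linear_combination hz - t * h.two0)
    refine (mul_eq_zero.1 (?_ : (t + sg m t) * H 1 = 0)).resolve_left hne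
    linear_combination this
  have hU : ∀ a b, φ (uS h a b) = uS h a b := by
    intro a b
    rw [h.uS_split a b, map_mul, hBf, hB, hH, hH1, hd, mul_zero]
  obtain ⟨v, hv⟩ : ∃ v, φ (wS h) = v := ⟨_, rfl⟩
  have hv2 : v * v = 1 := by rw [← hv, ← map_mul, h.wS_mul_self, map_one]
  have hvi : v⁻¹ = v := inv_eq_of_mul_eq_one_right hv2
  obtain ⟨e, he⟩ : ∃ e, wS h * v = dS h e := by
    refine h.exists_dS_of_normalizes hm (fun x hx => ?_) (fun x hx => ?_)
    · rw [_root_.mul_inv_rev, hvi, h.wS_inv, show wS h * v * x * (v * wS h) = wS h * (v * x * v) * wS h by group]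
      obtain ⟨a, b, rfl⟩ := hx
      rw [← hU a b, ← hv, ← map_mul, ← map_mul, hφ.2]
      simp only [← mul_assoc, h.wS_mul_self, one_mul]
      rw [mul_assoc, h.wS_mul_self, mul_one]
      exact h.uS_mem a b
    · rw [show wS h * (wS h * v) * wS h = v * wS h by rw [← mul_assoc (wS h) (wS h), h.wS_mul_self, one_mul]]
      obtain ⟨y, rfl⟩ := φ.surjective (wS h * x * wS h)
        |>.imp fun y hy => (show x = wS h * φ y * wS h by
          rw [hy]; simp only [← mul_assoc, h.wS_mul_self, one_mul]; rw [mul_assoc x, h.wS_mul_self, mul_one])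
      rw [hφ.2] at hx
      rw [_root_.mul_inv_rev, hvi, h.wS_inv, show v * wS h * (wS h * φ y * wS h) * (wS h * v) =
        v * ((wS h * wS h) * φ y * (wS h * wS h)) * v by group, h.wS_mul_self, one_mul, mul_one,
        ← hv, ← map_mul, ← map_mul, hφ.1]
      exact hx
  have hve : v = wS h * dS h e := by rw [← he, ← mul_assoc, h.wS_mul_self, one_mul]
  have he1 : e = 1 := by
    have hnf := h.wS_uS01_not_fix hm
    obtain ⟨a, b, t, hg | ⟨x, y, hg⟩⟩ := h.bruhat hm (wS h * uS h 0 1 * wS h)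
    · rw [hg, mul_smul, h.dS_smul_none, h.uS_smul_none] at hnf
      exact absurd rfl hnf
    have hφg := congrArg φ hg
    simp only [map_mul, hU, hT, hv] at hφg
    have e1 := congrArg (fun g => g • opt m (none : Option (F × F))) hg
    have e2 := congrArg (fun g => g • opt m (none : Option (F × F))) hφg
    simp only [hve, mul_smul, h.dS_smul_none, h.uS_smul_none, h.wS_smul_none, h.uS_smul_zero, h.dS_smul_some,
      mul_zero, mul_one] at e1 e2
    rw [← e1] at e2
    have h3 := (Prod.ext_iff.1 (Option.some.inj (opt_injective (smul_left_cancel _ e2)))).2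
    exact h.torus_mul_inj one_ne_zero (by rw [mul_one]; exact h3)
  rw [he1, map_one, mul_one] at hve
  have htop : MonoidHom.eqLocus φ.toMonoidHom (MonoidHom.id _) = ⊤ := by
    refine h.eq_top_of_unips hm hU fun a b => ?_
    show φ (wS h * uS h a b * wS h) = wS h * uS h a b * wS h
    rw [map_mul, map_mul, hv, hU, hve]
  refine MulEquiv.ext fun g => ?_
  exact (show g ∈ MonoidHom.eqLocus φ.toMonoidHom (MonoidHom.id _) by rw [htop]; trivial)

/-- Every adapted automorphism is a torus element times a field automorphism. -/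
lemma Adapted.decomp (hm : 1 ≤ m) (hφ : h.Adapted φ) :
    ∃ e ρ, φ = MulAut.conj (dS h e) * h.fieldHom hm ρ := by
  classical
  obtain ⟨A, hA⟩ : ∃ A : F → F, ∀ a, ∃ b, φ (uS h a 0) = uS h (A a) b := by
    choose A B hAB using fun a => (hφ.1 _).2 (h.uS_mem a 0)
    exact ⟨A, fun a => ⟨B a, hAB a⟩⟩
  choose B hB using hA
  have hZ : ∀ b, ∃ c, φ (uS h 0 b) = uS h 0 c := by
    intro b
    obtain ⟨r, rfl⟩ := h.sg_mul_self_surj b
    exact ⟨sg m (A r) * A r, by rw [← h.uS_sq r 0, map_pow, hB, h.uS_sq]⟩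
  have hadd : ∀ a c, A (a + c) = A a + A c := by
    intro a c
    obtain ⟨z, hz⟩ := hZ (0 + 0 + sg m a * c)
    have h1 : φ (uS h a 0 * uS h c 0) = φ (uS h a 0) * φ (uS h c 0) := map_mul _ _ _
    rw [h.uS_mul, h.uS_split (a + c), map_mul, hz, hB, hB, hB, h.uS_mul, h.uS_mul, zero_add] at h1
    exact (h.uS_coords_inj h1).1
  have hA0 : A 0 = 0 := by have := hadd 0 0; rw [add_zero] at this; linear_combination -this
  have hmul : ∀ x : F, x ≠ 0 → ∃ P, ∀ a, A (x * a) = P * A a := by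
    intro x hx
    obtain ⟨e, he⟩ := h.sg_surjective x
    have he0 : e ≠ 0 := by rintro rfl; exact hx (by rw [← he, sg_zero])
    obtain ⟨e', he'⟩ := hφ.map_dS h hm (Units.mk0 e he0)
    refine ⟨sg m (e' : F), fun a => ?_⟩
    have h1 : φ (dS h (Units.mk0 e he0) * uS h a 0) = φ (dS h (Units.mk0 e he0)) * φ (uS h a 0) := map_mul _ _ _
    rw [h.dS_mul_uS, map_mul, mul_zero, he', hB, hB, h.dS_mul_uS, Units.val_mk0, he] at h1
    exact (h.uS_coords_inj (mul_right_cancel h1)).1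
  have hc : A 1 ≠ 0 := by
    intro hc
    obtain ⟨r, hr⟩ := h.sg_mul_self_surj (B 1)
    obtain ⟨z, hz⟩ := hZ (sg m r * r)
    have hall : ∀ a, A a = 0 := by
      intro a
      by_cases ha : a = 0
      · rw [ha, hA0]
      · obtain ⟨P, hP⟩ := hmul a ha
        have := hP 1
        rw [mul_one, hc, mul_zero] at this
        exact this
    obtain ⟨y, hy⟩ := φ.surjective (uS h 1 0)
    obtain ⟨a, b, rfl⟩ := (hφ.1 y).1 (by rw [hy]; exact h.uS_mem 1 0)
    obtain ⟨c, hc'⟩ := hZ b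
    rw [h.uS_split, map_mul, hc', hB, h.uS_mul, hall] at hy
    simpa using (h.uS_coords_inj hy).1
  have hone : ∀ x a, A (x * a) * A 1 = A x * A a := by
    intro x a
    by_cases hx : x = 0
    · subst hx; rw [zero_mul, hA0, zero_mul, zero_mul]
    · obtain ⟨P, hP⟩ := hmul x hx
      have := hP 1
      rw [mul_one] at this
      rw [hP, this]
      ring
  let ρ0 : F →+* F :=
    { toFun := fun x => A x / A 1
      map_one' := div_self hc
      map_mul' := fun x y => by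
        field_simp
        linear_combination hone x y
      map_zero' := by rw [hA0, zero_div]
      map_add' := fun x y => by rw [hadd, add_div] }
  let ρ : F ≃+* F := RingEquiv.ofBijective ρ0 ⟨ρ0.injective, Finite.surjective_of_injective ρ0.injective⟩
  have hρ : ∀ x, A x = A 1 * ρ x := fun x => by
    show A x = A 1 * (A x / A 1)
    field_simp
  obtain ⟨e, he⟩ := h.sg_surjective (A 1)
  have he0 : e ≠ 0 := by rintro rfl; exact hc (by rw [← he, sg_zero])
  refine ⟨Units.mk0 e he0, ρ, ?_⟩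
  rw [← inv_mul_eq_iff_eq_mul, ← mul_inv_eq_one]
  have hψ : h.Adapted ((MulAut.conj (dS h (Units.mk0 e he0)))⁻¹ * φ) := by
    rw [← map_inv MulAut.conj, ← map_inv]
    exact Adapted.mul h (h.adapted_conj_dS hm _) hφ
  rw [← map_inv (h.fieldHom hm)]
  have hψ' := Adapted.mul h (h.adapted_fieldHom hm ρ⁻¹) hψ
  have key := hψ'.eq_one h hm fun a => by
    rw [MulAut.mul_apply, MulAut.mul_apply, hB, ← map_inv MulAut.conj, ← map_inv, h.conj_dS_uS, h.fieldHom_uS]
    refine ⟨_, congrArg (fun z => uS h z _) ?_⟩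
    rw [Units.val_inv_eq_inv_val, Units.val_mk0, sg_inv, he, hρ a, ← mul_assoc, inv_mul_cancel₀ hc, one_mul]
    exact ρ.symm_apply_apply a
  exact mul_eq_one_comm.1 key

theorem card_out (hm : 1 ≤ m) : Nat.card (Cfsg.Out (Cfsg.Sz F m)) = 2 * m + 1 := by
  haveI : Fact (Nat.Prime 2) := ⟨Nat.prime_two⟩
  rw [← Cfsg.Agent.Lib.AutPSL.card_fieldAuts h.card]
  refine (Nat.card_eq_of_bijective (fun ρ => (QuotientGroup.mk (h.fieldHom hm ρ) : Cfsg.Out (Cfsg.Sz F m))) ⟨?_, ?_⟩).symm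
  · intro ρ ρ' hρ
    obtain ⟨g, hg⟩ := QuotientGroup.eq.1 hρ
    rw [← map_inv, ← map_mul] at hg
    have had := h.adapted_fieldHom hm (ρ⁻¹ * ρ')
    rw [← hg] at had
    obtain ⟨e, rfl⟩ : ∃ e, g = dS h e := by
      refine h.exists_dS_of_normalizes hm (fun x hx => (had.1 x).2 hx) fun x hx => ?_
      rw [_root_.mul_inv_rev, _root_.mul_inv_rev, h.wS_inv,
        show wS h * g * wS h * x * (wS h * (g⁻¹ * wS h)) = wS h * MulAut.conj g (wS h * x * wS h) * wS h by
          rw [MulAut.conj_apply]; group, had.2]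
      simp only [← mul_assoc, h.wS_mul_self, one_mul]
      rwa [mul_assoc x, h.wS_mul_self, mul_one]
    have h1 := DFunLike.congr_fun hg (uS h 1 0)
    rw [h.conj_dS_uS, h.fieldHom_uS, map_one, mul_one] at h1
    have he : e = 1 := Units.ext (h.sg_injective ((h.uS_coords_inj h1).1.trans sg_one.symm))
    rw [he, map_one, map_one] at hg
    refine inv_mul_eq_one.1 (RingEquiv.ext fun a => ?_)
    have h2 := DFunLike.congr_fun hg (uS h a 0)
    rw [MulAut.one_apply, h.fieldHom_uS] at h2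
    exact (h.uS_coords_inj h2).1.symm
  · intro q
    obtain ⟨φ, rfl⟩ := QuotientGroup.mk_surjective q
    obtain ⟨g, hg⟩ := h.exists_adapted hm φ
    obtain ⟨e, ρ, hd⟩ := hg.decomp h hm
    refine ⟨ρ, QuotientGroup.eq.2 ?_⟩
    have hφ : φ = MulAut.conj (g⁻¹ * dS h e) * h.fieldHom hm ρ := by
      rw [map_mul, mul_assoc, ← hd, ← mul_assoc, ← map_mul, inv_mul_cancel, map_one, one_mul]
    rw [hφ, ← mul_assoc]
    simpa using (Cfsg.innNormal (Cfsg.Sz F m)).conj_mem _ ⟨g⁻¹ * dS h e, rfl⟩ (h.fieldHom hm ρ)⁻¹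

end IsSzField

end Cfsg.Agent.Lib.LieTwisted.Suzuki
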