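import Cfsg.Prelude.Def_Sz
import Cfsg.Prelude.Def_LieExceptional

/-!
The Suzuki groups: the two models `Cfsg.Sz F m` (stabiliser of the Suzuki–Tits ovoid in `SL₄(F)`)
and `Cfsg.Lie.Sz F (2^(m+1))` (`g* = g^θ` inside `Sp₄(F)`) are the same group, namely the group
with Bruhat decomposition `U H ∪ U w U H` on the explicit elements `utMat a b`, `dgMat b`, `wMat`.
-/

set_option autoImplicit false
set_option linter.unusedSectionVars false
set_option linter.style.haveILetI false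

namespace Cfsg.Agent.Lib.LieTwisted.Suzuki

open Matrix

/-- The data of a Suzuki field: `|F| = 2^(2m+1)`. -/
structure IsSzField (F : Type*) [Field F] [Fintype F] (m : ℕ) : Prop where
  card : Fintype.card F = 2 ^ (2 * m + 1)

variable {F : Type*} [Field F]

/-- `σ : x ↦ x^(2^(m+1))`. -/
def sg (m : ℕ) (x : F) : F := x ^ 2 ^ (m + 1)

def zfun (m : ℕ) (x y : F) : F := x * y + sg m x * x ^ 2 + sg m y

def utMat (m : ℕ) (a b : F) : Matrix (Fin 4) (Fin 4) F :=
  !![1, a, b + sg m a * a, zfun m a b; 0, 1, sg m a, b; 0, 0, 1, a; 0, 0, 0, 1]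

def dgMat (m : ℕ) (b : F) : Matrix (Fin 4) (Fin 4) F :=
  Matrix.diagonal ![sg m b * b, b, b⁻¹, (sg m b * b)⁻¹]

def wMat (F : Type*) [Field F] : Matrix (Fin 4) (Fin 4) F :=
  !![0, 0, 0, 1; 0, 0, 1, 0; 0, 1, 0, 0; 1, 0, 0, 0]

/-- The affine point of the ovoid with parameters `x, y`. -/
def pt (m : ℕ) (x y : F) : Fin 4 → F := ![zfun m x y, y, x, 1]

def inf0 (F : Type*) [Field F] : Fin 4 → F := ![1, 0, 0, 0]

variable {m : ℕ}

lemma sg_mul (x y : F) : sg m (x * y) = sg m x * sg m y := mul_pow _ _ _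

lemma sg_zero : sg m (0 : F) = 0 := zero_pow (by positivity)

lemma sg_one : sg m (1 : F) = 1 := one_pow _

lemma sg_inv (x : F) : sg m x⁻¹ = (sg m x)⁻¹ := inv_pow _ _

lemma sg_eq_zero {x : F} : sg m x = 0 ↔ x = 0 :=
  pow_eq_zero_iff (by positivity)

lemma sg_pow (x : F) (k : ℕ) : sg m (x ^ k) = sg m x ^ k := by
  unfold sg; rw [← pow_mul, ← pow_mul, mul_comm]

variable [Fintype F]

namespace IsSzField

variable (h : IsSzField F m)
include h

lemma charTwo : CharP F 2 := by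
  haveI : Fact (Nat.Prime 2) := ⟨Nat.prime_two⟩
  exact charP_of_card_eq_prime_pow h.card

lemma two0 : (2 : F) = 0 := by
  haveI := h.charTwo
  exact CharTwo.two_eq_zero

lemma three1 : (3 : F) = 1 := by linear_combination h.two0

lemma sub_eq (x y : F) : x - y = x + y := by linear_combination (-y) * h.two0

lemma four0 : (4 : F) = 0 := by linear_combination 2 * h.two0

lemma five1 : (5 : F) = 1 := by linear_combination 2 * h.two0

lemma six0 : (6 : F) = 0 := by linear_combination 3 * h.two0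

lemma neg_eq (x : F) : -x = x := by linear_combination (-x) * h.two0

lemma sg_add (x y : F) : sg m (x + y) = sg m x + sg m y := by
  haveI := h.charTwo
  haveI : Fact (Nat.Prime 2) := ⟨Nat.prime_two⟩
  exact add_pow_char_pow x y 2 (m + 1)

lemma pow_card' (x : F) : x ^ 2 ^ (2 * m + 1) = x := by
  rw [← h.card, FiniteField.pow_card]

lemma sg_sg (x : F) : sg m (sg m x) = x ^ 2 := by
  unfold sg
  rw [← pow_mul, ← pow_add, show m + 1 + (m + 1) = (2 * m + 1) + 1 by ring, pow_succ, pow_mul, h.pow_card']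

lemma sg_z (x y : F) :
    sg m (zfun m x y) = sg m x * sg m y + x ^ 2 * sg m x ^ 2 + y ^ 2 := by
  simp only [zfun, h.sg_add, sg_mul, sg_pow, h.sg_sg]

/-- The identity behind `w` preserving the ovoid. -/
lemma z_key (x y : F) :
    x * y * sg m (zfun m x y) + sg m y * y ^ 2 + sg m x * zfun m x y ^ 2 =
      sg m (zfun m x y) * zfun m x y := by
  have t := h.two0
  rw [h.sg_z, zfun]
  ring_nf
  simp only [t, h.three1, mul_zero, add_zero, mul_one]

lemma z_eq_zero {x y : F} (hz : zfun m x y = 0) : x = 0 ∧ y = 0 := by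
  have hk := h.z_key x y
  rw [hz, sg_zero] at hk
  have hy : y = 0 := by
    simp only [mul_zero, zero_pow two_ne_zero, add_zero, zero_add, mul_eq_zero, sg_eq_zero,
      pow_eq_zero_iff two_ne_zero, or_self] at hk
    exact hk
  subst hy
  simp only [zfun, mul_zero, sg_zero, add_zero, zero_add, mul_eq_zero, sg_eq_zero,
    pow_eq_zero_iff two_ne_zero, or_self] at hz
  exact ⟨hz, rfl⟩

lemma z_w {x y : F} (hz : zfun m x y ≠ 0) :
    zfun m (y / zfun m x y) (x / zfun m x y) = (zfun m x y)⁻¹ := by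
  have hk := h.z_key x y
  have hs : sg m (zfun m x y) ≠ 0 := mt sg_eq_zero.1 hz
  generalize hZ : zfun m x y = Z at *
  simp only [zfun, div_eq_mul_inv, sg_mul, sg_inv, mul_pow]
  field_simp
  linear_combination hk

lemma utMat_mul (a b c d : F) :
    utMat m a b * utMat m c d = utMat m (a + c) (b + d + sg m a * c) := by
  have t := h.two0
  ext i j
  fin_cases i <;> fin_cases j <;>
    simp [utMat, Matrix.mul_apply, Fin.sum_univ_four, zfun, h.sg_add, sg_mul, h.sg_sg] <;>
    (try ring_nf) <;> (try simp [t, h.three1, h.four0, h.five1, h.six0, h.neg_eq, h.sub_eq]) <;> (try ring)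

lemma utMat_pt (a b x y : F) :
    utMat m a b *ᵥ pt m x y = pt m (a + x) (b + y + sg m a * x) := by
  have t := h.two0
  funext i
  fin_cases i <;>
    simp [utMat, pt, Matrix.mulVec, dotProduct, Fin.sum_univ_four, zfun, h.sg_add, sg_mul, h.sg_sg] <;>
    (try ring_nf) <;> (try simp [t, h.three1, h.four0, h.five1, h.six0, h.neg_eq, h.sub_eq]) <;> (try ring)

omit h in
lemma _root_.Cfsg.Agent.Lib.LieTwisted.Suzuki.utMat_inf0 (a b : F) : utMat m a b *ᵥ inf0 F = inf0 F := by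
  funext i
  fin_cases i <;> simp [utMat, inf0, Matrix.mulVec, dotProduct, Fin.sum_univ_four]

lemma dgMat_pt {b : F} (hb : b ≠ 0) (x y : F) :
    dgMat m b *ᵥ pt m x y = (sg m b * b)⁻¹ • pt m (sg m b * x) (sg m b * b ^ 2 * y) := by
  have hs : sg m b ≠ 0 := mt sg_eq_zero.1 hb
  funext i
  fin_cases i <;>
    simp [dgMat, pt, Matrix.mulVec_diagonal, zfun, sg_mul, sg_pow, h.sg_sg] <;> field_simp <;> ring

lemma wMat_pt {x y : F} (hz : zfun m x y ≠ 0) :
    wMat F *ᵥ pt m x y = zfun m x y • pt m (y / zfun m x y) (x / zfun m x y) := by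
  funext i
  fin_cases i <;> simp [wMat, pt, Matrix.mulVec, dotProduct, Fin.sum_univ_four, h.z_w hz, mul_div_cancel₀ _ hz, hz]

lemma wMat_pt_zero : wMat F *ᵥ pt m (0 : F) 0 = inf0 F := by
  funext i
  fin_cases i <;> simp [wMat, pt, inf0, zfun, sg_zero, Matrix.mulVec, dotProduct, Fin.sum_univ_four]

lemma wMat_inf0 : wMat F *ᵥ inf0 F = pt m (0 : F) 0 := by
  funext i
  fin_cases i <;> simp [wMat, pt, inf0, zfun, sg_zero, Matrix.mulVec, dotProduct, Fin.sum_univ_four]

/-! ### The condition `g* = g^θ` -/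

/-- `g` satisfies the defining conditions of `Cfsg.Lie.Sz`. -/
def _root_.Cfsg.Agent.Lib.LieTwisted.Suzuki.IsSzMat (m : ℕ) (g : Matrix (Fin 4) (Fin 4) F) : Prop :=
  gᵀ * wMat F * g = wMat F ∧ Cfsg.Lie.star4 g = g.map (sg m)

omit h in
lemma _root_.Cfsg.Agent.Lib.LieTwisted.Suzuki.altForm4_eq (u v : Fin 4 → F) :
    Cfsg.Lie.altForm4 u v = u ⬝ᵥ wMat F *ᵥ v := by
  simp [Cfsg.Lie.altForm4, wMat, Matrix.mulVec, dotProduct, Fin.sum_univ_four]

omit h in
lemma _root_.Cfsg.Agent.Lib.LieTwisted.Suzuki.mem_Sp4_iff (g : GL (Fin 4) F) :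
    g ∈ Cfsg.Lie.Sp4 F ↔ (g : Matrix (Fin 4) (Fin 4) F)ᵀ * wMat F * g = wMat F := by
  show (∀ u v, Cfsg.Lie.altForm4 ((g : Matrix (Fin 4) (Fin 4) F) *ᵥ u) ((g : Matrix (Fin 4) (Fin 4) F) *ᵥ v)
    = Cfsg.Lie.altForm4 u v) ↔ _
  simp only [altForm4_eq, dotProduct_mulVec, Matrix.vecMul_mulVec, ← Matrix.vecMul_vecMul, ← mulVec_mulVec]
  constructor
  · intro hg
    ext i j
    have := hg (Pi.single i 1) (Pi.single j 1)
    simp only [Matrix.single_one_vecMul, dotProduct_single, mul_one] at this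
    simp only [← Matrix.mul_apply', Matrix.vecMul_vecMul] at this
    simp [Matrix.vecMul, dotProduct, Matrix.mul_apply, Pi.single_apply, Fin.sum_univ_four] at this ⊢
    linear_combination this
  · intro hg u v
    conv_rhs => rw [← hg]
    simp only [← Matrix.vecMul_vecMul, dotProduct_mulVec, Matrix.vecMul_mulVec, ← mulVec_mulVec]

omit h in
lemma _root_.Cfsg.Agent.Lib.LieTwisted.Suzuki.wMat_mul_self : wMat F * wMat F = 1 := by
  ext i j
  fin_cases i <;> fin_cases j <;> simp [wMat, Matrix.mul_apply, Fin.sum_univ_four]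

omit h in
lemma _root_.Cfsg.Agent.Lib.LieTwisted.Suzuki.IsSzMat.transpose_right {g : Matrix (Fin 4) (Fin 4) F}
    (hg : IsSzMat m g) : g * wMat F * gᵀ = wMat F := by
  have h1 : (wMat F * gᵀ * wMat F) * g = 1 := by
    rw [mul_assoc, mul_assoc, ← mul_assoc gᵀ, hg.1, wMat_mul_self]
  have h2 := mul_eq_one_comm.1 h1
  calc g * wMat F * gᵀ = g * (wMat F * gᵀ * wMat F) * wMat F := by
        simp only [mul_assoc, wMat_mul_self, mul_one]
    _ = wMat F := by rw [h2, one_mul]

lemma isSzMat_utMat (a b : F) : IsSzMat m (utMat m a b) := by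
  have t := h.two0
  refine ⟨?_, ?_⟩
  · ext i j
    fin_cases i <;> fin_cases j <;>
      simp [utMat, wMat, Matrix.mul_apply, Fin.sum_univ_four, zfun] <;>
      (try ring_nf) <;> (try simp [t, h.three1, h.four0, h.five1, h.six0, h.neg_eq, h.sub_eq]) <;> (try ring)
  · ext i j
    fin_cases i <;> fin_cases j <;>
      simp [utMat, Cfsg.Lie.star4, Cfsg.Lie.pairOf, zfun, h.sg_add, sg_mul, h.sg_sg, sg_zero, sg_one, sg_pow] <;>
      (try ring_nf) <;> (try simp [t, h.three1, h.four0, h.five1, h.six0, h.neg_eq, h.sub_eq]) <;> (try ring)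

lemma isSzMat_dgMat {b : F} (hb : b ≠ 0) : IsSzMat m (dgMat m b) := by
  have hs : sg m b ≠ 0 := mt sg_eq_zero.1 hb
  refine ⟨?_, ?_⟩
  · ext i j
    fin_cases i <;> fin_cases j <;>
      simp [dgMat, wMat, Matrix.mul_apply, Fin.sum_univ_four, hb] <;> field_simp
  · ext i j
    fin_cases i <;> fin_cases j <;>
      simp [dgMat, Cfsg.Lie.star4, Cfsg.Lie.pairOf, sg_mul, h.sg_sg, sg_zero, sg_inv] <;>
      (try field_simp)

lemma isSzMat_wMat : IsSzMat m (wMat F) := by
  refine ⟨?_, ?_⟩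
  · ext i j
    fin_cases i <;> fin_cases j <;> simp [wMat, Matrix.mul_apply, Fin.sum_univ_four]
  · ext i j
    fin_cases i <;> fin_cases j <;>
      simp [wMat, Cfsg.Lie.star4, Cfsg.Lie.pairOf, sg_zero, sg_one, h.neg_eq]

lemma isSzMat_mul {g k : Matrix (Fin 4) (Fin 4) F} (hg : IsSzMat m g) (hk : IsSzMat m k) :
    IsSzMat m (g * k) := by
  refine ⟨?_, ?_⟩
  · rw [Matrix.transpose_mul, mul_assoc, mul_assoc, ← mul_assoc (wMat F), ← mul_assoc gᵀ,
      ← mul_assoc gᵀ, hg.1, ← mul_assoc, hk.1]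
  ext p r
  obtain ⟨i, j, hij, hij'⟩ : ∃ i j, Cfsg.Lie.pairOf r = (i, j) ∧ wMat F i j = 0 := by
    fin_cases r <;> exact ⟨_, _, rfl, by simp [wMat]⟩
  obtain ⟨a, c, hac, hac'⟩ : ∃ a c, Cfsg.Lie.pairOf p = (a, c) ∧ wMat F a c = 0 := by
    fin_cases p <;> exact ⟨_, _, rfl, by simp [wMat]⟩
  -- the two missing minors of `g` and of `k` cancel
  have hg14 : g a 0 * g c 3 - g c 0 * g a 3 + (g a 1 * g c 2 - g c 1 * g a 2) = 0 := by
    have h2 := congrFun (congrFun hg.transpose_right a) c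
    rw [hac'] at h2
    simp only [wMat, Matrix.mul_apply, Fin.sum_univ_four, Matrix.transpose_apply] at h2
    simp at h2
    linear_combination h2 - (g c 0 * g a 3 + g c 1 * g a 2) * h.two0
  have hk14 : k 0 i * k 3 j - k 3 i * k 0 j + (k 1 i * k 2 j - k 2 i * k 1 j) = 0 := by
    have h2 := congrFun (congrFun hk.1 i) j
    rw [hij'] at h2
    simp only [wMat, Matrix.mul_apply, Fin.sum_univ_four, Matrix.transpose_apply] at h2
    simp at h2
    linear_combination h2 - (k 3 i * k 0 j + k 2 i * k 1 j) * h.two0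
  have key : Cfsg.Lie.star4 (g * k) p r = (Cfsg.Lie.star4 g * Cfsg.Lie.star4 k) p r +
      (g a 0 * g c 3 - g c 0 * g a 3) * (k 0 i * k 3 j - k 3 i * k 0 j) +
      (g a 1 * g c 2 - g c 1 * g a 2) * (k 1 i * k 2 j - k 2 i * k 1 j) := by
    simp only [Cfsg.Lie.star4, Matrix.of_apply, hij, hac, Matrix.mul_apply, Fin.sum_univ_four]
    simp only [Cfsg.Lie.pairOf, Matrix.cons_val_zero, Matrix.cons_val_one, Matrix.cons_val]
    ring
  rw [key, hg.2, hk.2]
  simp only [Matrix.mul_apply, Fin.sum_univ_four, Matrix.map_apply, h.sg_add, sg_mul]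
  linear_combination (g a 0 * g c 3 - g c 0 * g a 3) * hk14 - (k 1 i * k 2 j - k 2 i * k 1 j) * hg14 +
    (g a 1 * g c 2 - g c 1 * g a 2) * (k 1 i * k 2 j - k 2 i * k 1 j) * h.two0

lemma det_of_isSzMat {g : Matrix (Fin 4) (Fin 4) F} (hg : IsSzMat m g) : g.det = 1 := by
  haveI := h.charTwo
  have h1 := congrArg Matrix.det hg.1
  have hw : (wMat F).det * (wMat F).det = 1 := by rw [← Matrix.det_mul, wMat_mul_self, Matrix.det_one]
  rw [Matrix.det_mul, Matrix.det_mul, Matrix.det_transpose] at h1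
  have hne : (wMat F).det ≠ 0 := fun he => by simp [he] at hw
  have h2 : g.det ^ 2 = 1 ^ 2 := by
    apply mul_right_cancel₀ hne
    linear_combination h1
  exact CharTwo.sq_injective h2

end IsSzField

end Cfsg.Agent.Lib.LieTwisted.Suzuki
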