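import Cfsg.Prelude.Def_ChevStructure

/-!
Monomial symmetries of a Chevalley datum: a permutation of the roots with signs, compatible with
the tables, gives a monomial matrix conjugating `x_r(t)` to `x_{π r}(ε_r t)`, hence an
automorphism of the Chevalley group.
-/

set_option autoImplicit false

namespace Cfsg.Agent.Lib.LieTwisted.GraphAut

open Cfsg.Lie Matrix

/-- A candidate symmetry of a datum. -/
structure Sym where
  root : List ℕ
  rootInv : List ℕ
  sgn : List ℤ
  simp : List ℕ
  simpInv : List ℕ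

def Sym.π (S : Sym) (r : ℕ) : ℕ := S.root.getD r 0
def Sym.πi (S : Sym) (r : ℕ) : ℕ := S.rootInv.getD r 0
def Sym.ε (S : Sym) (r : ℕ) : ℤ := S.sgn.getD r 1
def Sym.ρ (S : Sym) (i : ℕ) : ℕ := S.simp.getD i 0
def Sym.ρi (S : Sym) (i : ℕ) : ℕ := S.simpInv.getD i 0

/-- The chain table of a root, flattened to `((s, u), (k, M))`. -/
def flat (D : ChevalleyDatum) (r : ℕ) : List ((ℕ × ℕ) × (ℕ × ℤ)) :=
  (D.chain.getD r #[]).toList.flatMap fun e => e.2.toList.zipIdx.map fun q => ((e.1, q.1.1), (q.2 + 1, q.1.2))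

lemma chainCoeff_eq (D : ChevalleyDatum) (r s u : ℕ) :
    D.chainCoeff r s u = ((flat D r).filter fun e => decide (e.1 = (s, u))).map Prod.snd := by
  unfold ChevalleyDatum.chainCoeff flat
  induction (D.chain.getD r #[]).toList with
  | nil => simp
  | cons e l ih =>
    rw [List.flatMap_cons, List.filter_append, List.map_append, ← ih]
    by_cases he : e.1 = s
    · rw [List.filter_cons_of_pos (by simpa using he), List.flatMap_cons]
      congr 1
      rw [List.filter_map, List.map_map]
      have : ((fun a : (ℕ × ℕ) × (ℕ × ℤ) => decide (a.1 = (s, u))) ∘ fun q : (ℕ × ℤ) × ℕ => ((e.1, q.1.1), (q.2 + 1, q.1.2))) =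
          fun q => decide (q.1.1 = u) := by
        funext q; simp [he]
      rw [this]
      rfl
    · rw [List.filter_cons_of_neg (by simpa using he)]
      have : ((e.2.toList.zipIdx.map fun q => ((e.1, q.1.1), (q.2 + 1, q.1.2))).filter
          fun a => decide (a.1 = (s, u))) = [] := by
        simp [List.filter_eq_nil_iff]
        intros
        subst_vars
        exact absurd rfl he
      rw [this, List.map_nil, List.nil_append]

/-- Transformation of a flattened chain entry. -/
def Sym.tr (S : Sym) (r : ℕ) (e : (ℕ × ℕ) × (ℕ × ℤ)) : (ℕ × ℕ) × (ℕ × ℤ) :=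
  ((S.π e.1.1, S.π e.1.2), (e.2.1, S.ε e.1.1 * S.ε e.1.2 * S.ε r ^ e.2.1 * e.2.2))

/-- The decidable conditions for a symmetry. -/
def Sym.check (D : ChevalleyDatum) (S : Sym) : Bool :=
  ((List.range D.rank).all fun i => decide (S.ρ i < D.rank ∧ S.ρi (S.ρ i) = i ∧ S.ρ (S.ρi i) = i ∧ S.ρi i < D.rank)) &&
  ((List.range D.nroots).all fun r =>
    decide (S.π r < D.nroots ∧ S.πi r < D.nroots ∧ S.πi (S.π r) = r ∧ S.π (S.πi r) = r ∧
      S.ε r * S.ε r = 1 ∧ D.neg r < D.nroots ∧ S.π (D.neg r) = D.neg (S.π r) ∧ S.ε (D.neg r) = S.ε r) &&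
    ((List.range D.rank).all fun i => decide (D.cartan (S.ρ i) (S.π r) = D.cartan i r ∧
      (D.coroot.getD (S.π r) #[]).getD (S.ρ i) 0 = (D.coroot.getD r #[]).getD i 0)) &&
    ((flat D r).all fun e => decide (e.1.1 < D.nroots ∧ e.1.2 < D.nroots)) &&
    decide (((flat D r).map (S.tr r)).Perm (flat D (S.π r))))

structure Sym.Good (D : ChevalleyDatum) (S : Sym) : Prop where
  rho : ∀ i < D.rank, S.ρ i < D.rank ∧ S.ρi (S.ρ i) = i ∧ S.ρ (S.ρi i) = i ∧ S.ρi i < D.rank
  pi : ∀ r < D.nroots, S.π r < D.nroots ∧ S.πi r < D.nroots ∧ S.πi (S.π r) = r ∧ S.π (S.πi r) = r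
  eps : ∀ r < D.nroots, S.ε r * S.ε r = 1
  negs : ∀ r < D.nroots, D.neg r < D.nroots ∧ S.π (D.neg r) = D.neg (S.π r) ∧ S.ε (D.neg r) = S.ε r
  tables : ∀ r < D.nroots, ∀ i < D.rank, D.cartan (S.ρ i) (S.π r) = D.cartan i r ∧
      (D.coroot.getD (S.π r) #[]).getD (S.ρ i) 0 = (D.coroot.getD r #[]).getD i 0
  bound : ∀ r < D.nroots, ∀ e ∈ flat D r, e.1.1 < D.nroots ∧ e.1.2 < D.nroots
  perm : ∀ r < D.nroots, ((flat D r).map (S.tr r)).Perm (flat D (S.π r))

lemma Sym.good_of_check {D : ChevalleyDatum} {S : Sym} (h : S.check D = true) : S.Good D := by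
  simp only [Sym.check, Bool.and_eq_true, List.all_eq_true, List.mem_range, decide_eq_true_eq] at h
  exact
    { rho := h.1
      pi := fun r hr => let k := (h.2 r hr).1.1.1; ⟨k.1, k.2.1, k.2.2.1, k.2.2.2.1⟩
      eps := fun r hr => (h.2 r hr).1.1.1.2.2.2.2.1
      negs := fun r hr => (h.2 r hr).1.1.1.2.2.2.2.2
      tables := fun r hr => (h.2 r hr).1.1.2
      bound := fun r hr => (h.2 r hr).1.2
      perm := fun r hr => (h.2 r hr).2 }

variable {D : ChevalleyDatum} {S : Sym}

/-- The permutation of the coordinate index set. -/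
def idxEquiv (g : S.Good D) : D.Idx ≃ D.Idx :=
  Equiv.sumCongr
    { toFun := fun i => ⟨S.ρ i, (g.rho i i.2).1⟩
      invFun := fun i => ⟨S.ρi i, (g.rho i i.2).2.2.2⟩
      left_inv := fun i => Fin.ext (g.rho i i.2).2.1
      right_inv := fun i => Fin.ext (g.rho i i.2).2.2.1 }
    { toFun := fun r => ⟨S.π r, (g.pi r r.2).1⟩
      invFun := fun r => ⟨S.πi r, (g.pi r r.2).2.1⟩
      left_inv := fun r => Fin.ext (g.pi r r.2).2.2.1
      right_inv := fun r => Fin.ext (g.pi r r.2).2.2.2 }

variable (F : Type*) [Field F]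

/-- The sign of a coordinate. -/
def idxSign (S : Sym) : D.Idx → F
  | Sum.inl _ => 1
  | Sum.inr s => (S.ε s : F)

lemma sign_mul_self (g : S.Good D) (a : D.Idx) : idxSign (D := D) F S a * idxSign F S a = 1 := by
  rcases a with i | s
  · simp [idxSign]
  · simp only [idxSign, ← Int.cast_mul, g.eps s s.2, Int.cast_one]

lemma eps_cast_mul_self (g : S.Good D) {r : ℕ} (hr : r < D.nroots) : (S.ε r : F) * S.ε r = 1 := by
  rw [← Int.cast_mul, g.eps r hr, Int.cast_one]

lemma xMat_entry (g : S.Good D) (r : Fin D.nroots) (t : F) (a b : D.Idx) :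
    D.xMat F ⟨S.π r, (g.pi r r.2).1⟩ ((S.ε r : F) * t) (idxEquiv g a) (idxEquiv g b) * idxSign F S b =
      idxSign F S a * D.xMat F r t a b := by
  have hπ : ∀ {s s' : Fin D.nroots}, S.π s = S.π s' ↔ s = s' := fun {s s'} =>
    ⟨fun h => Fin.ext (by rw [← (g.pi s s.2).2.2.1, h, (g.pi s' s'.2).2.2.1]), fun h => by rw [h]⟩
  have he := eps_cast_mul_self F g r.2
  rcases b with i | s
  · -- column of a coroot
    rcases a with i' | u
    · simp only [idxEquiv, Equiv.sumCongr_apply, Sum.map_inl, Equiv.coe_fn_mk, ChevalleyDatum.xMat,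
        Matrix.of_apply, idxSign, one_mul, mul_one, Fin.mk.injEq]
      have : (S.ρ i' = S.ρ i) ↔ i' = i :=
        ⟨fun h => Fin.ext (by rw [← (g.rho i' i'.2).2.1, h, (g.rho i i.2).2.1]), fun h => by rw [h]⟩
      simp only [this]
    · simp only [idxEquiv, Equiv.sumCongr_apply, Sum.map_inl, Sum.map_inr, Equiv.coe_fn_mk, ChevalleyDatum.xMat,
        Matrix.of_apply, idxSign, mul_one, Fin.mk.injEq, hπ]
      by_cases hu : u = r
      · subst hu
        have h1 := (g.tables u u.2 i i.2).1
        simp only [ChevalleyDatum.cartan] at h1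
        simp only [if_pos, h1]
        ring
      · simp [hu]
  · simp only [idxEquiv, Equiv.sumCongr_apply, Sum.map_inr, Equiv.coe_fn_mk, ChevalleyDatum.xMat,
      Matrix.of_apply, idxSign, Fin.mk.injEq, hπ]
    have hnegiff : (S.π s = D.negIdx.getD (S.π r) 0) ↔ (s : ℕ) = D.negIdx.getD r 0 := by
      have h2 := (g.negs r r.2).2.1
      simp only [ChevalleyDatum.neg] at h2
      rw [← h2]
      exact hπ (s := s) (s' := ⟨_, (g.negs r r.2).1⟩) |>.trans Fin.ext_iff
    by_cases hsr : s = r
    · subst hsr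
      rcases a with i' | u
      · simp
      · simp only [Sum.map_inr, Equiv.coe_fn_mk, if_pos, Fin.mk.injEq, hπ]
        by_cases hu : u = s
        · subst hu; simp
        · simp [hu]
    simp only [if_neg hsr, hnegiff]
    by_cases hsn : (s : ℕ) = D.negIdx.getD r 0
    · have hes : S.ε s = S.ε r := by rw [hsn]; exact (g.negs r r.2).2.2
      rw [if_pos hsn]
      rcases a with i' | u
      · simp only [Sum.map_inl, Equiv.coe_fn_mk, if_pos hsn, one_mul, hes, (g.tables r r.2 i' i'.2).2]
        linear_combination (((D.coroot.getD r #[]).getD i' 0 : ℤ) : F) * t * he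
      · simp only [Sum.map_inr, Equiv.coe_fn_mk, if_pos hsn, Fin.mk.injEq, hπ, hes]
        by_cases hus : u = s
        · subst hus; simp [hes]
        · by_cases hur : u = r
          · subst hur
            simp only [if_neg hus, if_pos]
            linear_combination (-(t ^ 2) * (S.ε u : F)) * he
          · simp [hus, hur]
    rw [if_neg hsn]
    rcases a with i' | u
    · simp [-List.getD_eq_getElem?_getD, -Array.getD_eq_getD_getElem?, hsn]
    simp only [Sum.map_inr, Equiv.coe_fn_mk, if_neg hsn, Fin.mk.injEq, hπ]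
    rw [chainCoeff_eq, chainCoeff_eq, List.map_map, List.map_map, add_mul, mul_add]
    congr 1
    · by_cases hus : u = s
      · subst hus; simp
      · simp [hus]
    rw [← List.sum_map_mul_left]
    have hperm := ((g.perm r r.2).filter fun e => decide (e.1 = (S.π s, S.π u))).symm
    rw [(hperm.map _).sum_eq, List.filter_map, List.map_map]
    rw [List.filter_congr (q := fun e => decide (e.1 = ((s : ℕ), (u : ℕ))))
      (fun e hmem => by
        obtain ⟨hb1, hb2⟩ := g.bound r r.2 e hmem
        simp only [Function.comp_apply, Sym.tr]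
        congr 1
        simp only [Prod.ext_iff, eq_iff_iff]
        exact and_congr ((hπ (s := ⟨_, hb1⟩) (s' := s)).trans Fin.ext_iff)
          ((hπ (s := ⟨_, hb2⟩) (s' := u)).trans Fin.ext_iff))]
    rw [← List.sum_map_mul_right]
    congr 1
    refine List.map_congr_left fun e hmem => ?_
    simp only [List.mem_filter, decide_eq_true_eq] at hmem
    have h1 : e.1.1 = s := congrArg Prod.fst hmem.2
    have h2 : e.1.2 = u := congrArg Prod.snd hmem.2
    simp only [Function.comp_apply, Sym.tr, h1, h2, Int.cast_mul, Int.cast_pow, mul_pow]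
    have hes := eps_cast_mul_self F g s.2
    have hpow : (S.ε r : F) ^ e.2.1 * (S.ε r : F) ^ e.2.1 = 1 := by rw [← mul_pow, he, one_pow]
    linear_combination ((S.ε u : F) * e.2.2 * t ^ e.2.1) *
      ((S.ε s : F) * S.ε s * hpow + hes)

/-- The monomial matrix of a symmetry, as an element of `GL`. -/
def monGL (g : S.Good D) : GL D.Idx F where
  val := Matrix.of fun a b => if a = idxEquiv g b then idxSign F S b else 0
  inv := Matrix.of fun a b => if b = idxEquiv g a then idxSign F S a else 0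
  val_inv := by
    ext a b
    simp only [Matrix.mul_apply, Matrix.of_apply, Matrix.one_apply]
    rw [Finset.sum_eq_single ((idxEquiv g).symm a)]
    · by_cases hab : a = b
      · subst hab; simp [sign_mul_self F g]
      · simp [hab, Ne.symm hab]
    · intro c _ hc
      have : a ≠ idxEquiv g c := fun h => hc (by rw [h, Equiv.symm_apply_apply])
      simp [this]
    · simp
  inv_val := by
    ext a b
    simp only [Matrix.mul_apply, Matrix.of_apply, Matrix.one_apply]
    rw [Finset.sum_eq_single (idxEquiv g a)]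
    · by_cases hab : a = b
      · subst hab; simp [sign_mul_self F g]
      · simp [hab]
    · intro c _ hc; simp [hc]
    · simp

lemma monGL_mul_xMat (g : S.Good D) (r : Fin D.nroots) (t : F) :
    (monGL F g : Matrix D.Idx D.Idx F) * D.xMat F r t =
      D.xMat F ⟨S.π r, (g.pi r r.2).1⟩ ((S.ε r : F) * t) * (monGL F g : Matrix D.Idx D.Idx F) := by
  ext a b
  obtain ⟨a, rfl⟩ := (idxEquiv g).surjective a
  simp only [monGL, Matrix.mul_apply, Matrix.of_apply, EmbeddingLike.apply_eq_iff_eq]
  rw [Finset.sum_eq_single a (fun c _ hc => by simp [Ne.symm hc]) (by simp),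
    Finset.sum_eq_single (idxEquiv g b) (fun c _ hc => by simp [hc]) (by simp)]
  simp only [if_pos]
  exact (xMat_entry F g r t a b).symm

lemma conj_root (g : S.Good D) (u : GL D.Idx F) (r : Fin D.nroots) (t : F)
    (hu : (u : Matrix D.Idx D.Idx F) = D.xMat F r t) :
    ((MulAut.conj (monGL F g) u : GL D.Idx F) : Matrix D.Idx D.Idx F) =
      D.xMat F ⟨S.π r, (g.pi r r.2).1⟩ ((S.ε r : F) * t) := by
  rw [MulAut.conj_apply, Units.val_mul, Units.val_mul, hu, monGL_mul_xMat, mul_assoc, Units.mul_inv, mul_one]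

lemma map_group (g : S.Good D) :
    (D.group F).map (MulAut.conj (monGL F g)).toMonoidHom = D.group F := by
  rw [ChevalleyDatum.group, MonoidHom.map_closure]
  congr 1
  ext y
  constructor
  · rintro ⟨u, ⟨r, t, hu⟩, rfl⟩
    exact ⟨_, _, conj_root F g u r t hu⟩
  · rintro ⟨r, t, hy⟩
    refine ⟨(MulAut.conj (monGL F g))⁻¹ y, ⟨⟨S.πi r, (g.pi r r.2).2.1⟩, (S.ε (S.πi r) : F) * t, ?_⟩,
      MulAut.apply_inv_self _ _ _⟩
    have h2 := monGL_mul_xMat F g ⟨S.πi r, (g.pi r r.2).2.1⟩ ((S.ε (S.πi r) : F) * t)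
    rw [← mul_assoc (S.ε (S.πi r) : F), eps_cast_mul_self F g (g.pi r r.2).2.1, one_mul] at h2
    have hr : (⟨S.π (S.πi r), (g.pi (S.πi r) (g.pi r r.2).2.1).1⟩ : Fin D.nroots) = r :=
      Fin.ext (g.pi r r.2).2.2.2
    rw [hr, ← hy] at h2
    rw [MulAut.conj_inv_apply, Units.val_mul, Units.val_mul, mul_assoc, ← h2, ← mul_assoc, Units.inv_mul, one_mul]

/-- The automorphism of the Chevalley group. -/
noncomputable def groupAut (g : S.Good D) : ↥(D.group F) ≃* ↥(D.group F) :=
  ((MulAut.conj (monGL F g)).subgroupMap (D.group F)).trans (MulEquiv.subgroupCongr (map_group F g))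

lemma groupAut_apply (g : S.Good D) (u : ↥(D.group F)) :
    ((groupAut F g u : ↥(D.group F)) : GL D.Idx F) = MulAut.conj (monGL F g) (u : GL D.Idx F) := rfl

lemma groupAut_x (g : S.Good D) (u : ↥(D.group F)) {r : ℕ} (hr : r < D.nroots) (t : F)
    (hu : ((u : GL D.Idx F) : Matrix D.Idx D.Idx F) = D.x F r t) :
    ((groupAut F g u : GL D.Idx F) : Matrix D.Idx D.Idx F) = D.x F (S.π r) ((S.ε r : F) * t) := by
  simp only [ChevalleyDatum.x, dif_pos hr] at hu
  simp only [ChevalleyDatum.x, dif_pos (g.pi r hr).1]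
  rw [groupAut_apply]
  exact conj_root F g (u : GL D.Idx F) ⟨r, hr⟩ t hu

end Cfsg.Agent.Lib.LieTwisted.GraphAut
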