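import Cfsg.Agent.Lib.LieTwisted.SparseRoot

/-!
Exceptional isogenies in small characteristic: if a set `I` of coordinates spans an invariant
ideal of the adjoint module and the action on the quotient `Q` is the action on `I` with roots
permuted by `ρ` and parameters raised to the powers `λ`, and the ideal determines the group
element, then `x_r(t) ↦ x_{ρ r}(t^{λ r})` extends to an automorphism over a perfect field.
-/

set_option autoImplicit false
set_option linter.unusedSectionVars false

namespace Cfsg.Agent.Lib.LieTwisted.Isogeny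

open Cfsg.Lie Sparse SparseRoot Matrix

/-- The data of an exceptional isogeny. -/
structure Data where
  p : ℕ
  I : List ℕ
  Q : List ℕ
  rho : List ℕ
  lam : List ℕ
  cert : List (List ((ℕ × ℕ) × ℤ))

def Data.r' (S : Data) (r : ℕ) : ℕ := S.rho.getD r 0
def Data.lm (S : Data) (r : ℕ) : ℕ := S.lam.getD r 0

/-- The submatrix on a list of coordinates. -/
def blkS (L : List ℕ) (A : SMat) : SMat :=
  (A.filter fun e => decide (e.1.1 ∈ L ∧ e.1.2 ∈ L)).map fun e => ((L.idxOf e.1.1, L.idxOf e.1.2), e.2)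

/-- The matrix of `ad` of the basis vector `z`, with constant entries. -/
def adS (D : ChevalleyDatum) (z : ℕ) : SMat :=
  if z < D.rank then
    (List.range D.nroots).map fun s => (((D.rank + s, D.rank + s) : ℕ × ℕ), ([(D.cartan z s, 0, 0)] : Poly))
  else (xS D (z - D.rank) (1, 1, 0)).map fun e =>
    (e.1, (e.2.filter fun mo => decide (mo.2 = (1, 0))).map fun mo => (mo.1, 0, 0))

def scaleS (P : Poly) (A : SMat) : SMat := A.map fun e => (e.1, P.mul e.2)

/-- The value of a certificate functional on a sparse constant matrix. -/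
def funS (f : List ((ℕ × ℕ) × ℤ)) (A : SMat) : ℤ :=
  (f.map fun c => c.2 * ((A.at' c.1).map Prod.fst).sum).sum

def lamS (A : SMat) (k : ℕ) : SMat := A.map fun e => (e.1, e.2.map fun mo => (mo.1, k * mo.2.1, k * mo.2.2))

/-- The right-hand side `Σ_w X[w,z] A_w` of the automorphism property. -/
def pushS (D : ChevalleyDatum) (L : List ℕ) (X : SMat) (z : ℕ) : SMat :=
  (X.filter fun e => decide (e.1.2 = z)).flatMap fun e => scaleS e.2 (blkS L (adS D e.1.1))

def Data.check (D : ChevalleyDatum) (S : Data) : Bool :=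
  decide (S.I.Nodup) && decide (S.Q.Nodup) && decide (S.Q.length = S.I.length) &&
  (S.I.all fun i => decide (i < dim D)) && (S.Q.all fun i => decide (i < dim D)) &&
  ((List.range (dim D)).all fun k => decide (k ∈ S.I ∨ k ∈ S.Q)) &&
  ((List.range D.nroots).all fun r =>
    decide (S.r' r < D.nroots ∧ S.r' (S.r' r) = r ∧ S.lm r * S.lm (S.r' r) = S.p) &&
    wfRoot D r &&
    sameWord D S.p [(r, (1, 1, 0)), (r, (-1, 1, 0))] [] &&
    ((xS D r (1, 1, 0)).all fun e => decide (e.1.1 ∈ S.I ∨ e.1.2 ∉ S.I) || e.2.isZero S.p) &&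
    (blkS S.Q (xS D r (1, 1, 0))).beqMod S.p (blkS S.I (xS D (S.r' r) (1, S.lm r, 0))) &&
    ((List.range (dim D)).all fun z =>
      ((blkS S.I (xS D r (1, 1, 0))).mul (blkS S.I (adS D z))).beqMod S.p
        ((pushS D S.I (xS D r (1, 1, 0)) z).mul (blkS S.I (xS D r (1, 1, 0)))))) &&
  ((List.range (dim D)).all fun w => (List.range (dim D)).all fun z =>
    decide ((funS (S.cert.getD w []) (blkS S.I (adS D z)) - (if w = z then 1 else 0)) % (S.p : ℤ) = 0))

section blocks
variable {F : Type*} [Field F]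

/-- The coordinate embedding of a list. -/
def emb {N : ℕ} (L : List ℕ) (h : ∀ i ∈ L, i < N) (a : Fin L.length) : Fin N :=
  ⟨L[(a : ℕ)], h _ (List.getElem_mem a.2)⟩

lemma blkS_inRange (L : List ℕ) (A : SMat) : (blkS L A).inRange L.length = true := by
  simp only [SMat.inRange, List.all_eq_true, decide_eq_true_eq, blkS, List.mem_map, List.mem_filter]
  rintro e ⟨x, ⟨-, hx⟩, rfl⟩
  exact ⟨List.idxOf_lt_length_of_mem hx.1, List.idxOf_lt_length_of_mem hx.2⟩

lemma toMatrix_blkS (L : List ℕ) {N : ℕ} (hL : ∀ i ∈ L, i < N) (hnd : L.Nodup) (A : SMat) (t u : F) :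
    (blkS L A).toMatrix L.length t u = (A.toMatrix N t u).submatrix (emb L hL) (emb L hL) := by
  ext a b
  rw [Matrix.submatrix_apply, entry_eq_sum, entry_eq_sum, blkS, List.map_map]
  induction A with
  | nil => simp
  | cons e A ih =>
    have key : ∀ {i : ℕ} (_ : i ∈ L) (c : Fin L.length), L.idxOf i = (c : ℕ) ↔ i = L[(c : ℕ)] := by
      intro i hi c
      constructor
      · intro h
        simp only [← h, List.getElem_idxOf]
      · intro h
        rw [h, hnd.idxOf_getElem]
    by_cases he : e.1.1 ∈ L ∧ e.1.2 ∈ L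
    · rw [List.filter_cons_of_pos (by simpa using he), List.map_cons, List.sum_cons, ih, List.map_cons, List.sum_cons]
      congr 1
      refine if_congr ?_ rfl rfl
      simp only [Prod.ext_iff, emb, key he.1 a, key he.2 b]
    · rw [List.filter_cons_of_neg (by simpa using he), ih, List.map_cons, List.sum_cons]
      rw [if_neg, zero_add]
      intro h
      apply he
      simp only [emb, Prod.ext_iff] at h
      exact ⟨h.1 ▸ List.getElem_mem a.2, h.2 ▸ List.getElem_mem b.2⟩

lemma toMatrix_scaleS (P : Poly) (A : SMat) (N : ℕ) (t u : F) :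
    (scaleS P A).toMatrix N t u = P.eval t u • A.toMatrix N t u := by
  ext a b
  rw [Matrix.smul_apply, entry_eq_sum, entry_eq_sum, scaleS, List.map_map, smul_eq_mul, ← List.sum_map_mul_left]
  congr 1
  refine List.map_congr_left fun e _ => ?_
  simp only [Function.comp_apply]
  split_ifs <;> simp [Poly.eval_mul]

lemma scaleS_inRange {P : Poly} {A : SMat} {N : ℕ} (h : A.inRange N = true) : (scaleS P A).inRange N = true := by
  simpa [SMat.inRange, scaleS] using h

lemma eval_const {P : Poly} (h : ∀ m ∈ P, m.2 = (0, 0)) (t u : F) :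
    P.eval t u = ((P.map Prod.fst).sum : ℤ) := by
  induction P with
  | nil => simp [Poly.eval_nil]
  | cons m P ih =>
    rw [Poly.eval_cons, ih fun x hx => h x (by simp [hx]), List.map_cons, List.sum_cons, h m (by simp)]
    simp

lemma blk_adS_const (D : ChevalleyDatum) (L : List ℕ) (z : ℕ) (key : ℕ × ℕ) :
    ∀ m ∈ (blkS L (adS D z)).at' key, m.2 = (0, 0) := by
  intro m hm
  simp only [SMat.at', blkS, List.mem_flatMap, List.mem_filter, List.mem_map] at hm
  obtain ⟨e, ⟨⟨x, ⟨hx, -⟩, rfl⟩, -⟩, hm⟩ := hm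
  unfold adS at hx
  split at hx
  · obtain ⟨s, -, rfl⟩ := List.mem_map.1 hx
    simp only [List.mem_singleton] at hm
    rw [hm]
  · obtain ⟨y, -, rfl⟩ := List.mem_map.1 hx
    obtain ⟨mo, -, rfl⟩ := List.mem_map.1 hm
    rfl

end blocks

section
variable {D : ChevalleyDatum} {S : Data} {F : Type*} [Field F]

/-- The facts certified by `Data.check`. -/
structure Good (D : ChevalleyDatum) (S : Data) : Prop where
  ndI : S.I.Nodup
  ndQ : S.Q.Nodup
  len : S.Q.length = S.I.length
  ltI : ∀ i ∈ S.I, i < dim D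
  ltQ : ∀ i ∈ S.Q, i < dim D
  cover : ∀ k < dim D, k ∈ S.I ∨ k ∈ S.Q
  root : ∀ r < D.nroots, S.r' r < D.nroots ∧ S.r' (S.r' r) = r ∧ S.lm r * S.lm (S.r' r) = S.p
  wf : ∀ r < D.nroots, wfRoot D r = true
  inv : ∀ r < D.nroots, sameWord D S.p [(r, (1, 1, 0)), (r, (-1, 1, 0))] [] = true
  tri : ∀ r < D.nroots, ∀ e ∈ xS D r (1, 1, 0), e.1.1 ∈ S.I ∨ e.1.2 ∉ S.I ∨ e.2.isZero S.p = true
  iso : ∀ r < D.nroots, (blkS S.Q (xS D r (1, 1, 0))).beqMod S.p (blkS S.I (xS D (S.r' r) (1, S.lm r, 0))) = true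
  aut : ∀ r < D.nroots, ∀ z < dim D, ((blkS S.I (xS D r (1, 1, 0))).mul (blkS S.I (adS D z))).beqMod S.p
        ((pushS D S.I (xS D r (1, 1, 0)) z).mul (blkS S.I (xS D r (1, 1, 0)))) = true
  cert : ∀ w < dim D, ∀ z < dim D,
    (funS (S.cert.getD w []) (blkS S.I (adS D z)) - (if w = z then 1 else 0)) % (S.p : ℤ) = 0

lemma good_of_check (h : S.check D = true) : Good D S := by
  simp only [Data.check, Bool.and_eq_true, List.all_eq_true, List.mem_range, decide_eq_true_eq,
    Bool.or_eq_true, or_assoc] at h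
  obtain ⟨⟨⟨⟨⟨⟨⟨h1, h2⟩, h3⟩, h4⟩, h5⟩, h6⟩, h7⟩, h8⟩ := h
  exact ⟨h1, h2, h3, h4, h5, h6, fun r hr => (h7 r hr).1.1.1.1.1, fun r hr => (h7 r hr).1.1.1.1.2,
    fun r hr => (h7 r hr).1.1.1.2, fun r hr => (h7 r hr).1.1.2, fun r hr => (h7 r hr).1.2,
    fun r hr => (h7 r hr).2, h8⟩

variable (g : Good D S)

/-- The matrix in `Fin (dim D)` coordinates. -/
def mt (x : GL D.Idx F) : Matrix (Fin (dim D)) (Fin (dim D)) F := toFin D (x : Matrix D.Idx D.Idx F)

lemma mt_mul (x y : GL D.Idx F) : mt (D := D) (x * y) = mt x * mt y := toFin_mul D _ _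

lemma mt_one : mt (D := D) (1 : GL D.Idx F) = 1 := toFin_one D

/-- `I` spans an invariant subspace. -/
def Tri (S : Data) (M : Matrix (Fin (dim D)) (Fin (dim D)) F) : Prop :=
  ∀ i j : Fin (dim D), (i : ℕ) ∉ S.I → (j : ℕ) ∈ S.I → M i j = 0

/-- The action on the ideal. -/
def piI (M : Matrix (Fin (dim D)) (Fin (dim D)) F) : Matrix (Fin S.I.length) (Fin S.I.length) F :=
  M.submatrix (emb S.I g.ltI) (emb S.I g.ltI)

/-- The action on the quotient. -/
def piQ (M : Matrix (Fin (dim D)) (Fin (dim D)) F) : Matrix (Fin S.I.length) (Fin S.I.length) F :=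
  M.submatrix (fun a => emb S.Q g.ltQ (Fin.cast g.len.symm a)) (fun a => emb S.Q g.ltQ (Fin.cast g.len.symm a))

/-- `ad` of a basis vector restricted to the ideal. -/
def adI (F : Type*) [Field F] (z : Fin (dim D)) : Matrix (Fin S.I.length) (Fin S.I.length) F :=
  (blkS S.I (adS D z)).toMatrix S.I.length (0 : F) 0

lemma emb_injective : Function.Injective (emb S.I g.ltI) := by
  intro a b h
  exact Fin.ext ((List.Nodup.getElem_inj_iff g.ndI).1 (congrArg Fin.val h))

include g in
lemma disjoint_IQ {k : ℕ} (hk : k < dim D) (hn : k ∉ S.I) : k ∈ S.Q := (g.cover k hk).resolve_left hn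

lemma sum_split (f : Fin (dim D) → F) (h : ∀ k : Fin (dim D), (k : ℕ) ∉ S.I → f k = 0) :
    ∑ k, f k = ∑ c : Fin S.I.length, f (emb S.I g.ltI c) := by
  classical
  rw [← Finset.sum_image (f := f) (g := emb S.I g.ltI) (fun a _ b _ hab => emb_injective g hab)]
  refine (Finset.sum_subset (Finset.subset_univ _) fun k _ hk => h k fun hmem => hk ?_).symm
  obtain ⟨i, hi, hie⟩ := List.getElem_of_mem hmem
  exact Finset.mem_image.2 ⟨⟨i, hi⟩, Finset.mem_univ _, Fin.ext hie⟩

lemma piI_mul {M N : Matrix (Fin (dim D)) (Fin (dim D)) F} (hN : Tri (D := D) S N) :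
    piI g (M * N) = piI g M * piI g N := by
  ext a b
  simp only [piI, Matrix.submatrix_apply, Matrix.mul_apply]
  refine sum_split g _ fun k hk => ?_
  rw [hN k _ hk (List.getElem_mem b.2), mul_zero]

lemma piI_one : piI g (1 : Matrix (Fin (dim D)) (Fin (dim D)) F) = 1 :=
  Matrix.submatrix_one _ (emb_injective g)

end

section
variable {D : ChevalleyDatum} {S : Data} (g : Good D S) (hdisj : ∀ k ∈ S.Q, k ∉ S.I) {F : Type*} [Field F]

lemma embQ_injective : Function.Injective (fun a => emb S.Q g.ltQ (Fin.cast g.len.symm a)) := by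
  intro a b h
  have h1 := (List.Nodup.getElem_inj_iff g.ndQ).1 (congrArg Fin.val h)
  exact Fin.ext h1

include hdisj in
lemma piQ_mul {M N : Matrix (Fin (dim D)) (Fin (dim D)) F} (hM : Tri (D := D) S M) :
    piQ g (M * N) = piQ g M * piQ g N := by
  classical
  ext a b
  simp only [piQ, Matrix.submatrix_apply, Matrix.mul_apply]
  rw [← Finset.sum_image (s := (Finset.univ : Finset (Fin S.I.length)))
    (f := fun k => M (emb S.Q g.ltQ (Fin.cast g.len.symm a)) k * N k (emb S.Q g.ltQ (Fin.cast g.len.symm b)))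
    (g := fun c => emb S.Q g.ltQ (Fin.cast g.len.symm c)) (fun x _ y _ hxy => embQ_injective g hxy)]
  refine (Finset.sum_subset (Finset.subset_univ _) fun k _ hk => ?_).symm
  have hkI : (k : ℕ) ∈ S.I := by
    by_contra hn
    obtain ⟨i, hi, hie⟩ := List.getElem_of_mem (disjoint_IQ g k.2 hn)
    exact hk (Finset.mem_image.2 ⟨⟨i, g.len ▸ hi⟩, Finset.mem_univ _, Fin.ext hie⟩)
  rw [hM _ k (hdisj _ (List.getElem_mem _)) hkI, zero_mul]

lemma piQ_one : piQ g (1 : Matrix (Fin (dim D)) (Fin (dim D)) F) = 1 :=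
  Matrix.submatrix_one _ (embQ_injective g)

variable [CharP F S.p]

include g in
lemma mt_root {r : ℕ} (hr : r < D.nroots) {x : GL D.Idx F} {t : F}
    (hx : (x : Matrix D.Idx D.Idx F) = D.x F r t) :
    mt (D := D) x = (xS D r (1, 1, 0)).toMatrix (dim D) t 0 := by
  rw [mt, hx, ← toFin_x D (g.wf r hr) (1, 1, 0) t 0]
  simp

include g in
lemma inv_root {r : ℕ} (hr : r < D.nroots) {x : GL D.Idx F} {t : F}
    (hx : (x : Matrix D.Idx D.Idx F) = D.x F r t) :
    ((x⁻¹ : GL D.Idx F) : Matrix D.Idx D.Idx F) = D.x F r (-t) := by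
  have h := wordMat_eq_of_sameWord (F := F) D S.p (g.inv r hr) t 0
  simp [ChevalleyDatum.wordMat, evalWord] at h
  rw [← hx] at h
  rw [Units.inv_eq_of_mul_eq_one_right h]

lemma mem_group {r : ℕ} (hr : r < D.nroots) {x : GL D.Idx F} {t : F}
    (hx : (x : Matrix D.Idx D.Idx F) = D.x F r t) : x ∈ D.group F :=
  Subgroup.subset_closure ⟨⟨r, hr⟩, t, by rw [hx, ChevalleyDatum.x, dif_pos hr]⟩

/-- Induction over the Chevalley group from the root elements. -/
theorem group_induction {P : GL D.Idx F → Prop} (h1 : P 1)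
    (hgen : ∀ r < D.nroots, ∀ (t : F) (x : GL D.Idx F), (x : Matrix D.Idx D.Idx F) = D.x F r t → P x)
    (hmul : ∀ x y, x ∈ D.group F → y ∈ D.group F → P x → P y → P (x * y))
    {x : GL D.Idx F} (hx : x ∈ D.group F) (hinv : ∀ r < D.nroots, ∀ (t : F) (x : GL D.Idx F),
      (x : Matrix D.Idx D.Idx F) = D.x F r t → ((x⁻¹ : GL D.Idx F) : Matrix D.Idx D.Idx F) = D.x F r (-t)) : P x := by
  suffices P x ∧ P x⁻¹ from this.1
  induction hx using Subgroup.closure_induction with
  | mem y hy =>
    obtain ⟨r, t, hy⟩ := hy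
    have hy' : (y : Matrix D.Idx D.Idx F) = D.x F r t := by rw [hy, ChevalleyDatum.x, dif_pos r.2]
    exact ⟨hgen r r.2 t y hy', hgen r r.2 (-t) _ (hinv r r.2 t y hy')⟩
  | one => exact ⟨h1, by rwa [inv_one]⟩
  | mul a b ha hb iha ihb =>
    exact ⟨hmul a b ha hb iha.1 ihb.1, by
      rw [_root_.mul_inv_rev]; exact hmul _ _ (inv_mem hb) (inv_mem ha) ihb.2 iha.2⟩
  | inv a _ iha => exact ⟨iha.2, by rw [inv_inv]; exact iha.1⟩

include g in
lemma induction' {P : GL D.Idx F → Prop} (h1 : P 1)
    (hgen : ∀ r < D.nroots, ∀ (t : F) (x : GL D.Idx F), (x : Matrix D.Idx D.Idx F) = D.x F r t → P x)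
    (hmul : ∀ x y, x ∈ D.group F → y ∈ D.group F → P x → P y → P (x * y))
    {x : GL D.Idx F} (hx : x ∈ D.group F) : P x :=
  group_induction h1 hgen hmul hx fun _ hr _ _ hy => inv_root g hr hy

include g in
lemma tri_of_mem {x : GL D.Idx F} (hx : x ∈ D.group F) : Tri (D := D) S (mt (D := D) x) := by
  refine induction' g (P := fun x => Tri (D := D) S (mt (D := D) x)) (fun i j hi hj => ?_) (fun r hr t y hy i j hi hj => ?_) (fun a b _ _ ha hb i j hi hj => ?_) hx
  · rw [mt_one, Matrix.one_apply_ne]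
    exact fun h => hi (h ▸ hj)
  · rw [mt_root g hr hy, entry_eq_sum]
    refine List.sum_eq_zero fun v hv => ?_
    obtain ⟨e, he, rfl⟩ := List.mem_map.1 hv
    split_ifs with hk
    · have h1 : e.1.1 = i := congrArg Prod.fst hk
      have h2 : e.1.2 = j := congrArg Prod.snd hk
      rcases g.tri r hr e he with h | h | h
      · exact absurd (h1 ▸ h) hi
      · exact absurd (h2 ▸ hj) h
      · exact Poly.eval_eq_zero t 0 h
    · rfl
  · rw [mt_mul, Matrix.mul_apply]
    refine Finset.sum_eq_zero fun k _ => ?_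
    by_cases hk : (k : ℕ) ∈ S.I
    · rw [ha i k hi hk, zero_mul]
    · rw [hb k j hk hj, mul_zero]

lemma piI_root {r : ℕ} (hr : r < D.nroots) {x : GL D.Idx F} {t : F}
    (hx : (x : Matrix D.Idx D.Idx F) = D.x F r t) :
    piI g (mt (D := D) x) = (blkS S.I (xS D r (1, 1, 0))).toMatrix S.I.length t 0 := by
  rw [mt_root g hr hx, toMatrix_blkS S.I g.ltI g.ndI]
  rfl

lemma toMatrix_pushS (X : SMat) (hX : X.inRange (dim D) = true) (z : Fin (dim D)) (t : F) :
    (pushS D S.I X z).toMatrix S.I.length t 0 =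
      ∑ w, X.toMatrix (dim D) t 0 w z • adI (S := S) F w := by
  induction X with
  | nil => simp [pushS, toMatrix_nil]
  | cons e X ih =>
    simp only [SMat.inRange, List.all_cons, Bool.and_eq_true, decide_eq_true_eq] at hX
    simp only [toMatrix_cons, dif_pos hX.1, Matrix.add_apply, add_smul, Finset.sum_add_distrib, ← ih hX.2]
    by_cases hz : e.1.2 = (z : ℕ)
    · have : pushS D S.I (e :: X) z = scaleS e.2 (blkS S.I (adS D e.1.1)) ++ pushS D S.I X z := by
        simp [pushS, hz]
      rw [this, toMatrix_append, toMatrix_scaleS]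
      congr 1
      rw [Finset.sum_eq_single (⟨e.1.1, hX.1.1⟩ : Fin (dim D))]
      · simp only [Matrix.single_apply, show (⟨e.1.2, hX.1.2⟩ : Fin (dim D)) = z from Fin.ext hz, and_self, if_pos]
        congr 1
        ext a b
        rw [adI, toMatrix_apply, toMatrix_apply, eval_const (blk_adS_const D S.I _ _), eval_const (blk_adS_const D S.I _ _)]
      · intro w _ hw
        rw [Matrix.single_apply, if_neg (fun h => hw h.1.symm), zero_smul]
      · simp
    · have : pushS D S.I (e :: X) z = pushS D S.I X z := by simp [pushS, hz]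
      rw [this, Finset.sum_eq_zero (fun w _ => by
        rw [Matrix.single_apply, if_neg (fun h => hz (congrArg Fin.val h.2)), zero_smul]), zero_add]

lemma pushS_inRange (X : SMat) (z : ℕ) : (pushS D S.I X z).inRange S.I.length = true := by
  simp only [SMat.inRange, List.all_eq_true]
  intro e he
  simp only [pushS, List.mem_flatMap] at he
  obtain ⟨x, -, hx⟩ := he
  exact List.all_eq_true.1 (scaleS_inRange (blkS_inRange S.I (adS D x.1.1))) e hx

lemma ad_equivariant {x : GL D.Idx F} (hx : x ∈ D.group F) : ∀ z,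
    piI g (mt (D := D) x) * adI (S := S) F z =
      (∑ w, mt (D := D) x w z • adI (S := S) F w) * piI g (mt (D := D) x) := by
  refine induction' g (P := fun x => ∀ z, piI g (mt (D := D) x) * adI (S := S) F z =
      (∑ w, mt (D := D) x w z • adI (S := S) F w) * piI g (mt (D := D) x)) (fun z => ?_) (fun r hr t y hy z => ?_) (fun a b _ hb iha ihb z => ?_) hx
  · simp [mt_one, piI_one, Matrix.one_apply, Finset.sum_ite_eq', ite_smul]
  · have h := toMatrix_eq_of_beqMod t 0 (g.aut r hr z z.2) S.I.length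
    rw [toMatrix_mul _ _ _ _ _ (blkS_inRange _ _) (blkS_inRange _ _),
      toMatrix_mul _ _ _ _ _ (pushS_inRange _ _) (blkS_inRange _ _), ← piI_root g hr hy,
      toMatrix_pushS _ (xS_inRange D (g.wf r hr) _), ← mt_root g hr hy] at h
    rw [← h]
    congr 1
    ext i j
    rw [adI, toMatrix_apply, toMatrix_apply, eval_const (blk_adS_const D S.I _ _), eval_const (blk_adS_const D S.I _ _)]
  · rw [mt_mul, piI_mul g (tri_of_mem g hb), mul_assoc, ihb z, ← mul_assoc, Matrix.mul_sum]
    simp only [Matrix.mul_smul, iha, Matrix.mul_apply, Finset.sum_smul]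
    rw [← mul_assoc]
    congr 1
    simp only [← Matrix.smul_mul]
    rw [← Finset.sum_mul]
    congr 1
    rw [Finset.sum_comm]
    refine Finset.sum_congr rfl fun w _ => ?_
    rw [Finset.smul_sum]
    refine Finset.sum_congr rfl fun v _ => ?_
    rw [smul_smul, mul_comm]

lemma intCast_eq_of_mod {a b : ℤ} (h : (a - b) % (S.p : ℤ) = 0) : (a : F) = (b : F) := by
  rw [← sub_eq_zero, ← Int.cast_sub, CharP.intCast_eq_zero_iff F S.p]
  exact Int.dvd_of_emod_eq_zero h

/-- The ideal determines the element. -/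
lemma piI_injective {x : GL D.Idx F} (hx : x ∈ D.group F) (h1 : piI g (mt (D := D) x) = 1) : x = 1 := by
  have hfun : ∀ w z : Fin (dim D), mt (D := D) x w z = if w = z then 1 else 0 := by
    intro w z
    have h := ad_equivariant g hx z
    rw [h1, one_mul, mul_one] at h
    -- apply the functional of `w`
    let φ : Matrix (Fin S.I.length) (Fin S.I.length) F → F := fun A =>
      ((S.cert.getD w []).map fun c =>
        (c.2 : F) * (if hc : c.1.1 < S.I.length ∧ c.1.2 < S.I.length then A ⟨c.1.1, hc.1⟩ ⟨c.1.2, hc.2⟩ else 0)).sum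
    have hφ : ∀ v : Fin (dim D), φ (adI (S := S) F v) = if w = v then 1 else 0 := by
      intro v
      have hc := intCast_eq_of_mod (F := F) (g.cert w w.2 v v.2)
      simp only [apply_ite (Int.cast : ℤ → F), Int.cast_one, Int.cast_zero, ← Fin.ext_iff] at hc
      rw [← hc, funS, Int.cast_list_sum, List.map_map]
      simp only [φ]
      congr 1
      refine List.map_congr_left fun c _ => ?_
      simp only [Function.comp_apply, Int.cast_mul]
      congr 1
      split_ifs with hc'
      · rw [adI, toMatrix_apply, eval_const (blk_adS_const D S.I _ _)]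
      · rw [show (blkS S.I (adS D v)).at' c.1 = [] from ?_]
        · simp
        · rw [SMat.at', List.flatMap_eq_nil_iff]
          intro e he
          obtain ⟨he1, he2⟩ := List.mem_filter.1 he
          have := List.all_eq_true.1 (blkS_inRange S.I (adS D v)) e he1
          simp only [decide_eq_true_eq] at this he2
          rw [he2] at this
          exact absurd this hc'
    let φl : Matrix (Fin S.I.length) (Fin S.I.length) F →ₗ[F] F :=
      { toFun := φ
        map_add' := fun A B => by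
          simp only [φ]
          rw [← List.sum_map_add]
          congr 1
          refine List.map_congr_left fun c _ => ?_
          split_ifs <;> simp [mul_add]
        map_smul' := fun a A => by
          simp only [φ, RingHom.id_apply, smul_eq_mul]
          rw [← List.sum_map_mul_left]
          congr 1
          refine List.map_congr_left fun c _ => ?_
          split_ifs <;> simp
          ring }
    have h2 := congrArg φl h
    have hlin : ∀ v, φl (adI (S := S) F v) = if w = v then 1 else 0 := hφ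
    rw [map_sum] at h2
    simp only [map_smul, hlin, smul_eq_mul, mul_ite, mul_one, mul_zero, Finset.sum_ite_eq, Finset.mem_univ, if_true] at h2
    exact h2.symm
  apply Units.ext
  apply toFin_injective D
  rw [Units.val_one, toFin_one]
  ext w z
  rw [Matrix.one_apply]
  exact hfun w z

include hdisj in
lemma exists_image {x : GL D.Idx F} (hx : x ∈ D.group F) :
    ∃ y ∈ D.group F, piQ g (mt (D := D) x) = piI g (mt (D := D) y) := by
  refine induction' g (P := fun x => ∃ y ∈ D.group F, piQ g (mt (D := D) x) = piI g (mt (D := D) y))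
    ⟨1, one_mem _, by rw [mt_one, piQ_one, piI_one]⟩ (fun r hr t y hy => ?_)
    (fun a b ha _ ⟨a', ha', ea⟩ ⟨b', hb', eb⟩ =>
      ⟨a' * b', mul_mem ha' hb', by rw [mt_mul, mt_mul, piQ_mul g hdisj (tri_of_mem g ha), piI_mul g (tri_of_mem g hb'), ea, eb]⟩) hx
  have hr' := (g.root r hr).1
  have hdet : ∀ s < D.nroots, ∀ c : F, ∃ u : GL D.Idx F, (u : Matrix D.Idx D.Idx F) = D.x F s c := by
    intro s hs c
    have h := wordMat_eq_of_sameWord (F := F) D S.p (g.inv s hs) c 0
    have h2 := wordMat_eq_of_sameWord (F := F) D S.p (g.inv s hs) (-c) 0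
    simp [ChevalleyDatum.wordMat, evalWord] at h h2
    exact ⟨⟨D.x F s c, D.x F s (-c), h, h2⟩, rfl⟩
  obtain ⟨u, hu⟩ := hdet _ hr' (t ^ S.lm r)
  refine ⟨u, mem_group hr' hu, ?_⟩
  have h := toMatrix_eq_of_beqMod t 0 (g.iso r hr) S.I.length
  have hw : mt (D := D) u = (xS D (S.r' r) (1, S.lm r, 0)).toMatrix (dim D) t 0 := by
    rw [mt, hu, ← toFin_x D (g.wf _ hr') (1, S.lm r, 0) t 0]
    simp
  rw [hw, mt_root g hr hy, piI, piQ]
  rw [← toMatrix_blkS S.I g.ltI g.ndI, ← h]
  ext a b
  have hq := congrFun (congrFun (toMatrix_blkS S.Q g.ltQ g.ndQ (xS D r (1, 1, 0)) t (0 : F)) (Fin.cast g.len.symm a))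
    (Fin.cast g.len.symm b)
  rw [Matrix.submatrix_apply] at hq ⊢
  rw [← hq, entry_eq_sum, entry_eq_sum]
  rfl

/-- The isogeny. -/
noncomputable def sigma : ↥(D.group F) →* ↥(D.group F) where
  toFun x := ⟨(exists_image g hdisj x.2).choose, (exists_image g hdisj x.2).choose_spec.1⟩
  map_one' := Subtype.ext (by
    have h := (exists_image g hdisj (1 : ↥(D.group F)).2).choose_spec
    apply piI_injective g h.1
    rw [← h.2, OneMemClass.coe_one, mt_one, piQ_one])
  map_mul' x y := Subtype.ext (by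
    have hxy := (exists_image g hdisj (x * y).2).choose_spec
    have hx := (exists_image g hdisj x.2).choose_spec
    have hy := (exists_image g hdisj y.2).choose_spec
    set A := (exists_image g hdisj (x * y).2).choose
    set B := (exists_image g hdisj x.2).choose * (exists_image g hdisj y.2).choose with hB
    have hBmem : B ∈ D.group F := mul_mem hx.1 hy.1
    have he : piI g (mt (D := D) A) = piI g (mt (D := D) B) := by
      rw [← hxy.2, Subgroup.coe_mul, mt_mul, piQ_mul g hdisj (tri_of_mem g x.2), hx.2, hy.2, hB, mt_mul,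
        piI_mul g (tri_of_mem g hy.1)]
    show A = B
    refine eq_of_mul_inv_eq_one (piI_injective g (mul_mem hxy.1 (inv_mem hBmem)) ?_)
    rw [mt_mul, piI_mul g (tri_of_mem g (inv_mem hBmem)), he, ← piI_mul g (tri_of_mem g (inv_mem hBmem)),
      ← mt_mul, mul_inv_cancel, mt_one, piI_one])

lemma sigma_spec (x : ↥(D.group F)) :
    piQ g (mt (D := D) (x : GL D.Idx F)) = piI g (mt (D := D) (sigma g hdisj x : GL D.Idx F)) :=
  (exists_image g hdisj x.2).choose_spec.2

lemma sigma_root (x : ↥(D.group F)) {r : ℕ} (hr : r < D.nroots) {t : F}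
    (hx : ((x : GL D.Idx F) : Matrix D.Idx D.Idx F) = D.x F r t) :
    ((sigma g hdisj x : GL D.Idx F) : Matrix D.Idx D.Idx F) = D.x F (S.r' r) (t ^ S.lm r) := by
  have hr' := (g.root r hr).1
  have h := wordMat_eq_of_sameWord (F := F) D S.p (g.inv _ hr') (t ^ S.lm r) 0
  have h2 := wordMat_eq_of_sameWord (F := F) D S.p (g.inv _ hr') (-(t ^ S.lm r)) 0
  simp [ChevalleyDatum.wordMat, evalWord] at h h2
  let u : GL D.Idx F := ⟨D.x F (S.r' r) (t ^ S.lm r), D.x F (S.r' r) (-(t ^ S.lm r)), h, h2⟩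
  have humem : u ∈ D.group F := mem_group hr' (t := t ^ S.lm r) rfl
  have he : piI g (mt (D := D) (sigma g hdisj x : GL D.Idx F)) = piI g (mt (D := D) u) := by
    rw [← sigma_spec]
    have hw : mt (D := D) u = (xS D (S.r' r) (1, S.lm r, 0)).toMatrix (dim D) t 0 := by
      rw [mt, ← toFin_x D (g.wf _ hr') (1, S.lm r, 0) t 0]
      simp [u]
    rw [hw, mt_root g hr hx, piI, piQ, ← toMatrix_blkS S.I g.ltI g.ndI,
      ← toMatrix_eq_of_beqMod t 0 (g.iso r hr) S.I.length]
    ext a b
    have hq := congrFun (congrFun (toMatrix_blkS S.Q g.ltQ g.ndQ (xS D r (1, 1, 0)) t (0 : F)) (Fin.cast g.len.symm a))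
      (Fin.cast g.len.symm b)
    rw [Matrix.submatrix_apply] at hq ⊢
    rw [← hq, entry_eq_sum, entry_eq_sum]
    rfl
  have : (sigma g hdisj x : GL D.Idx F) = u := by
    refine eq_of_mul_inv_eq_one (piI_injective g (mul_mem (sigma g hdisj x).2 (inv_mem humem)) ?_)
    rw [mt_mul, piI_mul g (tri_of_mem g (inv_mem humem)), he, ← piI_mul g (tri_of_mem g (inv_mem humem)),
      ← mt_mul, mul_inv_cancel, mt_one, piI_one]
  rw [this]

lemma xMat_map' {E : Type*} [Field E] (f : F →+* E) (r : Fin D.nroots) (t : F) :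
    (D.xMat F r t).map f = D.xMat E r (f t) := by
  ext row col
  simp only [Matrix.map_apply, ChevalleyDatum.xMat, Matrix.of_apply]
  rcases col with i | s
  · rcases row with i' | u
    · dsimp only; split_ifs <;> simp
    · dsimp only; split_ifs <;> simp
  · dsimp only
    split_ifs with h1 h2
    · rcases row with i' | u
      · simp
      · dsimp only; split_ifs <;> simp
    · rcases row with i' | u
      · simp
      · dsimp only; split_ifs <;> simp
    · rcases row with i' | u
      · simp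
      · simp [map_list_sum, List.map_map, Function.comp_def, apply_ite (f : F → E)]

lemma sigma_sigma [ExpChar F S.p] (x : ↥(D.group F)) :
    ((sigma g hdisj (sigma g hdisj x) : GL D.Idx F) : Matrix D.Idx D.Idx F) =
      ((x : GL D.Idx F) : Matrix D.Idx D.Idx F).map (frobenius F S.p) := by
  obtain ⟨x, hx⟩ := x
  revert hx
  suffices h : ∀ y ∈ D.group F, ∀ hy : y ∈ D.group F,
      ((sigma g hdisj (sigma g hdisj ⟨y, hy⟩) : GL D.Idx F) : Matrix D.Idx D.Idx F) =
        (y : Matrix D.Idx D.Idx F).map (frobenius F S.p) from fun hx => h x hx hx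
  intro y hy
  refine induction' g (P := fun y => ∀ hy : y ∈ D.group F,
      ((sigma g hdisj (sigma g hdisj ⟨y, hy⟩) : GL D.Idx F) : Matrix D.Idx D.Idx F) =
        (y : Matrix D.Idx D.Idx F).map (frobenius F S.p)) (fun h1 => ?_) (fun r hr t z hz h1 => ?_) (fun a b ha hb iha ihb h1 => ?_) hy
  · have : (⟨1, h1⟩ : ↥(D.group F)) = 1 := rfl
    rw [this, map_one, map_one, OneMemClass.coe_one, Units.val_one, Matrix.map_one _ (map_zero _) (map_one _)]
  · obtain ⟨hr', hrr, hl⟩ := g.root r hr
    rw [sigma_root g hdisj _ hr' (sigma_root g hdisj ⟨z, h1⟩ hr hz), ← pow_mul, hrr, hl, hz]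
    simp only [ChevalleyDatum.x, dif_pos hr, xMat_map', frobenius_def]
  · have : (⟨a * b, h1⟩ : ↥(D.group F)) = ⟨a, ha⟩ * ⟨b, hb⟩ := rfl
    rw [this, map_mul, map_mul, Subgroup.coe_mul, Units.val_mul, iha ha, ihb hb, Units.val_mul, Matrix.map_mul]

lemma sigma_injective [ExpChar F S.p] : Function.Injective (sigma g hdisj (F := F)) := by
  intro x y hxy
  apply Subtype.ext
  apply Units.ext
  have h := sigma_sigma g hdisj x
  rw [hxy, sigma_sigma g hdisj y] at h
  ext i j
  exact (frobenius_inj F S.p) (congrFun (congrFun h.symm i) j)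

lemma sigma_surjective [ExpChar F S.p] (hperf : ∀ x : F, ∃ y : F, y ^ S.p = x) :
    Function.Surjective (sigma g hdisj (F := F)) := by
  rintro ⟨y, hy⟩
  suffices h : ∀ z ∈ D.group F, ∃ x : ↥(D.group F), ((sigma g hdisj x : ↥(D.group F)) : GL D.Idx F) = z by
    obtain ⟨x, hx⟩ := h y hy
    exact ⟨x, Subtype.ext hx⟩
  intro z hz
  refine induction' g (P := fun z => ∃ x : ↥(D.group F), ((sigma g hdisj x : ↥(D.group F)) : GL D.Idx F) = z) ⟨1, by rw [map_one]; rfl⟩ (fun r hr t u hu => ?_)
    (fun a b _ _ ⟨a', ha'⟩ ⟨b', hb'⟩ => ⟨a' * b', by rw [map_mul, Subgroup.coe_mul, ha', hb']⟩) hz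
  obtain ⟨c, hc⟩ := hperf t
  obtain ⟨hr', hrr, hl⟩ := g.root r hr
  have h := wordMat_eq_of_sameWord (F := F) D S.p (g.inv _ hr') (c ^ S.lm r) 0
  have h2 := wordMat_eq_of_sameWord (F := F) D S.p (g.inv _ hr') (-(c ^ S.lm r)) 0
  simp [ChevalleyDatum.wordMat, evalWord] at h h2
  let v : GL D.Idx F := ⟨D.x F (S.r' r) (c ^ S.lm r), D.x F (S.r' r) (-(c ^ S.lm r)), h, h2⟩
  refine ⟨⟨v, mem_group hr' (t := c ^ S.lm r) rfl⟩, Units.ext ?_⟩
  rw [sigma_root g hdisj _ hr' (t := c ^ S.lm r) rfl, hrr, ← pow_mul, hl, hc, hu]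

/-- The isogeny as an automorphism over a perfect field. -/
noncomputable def sigmaEquiv [ExpChar F S.p] (hperf : ∀ x : F, ∃ y : F, y ^ S.p = x) :
    ↥(D.group F) ≃* ↥(D.group F) :=
  MulEquiv.ofBijective (sigma g hdisj) ⟨sigma_injective g hdisj, sigma_surjective g hdisj hperf⟩

end

end Cfsg.Agent.Lib.LieTwisted.Isogeny
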