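import Cfsg.Agent.Lib.LieTwisted.ReeBruhat
import Cfsg.Prelude.Def_LieExceptional

/-!
Consequences of the Bruhat decomposition of the small Ree group: the (B,N)-pair, the quotient
N¹/H¹, perfectness, trivial core of B¹, simplicity and TI Sylow 3-subgroups.
-/

set_option autoImplicit false
set_option linter.unusedSectionVars false

namespace Cfsg.Agent.Lib.LieTwisted.Ree

open Cfsg.Lie SparseRoot ChevStructure
open DoubleCoset
open scoped commutatorElement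

variable {K : Type*} [Field K] [CharP K 3] [Fintype K] {m : ℕ} (hK : Fintype.card K = 3 ^ (2 * m + 1))

lemma n0_conj_hy (y : Kˣ) : n0 * hy m y = hy m y⁻¹ * n0 := by
  rw [← n0_hy m y, mul_assoc (n0 * hy m y) n0 n0, n0_mul_self, mul_one]

lemma revPerm_ne_one : revPerm ≠ 1 := fun h => absurd (congrArg (fun σ : Equiv.Perm (Rt chevG2) => σ 0) h) (by decide)

lemma n0_not_diag : (n0 : GL chevG2.Idx K) ∉ chevG2.diagonalSubgroup K := fun h => n0_not_borel (diag_le_borel h)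

lemma reeV_not_borel {t u v : K} (h : reeV m t u v ∈ chevG2.borelSubgroup K) : reeU m t u v = 1 :=
  borel_inf_opp (reeU_mem_pos m t u v) h

include hK

lemma borel_twisted (g : GL chevG2.Idx K) :
    g ∈ chevG2.borelSubgroup K ⊓ Cfsg.Lie.twistedG2 K (3 ^ m) ↔
      ∃ (t u v : K) (y : Kˣ), g = reeU m t u v * hy m y := by
  rw [twisted_eq_fix hK]; exact mem_borel_fix hK g

lemma monomial_twisted (g : GL chevG2.Idx K) :
    g ∈ chevG2.monomialSubgroup K ⊓ Cfsg.Lie.twistedG2 K (3 ^ m) ↔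
      ∃ y : Kˣ, g = hy m y ∨ g = hy m y * n0 := by
  constructor
  · rintro ⟨hN, hG⟩
    rcases twisted_bruhat hK hG with ⟨t, u, v, y, rfl⟩ | ⟨t, u, v, y, t', u', v', rfl⟩
    · have hd : reeU m t u v * hy m y ∈ chevG2.diagonalSubgroup K := by
        rw [← C2.borel_inf_monomial]; exact ⟨borelElt_mem t u v y, hN⟩
      obtain ⟨y', hy'⟩ := (mem_diag_twisted hK _).1 ⟨hd, hG⟩
      exact ⟨y', Or.inl hy'⟩
    · set g := reeU m t u v * hy m y * n0 * reeU m t' u' v' with hg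
      have hd := commOK.bruhat_unique n0_mem_monomial hN (borelElt_mem (m := m) t u v y)
        (pos_le_borel (reeU_mem_pos m t' u' v')) hg
      obtain ⟨y', hy'⟩ := (mem_diag_twisted hK _).1 ⟨hd, (Cfsg.Lie.twistedG2 K (3 ^ m)).mul_mem ((Cfsg.Lie.twistedG2 K (3 ^ m)).inv_mem (n0_mem m)) hG⟩
      refine ⟨y'⁻¹, Or.inr ?_⟩
      rw [← n0_conj_hy, ← hy', mul_inv_cancel_left]
  · rintro ⟨y, rfl | rfl⟩
    · exact ⟨Subgroup.mem_sup_left (hy_mem_diag m y), hy_mem hK y⟩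
    · exact ⟨mul_mem (Subgroup.mem_sup_left (hy_mem_diag m y)) n0_mem_monomial, mul_mem (hy_mem hK y) (n0_mem m)⟩

/-- `N¹/H¹` has order two. -/
theorem exists_N_quot : ∃ φ : ↥(chevG2.monomialSubgroup K ⊓ Cfsg.Lie.twistedG2 K (3 ^ m)) →* Multiplicative (ZMod 2),
    Function.Surjective φ ∧ φ.ker = (chevG2.diagonalSubgroup K ⊓ Cfsg.Lie.twistedG2 K (3 ^ m)).subgroupOf
      (chevG2.monomialSubgroup K ⊓ Cfsg.Lie.twistedG2 K (3 ^ m)) := by
  classical
  set N1 := chevG2.monomialSubgroup K ⊓ Cfsg.Lie.twistedG2 K (3 ^ m)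
  let f : ↥N1 → Multiplicative (ZMod 2) := fun g =>
    if (g : GL chevG2.Idx K) ∈ chevG2.diagonalSubgroup K then 1 else Multiplicative.ofAdd 1
  have hmul : ∀ a b, f (a * b) = f a * f b := by
    rintro ⟨a, ha⟩ ⟨b, hb⟩
    have hd : ∀ y : Kˣ, hy m y * n0 ∉ chevG2.diagonalSubgroup K := fun y h =>
      n0_not_diag (by have := (chevG2.diagonalSubgroup K).mul_mem ((chevG2.diagonalSubgroup K).inv_mem (hy_mem_diag m y)) h; rwa [inv_mul_cancel_left] at this)
    obtain ⟨y, rfl | rfl⟩ := (monomial_twisted hK a).1 ha <;> obtain ⟨z, rfl | rfl⟩ := (monomial_twisted hK b).1 hb <;>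
      simp only [f, Subgroup.coe_mul]
    · rw [if_pos (mul_mem (hy_mem_diag m y) (hy_mem_diag m z)), if_pos (hy_mem_diag m y), if_pos (hy_mem_diag m z), mul_one]
    · rw [if_neg (show hy m y * (hy m z * n0) ∉ chevG2.diagonalSubgroup K by rw [← mul_assoc, hy_mul]; exact hd _),
        if_pos (hy_mem_diag m y), if_neg (hd z), one_mul]
    · rw [if_neg (show hy m y * n0 * hy m z ∉ chevG2.diagonalSubgroup K by
          rw [mul_assoc, n0_conj_hy, ← mul_assoc, hy_mul]; exact hd _),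
        if_neg (hd y), if_pos (hy_mem_diag m z), mul_one]
    · rw [if_pos (show hy m y * n0 * (hy m z * n0) ∈ chevG2.diagonalSubgroup K by
          rw [mul_assoc, ← mul_assoc (n0 : GL chevG2.Idx K), n0_conj_hy, mul_assoc _ n0 n0, n0_mul_self, mul_one, hy_mul]
          exact hy_mem_diag m _), if_neg (hd y), if_neg (hd z)]
      rfl
  refine ⟨MonoidHom.mk' f hmul, fun c => ?_, ?_⟩
  · have h2 : c = 1 ∨ c = Multiplicative.ofAdd 1 := by revert c; decide
    rcases h2 with rfl | rfl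
    · exact ⟨1, if_pos (one_mem _)⟩
    · exact ⟨⟨n0, n0_mem_monomial, n0_mem m⟩, if_neg n0_not_diag⟩
  · ext g
    show f g = 1 ↔ (g : GL chevG2.Idx K) ∈ chevG2.diagonalSubgroup K ⊓ Cfsg.Lie.twistedG2 K (3 ^ m)
    have hg2 : (g : GL chevG2.Idx K) ∈ Cfsg.Lie.twistedG2 K (3 ^ m) := g.2.2
    simp only [f, Subgroup.mem_inf, hg2, and_true]
    split_ifs with h
    · simp [h]
    · simp [h]

omit hK in
/-- The group `B¹` inside `G¹`. -/
noncomputable abbrev B1 (m : ℕ) : Subgroup ↥(Cfsg.Lie.twistedG2 K (3 ^ m)) :=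
  (chevG2.borelSubgroup K ⊓ Cfsg.Lie.twistedG2 K (3 ^ m)).subgroupOf (Cfsg.Lie.twistedG2 K (3 ^ m))

omit hK in
lemma mem_B1 {g : ↥(Cfsg.Lie.twistedG2 K (3 ^ m))} : g ∈ B1 (K := K) m ↔ (g : GL chevG2.Idx K) ∈ chevG2.borelSubgroup K := by
  simp [B1, Subgroup.mem_subgroupOf]

omit hK in
/-- `n₀` as an element of `G¹`. -/
noncomputable def w0 (m : ℕ) : ↥(Cfsg.Lie.twistedG2 K (3 ^ m)) := ⟨n0, n0_mem m⟩

omit hK in
lemma w0_mul_self : w0 (K := K) m * w0 m = 1 := Subtype.ext n0_mul_self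

omit hK in
lemma w0_inv : (w0 (K := K) m)⁻¹ = w0 m := inv_eq_of_mul_eq_one_right w0_mul_self

lemma cell_dichotomy (g : ↥(Cfsg.Lie.twistedG2 K (3 ^ m))) :
    g ∈ B1 (K := K) m ∨ g ∈ doubleCoset (w0 m) (B1 (K := K) m : Set ↥(Cfsg.Lie.twistedG2 K (3 ^ m))) (B1 (K := K) m) := by
  rcases twisted_bruhat hK g.2 with ⟨t, u, v, y, h⟩ | ⟨t, u, v, y, t', u', v', h⟩
  · exact Or.inl (mem_B1.2 (h ▸ borelElt_mem t u v y))
  · refine Or.inr (mem_doubleCoset.2 ⟨⟨reeU m t u v * hy m y, mul_mem (reeU_mem m _ _ _) (hy_mem hK _)⟩,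
      mem_B1.2 (borelElt_mem t u v y), ⟨reeU m t' u' v', reeU_mem m _ _ _⟩,
      mem_B1.2 (pos_le_borel (reeU_mem_pos m _ _ _)), Subtype.ext h⟩)

lemma hy_conj_B1 (y : Kˣ) : (⟨hy m y, hy_mem hK y⟩ : ↥(Cfsg.Lie.twistedG2 K (3 ^ m))) ∈ B1 (K := K) m :=
  mem_B1.2 (diag_le_borel (hy_mem_diag m y))

/-- The (B,N)-pair of `G¹`. -/
noncomputable def bnPairRee : Cfsg.BNPair ↥(Cfsg.Lie.twistedG2 K (3 ^ m)) where
  B := B1 (K := K) m
  N := (chevG2.monomialSubgroup K ⊓ Cfsg.Lie.twistedG2 K (3 ^ m)).subgroupOf (Cfsg.Lie.twistedG2 K (3 ^ m))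
  S := {w0 m}
  sup_eq_top := by
    rw [eq_top_iff]
    rintro g -
    have hn : w0 m ∈ (chevG2.monomialSubgroup K ⊓ Cfsg.Lie.twistedG2 K (3 ^ m)).subgroupOf
        (Cfsg.Lie.twistedG2 K (3 ^ m)) := ⟨n0_mem_monomial, n0_mem m⟩
    rcases cell_dichotomy hK g with h | h
    · exact Subgroup.mem_sup_left h
    · obtain ⟨a, ha, b, hb, rfl⟩ := mem_doubleCoset.1 h
      exact mul_mem (mul_mem (Subgroup.mem_sup_left ha) (Subgroup.mem_sup_right hn)) (Subgroup.mem_sup_left hb)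
  conj_mem := by
    rintro n hn t ⟨htB, htN⟩
    have hd : (t : GL chevG2.Idx K) ∈ chevG2.diagonalSubgroup K := by
      rw [← C2.borel_inf_monomial]; exact ⟨mem_B1.1 htB, htN.1⟩
    exact mem_B1.2 (diag_le_borel (C2.conj_diagonal hn.1 hd))
  subset := by
    rintro _ rfl
    exact ⟨n0_mem_monomial, n0_mem m⟩
  sq_mem := by
    rintro _ rfl
    rw [w0_mul_self]; exact one_mem _
  inj := by
    rintro _ rfl _ rfl -
    rfl
  closure_sup := by
    refine le_antisymm (sup_le ((Subgroup.closure_le _).2 ?_) inf_le_right) ?_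
    · rintro _ rfl
      exact ⟨n0_mem_monomial, n0_mem m⟩
    · rintro g hg
      obtain ⟨y, h | h⟩ := (monomial_twisted hK g.1).1 hg
      · exact Subgroup.mem_sup_right ⟨mem_B1.2 (h ▸ diag_le_borel (hy_mem_diag m y)), hg⟩
      · rw [show g = ⟨hy m y, hy_mem hK y⟩ * w0 m from Subtype.ext h]
        exact mul_mem (Subgroup.mem_sup_right ⟨hy_conj_B1 hK y,
          Subgroup.mem_sup_left (hy_mem_diag m y), hy_mem hK y⟩) (Subgroup.mem_sup_left (Subgroup.subset_closure rfl))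
  mul_mem_union := by
    rintro _ rfl n hn b hb
    obtain ⟨y, h | h⟩ := (monomial_twisted hK n.1).1 hn
    · have hn' : n = ⟨hy m y, hy_mem hK y⟩ := Subtype.ext h
      have hnB : n ∈ B1 (K := K) m := hn' ▸ hy_conj_B1 hK y
      exact Or.inl (mem_doubleCoset.2 ⟨1, one_mem _, n⁻¹ * b * n, mul_mem (mul_mem (inv_mem hnB) hb) hnB, by group⟩)
    · have hn' : n = ⟨hy m y, hy_mem hK y⟩ * w0 m := Subtype.ext h
      have hyB := hy_conj_B1 hK y
      have hsn : w0 m * n ∈ B1 (K := K) m := by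
        rw [mem_B1, hn', Subgroup.coe_mul, Subgroup.coe_mul]
        show n0 * (hy m y * n0) ∈ _
        rw [← mul_assoc, n0_hy]
        exact diag_le_borel (hy_mem_diag m _)
      rcases cell_dichotomy hK (w0 m * b * n) with h1 | h1
      · refine Or.inl (mem_doubleCoset.2 ⟨(w0 m * b * n) * (w0 m * n)⁻¹, mul_mem h1 (inv_mem hsn), 1, one_mem _, ?_⟩)
        group
      · obtain ⟨a, ha, c, hc, e⟩ := mem_doubleCoset.1 h1
        refine Or.inr (mem_doubleCoset.2 ⟨a * (⟨hy m y, hy_mem hK y⟩ : ↥(Cfsg.Lie.twistedG2 K (3 ^ m)))⁻¹,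
          mul_mem ha (inv_mem hyB), c, hc, ?_⟩)
        rw [e, hn']
        group
  conj_ne := by
    rintro _ rfl he
    have hx : (⟨reeU m 0 1 0, reeU_mem m _ _ _⟩ : ↥(Cfsg.Lie.twistedG2 K (3 ^ m))) ∈ B1 (K := K) m :=
      mem_B1.2 (pos_le_borel (reeU_mem_pos m _ _ _))
    have h2 : w0 m * (⟨reeU m 0 1 0, reeU_mem m _ _ _⟩ : ↥(Cfsg.Lie.twistedG2 K (3 ^ m))) * w0 m ∈ (B1 (K := K) m : Set _) := by
      rw [← he]; exact ⟨_, hx, rfl⟩
    have h3 := reeV_not_borel (mem_B1.1 h2)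
    exact one_ne_zero (reeU_eq_one h3).2.1

/-- The core of `B¹` is trivial. -/
theorem core_trivial : (B1 (K := K) m).normalCore = ⊥ := by
  rw [Subgroup.eq_bot_iff_forall]
  intro g hg
  have hcore : ∀ x, x * g * x⁻¹ ∈ B1 (K := K) m := hg
  obtain ⟨t, u, v, y, hge⟩ := (borel_twisted hK g.1).1 ⟨mem_B1.1 (Subgroup.normalCore_le _ hg), g.2⟩
  have h1 := mem_B1.1 (hcore (w0 m))
  rw [w0_inv, Subgroup.coe_mul, Subgroup.coe_mul, hge] at h1
  change n0 * (reeU m t u v * hy m y) * n0 ∈ _ at h1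
  have e : n0 * (reeU m t u v * hy m y) * n0 = (n0 * reeU m t u v * n0) * (n0 * hy m y * n0) := by
    simp only [mul_assoc]; rw [← mul_assoc n0 n0, n0_mul_self, one_mul]
  rw [e, n0_hy] at h1
  have h2 : n0 * reeU m t u v * n0 ∈ chevG2.borelSubgroup K := by
    have := mul_mem h1 (inv_mem (diag_le_borel (hy_mem_diag m y⁻¹)))
    rwa [mul_inv_cancel_right] at this
  rw [reeV_not_borel (m := m) (t := t) (u := u) (v := v) h2, one_mul] at hge
  have hg' : (⟨reeU m 0 0 1, reeU_mem m _ _ _⟩ : ↥(Cfsg.Lie.twistedG2 K (3 ^ m))) * g *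
      (⟨reeU m 0 0 1, reeU_mem m _ _ _⟩)⁻¹ ∈ (B1 (K := K) m).normalCore :=
    (Subgroup.normalCore_normal _).conj_mem g hg _
  -- a conjugate again lies in `H`, so `g` centralises
  set k := (⟨reeU m 0 0 1, reeU_mem m _ _ _⟩ : ↥(Cfsg.Lie.twistedG2 K (3 ^ m))) * g *
      (⟨reeU m 0 0 1, reeU_mem m _ _ _⟩)⁻¹ with hk
  obtain ⟨a, b, c, z, hke⟩ := (borel_twisted hK k.1).1 ⟨mem_B1.1 (Subgroup.normalCore_le _ hg'), k.2⟩
  have hcore' : ∀ x, x * k * x⁻¹ ∈ B1 (K := K) m := hg'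
  have h3 := mem_B1.1 (hcore' (w0 m))
  rw [w0_inv, Subgroup.coe_mul, Subgroup.coe_mul, hke] at h3
  change n0 * (reeU m a b c * hy m z) * n0 ∈ _ at h3
  rw [show n0 * (reeU m a b c * hy m z) * n0 = (n0 * reeU m a b c * n0) * (n0 * hy m z * n0) by
    simp only [mul_assoc]; rw [← mul_assoc n0 n0, n0_mul_self, one_mul], n0_hy] at h3
  have h4 : n0 * reeU m a b c * n0 ∈ chevG2.borelSubgroup K := by
    have := mul_mem h3 (inv_mem (diag_le_borel (hy_mem_diag m z⁻¹)))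
    rwa [mul_inv_cancel_right] at this
  rw [reeV_not_borel (m := m) (t := a) (u := b) (v := c) h4, one_mul] at hke
  have h5 : reeU m (0 : K) 0 1 * hy m y = reeU m 0 0 0 * hy m z * reeU m 0 0 1 := by
    rw [reeU_zero, one_mul, ← hke, hk, Subgroup.coe_mul, Subgroup.coe_mul, Subgroup.coe_inv, hge]
    group
  rw [mul_assoc, hy_reeU hK, reeU_zero, one_mul] at h5
  obtain ⟨⟨-, -, hv⟩, hyz⟩ := reeU_hy_inj h5
  subst hyz
  rw [mul_one] at hv
  apply Subtype.ext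
  rw [hge, show y = 1 from Units.ext hv.symm, hy_one]
  rfl

lemma exists_y (hm : 1 ≤ m) : ∃ y : Kˣ, (y : K) ≠ 1 ∧ (y : K) ≠ -1 := by
  classical
  by_contra hall
  push Not at hall
  have hsub : (Finset.univ : Finset K) ⊆ {0, 1, -1} := by
    intro x _
    simp only [Finset.mem_insert, Finset.mem_singleton]
    by_cases hx : x = 0
    · exact Or.inl hx
    · by_cases hx1 : x = 1
      · exact Or.inr (Or.inl hx1)
      · exact Or.inr (Or.inr (hall (Units.mk0 x hx) hx1))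
  have h := Finset.card_le_card hsub
  rw [Finset.card_univ, hK] at h
  have h3 : ({0, 1, -1} : Finset K).card ≤ 3 := Finset.card_le_three
  have : 3 ^ 3 ≤ 3 ^ (2 * m + 1) := Nat.pow_le_pow_right (by norm_num) (by omega)
  omega

omit hK in
lemma scale_ne {y : Kˣ} (hx : (((y : K) ^ 3 ^ m) ^ 3) ^ 3 ^ m = y) (h1 : (y : K) ≠ 1) (h2 : (y : K) ≠ -1) :
    (y : K) ^ 2 / ((y : K) ^ 3 ^ m) ^ 3 ≠ 1 ∧ ((y : K) ^ 3 ^ m) ^ 3 / (y : K) ≠ 1 := by
  have hy0 : (y : K) ≠ 0 := y.ne_zero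
  set x := (y : K) ^ 3 ^ m with hxdef
  have hx0 : x ≠ 0 := pow_ne_zero _ hy0
  constructor
  · intro h
    field_simp at h
    have e2 : x ^ 2 = (y : K) := by
      have := congrArg (fun z => z ^ 3 ^ m) h
      simp only [hx] at this
      rwa [pow_right_comm, ← hxdef] at this
    have e3 : x = 1 := by
      have : x ^ 3 * x = x ^ 3 * 1 := by rw [mul_one]; linear_combination h + (x ^ 2 + y) * e2
      exact mul_left_cancel₀ (pow_ne_zero _ hx0) this
    exact h1 (by rw [← e2, e3, one_pow])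
  · intro h
    field_simp at h
    have e2 : (y : K) = x := by
      have := congrArg (fun z => z ^ 3 ^ m) h
      simpa only [hx, ← hxdef] using this
    have e3 : x * x = 1 := by
      have : x * (x * x) = x * 1 := by rw [mul_one]; linear_combination h + e2
      exact mul_left_cancel₀ hx0 this
    rcases mul_self_eq_one_iff.1 e3 with hh1 | hh1
    · exact h1 (e2.trans hh1)
    · exact h2 (e2.trans hh1)

lemma reeU0_mul (u v u' v' : K) : reeU m 0 u v * reeU m 0 u' v' = reeU m 0 (u + u') (v + v') := by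
  have he : (3 : ℕ) ^ m ≠ 0 := by positivity
  simp only [reeU, zero_pow he, zero_pow (Nat.succ_ne_zero (3 ^ m)), zero_pow (Nat.succ_ne_zero (2 * 3 ^ m)),
    zero_add, ordP_mul]
  congr 1 <;> simp [add_pow_char_pow]

/-- `G¹` is perfect for `m ≥ 1`. -/
theorem perfectRee (hm : 1 ≤ m) : commutator ↥(Cfsg.Lie.twistedG2 K (3 ^ m)) = ⊤ := by
  obtain ⟨y, hy1, hy2⟩ := exists_y hK hm
  have hx : (((y : K) ^ 3 ^ m) ^ 3) ^ 3 ^ m = y := by
    rw [← pow_mul, ← pow_mul, show 3 ^ m * (3 * 3 ^ m) = 3 * (3 ^ m * 3 ^ m) by ring, pow_q hK]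
  obtain ⟨hA, hB⟩ := scale_ne hx hy1 hy2
  set A := (y : K) ^ 2 / ((y : K) ^ 3 ^ m) ^ 3
  set B := ((y : K) ^ 3 ^ m) ^ 3 / (y : K)
  set D1 := (commutator ↥(Cfsg.Lie.twistedG2 K (3 ^ m))).map (Cfsg.Lie.twistedG2 K (3 ^ m)).subtype
  have hcomm : ∀ t u v : K, reeU m (A * t) (B * u) ((y : K) * v) * (reeU m t u v)⁻¹ ∈ D1 := by
    intro t u v
    refine ⟨⁅(⟨hy m y, hy_mem hK y⟩ : ↥(Cfsg.Lie.twistedG2 K (3 ^ m))), ⟨reeU m t u v, reeU_mem m t u v⟩⁆,
      Subgroup.commutator_mem_commutator (Subgroup.mem_top _) (Subgroup.mem_top _), ?_⟩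
    show hy m y * reeU m t u v * (hy m y)⁻¹ * (reeU m t u v)⁻¹ = _
    rw [hy_reeU hK, mul_inv_cancel_right]
  have h0 : ∀ u v : K, reeU m 0 u v ∈ D1 := by
    intro u v
    have := hcomm 0 (u / (B - 1)) (v / ((y : K) - 1))
    rw [mul_zero] at this
    convert this using 1
    rw [eq_mul_inv_iff_mul_eq, reeU0_mul hK]
    have hB' : B - 1 ≠ 0 := sub_ne_zero.2 hB
    have hy' : (y : K) - 1 ≠ 0 := sub_ne_zero.2 hy1
    congr 1 <;> field_simp <;> ring
  have hU : ∀ t u v : K, reeU m t u v ∈ D1 := by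
    intro t u v
    have hA' : A - 1 ≠ 0 := sub_ne_zero.2 hA
    set s := t / (A - 1)
    have hc := hcomm s 0 0
    have hp : reeU m (A * s) (B * 0) ((y : K) * 0) * (reeU m s 0 0)⁻¹ ∈
        chevG2.posUnipotent K ⊓ Cfsg.Lie.twistedG2 K (3 ^ m) :=
      mul_mem ((mem_pos_twisted hK _).2 ⟨_, _, _, rfl⟩) (inv_mem ((mem_pos_twisted hK _).2 ⟨_, _, _, rfl⟩))
    obtain ⟨a, b, c, habc⟩ := (mem_pos_twisted hK _).1 hp
    have ha : a = t := by
      have h := eq_mul_inv_iff_mul_eq.1 habc.symm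
      rw [reeU, reeU, reeU, ordP_mul] at h
      obtain ⟨-, e, -⟩ := ordP_inj h
      have : a = (A - 1) * s := by linear_combination e
      rw [this]
      simp only [s]
      field_simp
    subst ha
    rw [habc] at hc
    have hp2 : (reeU m a b c)⁻¹ * reeU m a u v ∈ chevG2.posUnipotent K ⊓ Cfsg.Lie.twistedG2 K (3 ^ m) :=
      mul_mem (inv_mem ((mem_pos_twisted hK _).2 ⟨_, _, _, rfl⟩)) ((mem_pos_twisted hK _).2 ⟨_, _, _, rfl⟩)
    obtain ⟨a', b', c', e'⟩ := (mem_pos_twisted hK _).1 hp2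
    have ha' : a' = 0 := by
      have h := (inv_mul_eq_iff_eq_mul.1 e').symm
      rw [reeU, reeU, reeU, ordP_mul] at h
      obtain ⟨-, e, -⟩ := ordP_inj h
      linear_combination e
    subst ha'
    rw [show reeU m a u v = reeU m a b c * reeU m 0 b' c' by rw [← e', mul_inv_cancel_left]]
    exact mul_mem hc (h0 b' c')
  have hV : ∀ t u v : K, reeV m t u v ∈ D1 := by
    intro t u v
    obtain ⟨x, hx', hxe⟩ := hU t u v
    refine ⟨w0 m * x * (w0 m)⁻¹, (inferInstance : (commutator ↥(Cfsg.Lie.twistedG2 K (3 ^ m))).Normal).conj_mem x hx' _, ?_⟩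
    show n0 * (x : GL chevG2.Idx K) * n0⁻¹ = reeV m t u v
    rw [n0_inv, show (x : GL chevG2.Idx K) = reeU m t u v from hxe, reeV]
  have hle : Cfsg.Lie.twistedG2 K (3 ^ m) ≤ D1 := by
    rw [twisted_eq_closure, Subgroup.closure_le]
    rintro g ⟨t, u, v, rfl | rfl⟩
    · exact hU t u v
    · exact hV t u v
  rw [eq_top_iff]
  rintro g -
  obtain ⟨x, hx', hxe⟩ := hle g.2
  have : x = g := Subtype.ext hxe
  exact this ▸ hx'

lemma B1_solvable : Group.IsSolvable ↥(B1 (K := K) m) := by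
  haveI := C2.borel_isSolvable (F := K)
  let f : ↥(B1 (K := K) m) →* ↥(chevG2.borelSubgroup K) :=
    ((Cfsg.Lie.twistedG2 K (3 ^ m)).subtype.comp (B1 (K := K) m).subtype).codRestrict _ fun x => mem_B1.1 x.2
  exact solvable_of_solvable_injective (f := f) fun a b h => by
    have : ((a.1 : GL chevG2.Idx K)) = b.1 := congrArg (fun z : ↥(chevG2.borelSubgroup K) => (z : GL chevG2.Idx K)) h
    exact Subtype.ext (Subtype.ext this)

/-- `G¹` is simple for `m ≥ 1`. -/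
theorem simpleRee (hm : 1 ≤ m) : IsSimpleGroup ↥(Cfsg.Lie.twistedG2 K (3 ^ m)) := by
  haveI : Nontrivial ↥(Cfsg.Lie.twistedG2 K (3 ^ m)) :=
    ⟨⟨w0 m, 1, fun h => n0_not_borel (by rw [show (n0 : GL chevG2.Idx K) = 1 from congrArg Subtype.val h]; exact one_mem _)⟩⟩
  refine ⟨fun N hN => or_iff_not_imp_left.2 fun hne => ?_⟩
  have hnot : ¬ N ≤ B1 (K := K) m := by
    intro hle
    refine hne (le_bot_iff.1 ?_)
    rw [← core_trivial hK]
    exact Subgroup.normal_le_normalCore.2 hle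
  obtain ⟨k, hkN, hkB⟩ := SetLike.not_le_iff_exists.1 hnot
  obtain ⟨a, ha, c, hc, hke⟩ := mem_doubleCoset.1 ((cell_dichotomy hK k).resolve_left hkB)
  have hmem : c * k * c⁻¹ ∈ N := hN.conj_mem k hkN c
  have htop : N ⊔ B1 (K := K) m = ⊤ := by
    rw [eq_top_iff]
    rintro g -
    rcases cell_dichotomy hK g with h | h
    · exact Subgroup.mem_sup_right h
    · obtain ⟨p, hp, q, hq, rfl⟩ := mem_doubleCoset.1 h
      rw [show p * w0 m * q = (p * (c * a)⁻¹) * (c * k * c⁻¹) * q by rw [hke]; group]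
      exact mul_mem (mul_mem (Subgroup.mem_sup_right (mul_mem hp (inv_mem (mul_mem hc ha))))
        (Subgroup.mem_sup_left hmem)) (Subgroup.mem_sup_right hq)
  have hperf := perfectRee hK hm
  have key : ∀ j : ℕ, N ⊔ (derivedSeries ↥(B1 (K := K) m) j).map (B1 (K := K) m).subtype = ⊤ := by
    intro j
    induction j with
    | zero => rwa [derivedSeries_zero, ← MonoidHom.range_eq_map, Subgroup.range_subtype]
    | succ j ih =>
      rw [derivedSeries_succ, Subgroup.map_commutator]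
      have hs := QuotientGroup.mk'_surjective N
      set X := (derivedSeries ↥(B1 (K := K) m) j).map (B1 (K := K) m).subtype
      have h1 : X.map (QuotientGroup.mk' N) = ⊤ := by
        have := congrArg (Subgroup.map (QuotientGroup.mk' N)) ih
        rwa [Subgroup.map_sup, QuotientGroup.map_mk'_self, bot_sup_eq, Subgroup.map_top_of_surjective _ hs] at this
      have h2 : (⁅X, X⁆).map (QuotientGroup.mk' N) = ⊤ := by
        rw [Subgroup.map_commutator, h1, ← Subgroup.map_top_of_surjective _ hs, ← Subgroup.map_commutator,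
          ← commutator_def, hperf]
      have h3 := congrArg (Subgroup.comap (QuotientGroup.mk' N)) h2
      rwa [Subgroup.comap_map_eq, QuotientGroup.ker_mk', Subgroup.comap_top, sup_comm] at h3
  obtain ⟨j, hj⟩ := (B1_solvable hK).solvable
  simpa [hj] using key j

theorem notCommRee (hm : 1 ≤ m) : ¬ IsMulCommutative ↥(Cfsg.Lie.twistedG2 K (3 ^ m)) := by
  intro h
  have h1 : commutator ↥(Cfsg.Lie.twistedG2 K (3 ^ m)) = ⊥ := by
    rw [commutator_def, Subgroup.commutator_eq_bot_iff_le_centralizer]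
    intro a _
    rw [Subgroup.mem_centralizer_iff]
    intro b _
    exact h.is_comm.comm b a
  rw [perfectRee hK hm] at h1
  have := (Subgroup.eq_bot_iff_forall _).1 h1 (w0 m) (Subgroup.mem_top _)
  exact n0_not_borel (by rw [show (n0 : GL chevG2.Idx K) = 1 from congrArg Subtype.val this]; exact one_mem _)

/-- The group `U¹` inside `G¹`. -/
noncomputable abbrev U1 (m : ℕ) : Subgroup ↥(Cfsg.Lie.twistedG2 K (3 ^ m)) :=
  (chevG2.posUnipotent K ⊓ Cfsg.Lie.twistedG2 K (3 ^ m)).subgroupOf (Cfsg.Lie.twistedG2 K (3 ^ m))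

/-- Distinct Sylow 3-subgroups meet trivially. -/
theorem sylow_TI (P Q : Sylow 3 ↥(Cfsg.Lie.twistedG2 K (3 ^ m))) (hPQ : P ≠ Q) :
    (P : Subgroup ↥(Cfsg.Lie.twistedG2 K (3 ^ m))) ⊓ Q = ⊥ := by
  haveI : Fact (Nat.Prime 3) := ⟨Nat.prime_three⟩
  have hUcard : Nat.card ↥(U1 (K := K) m) = 3 ^ (3 * (2 * m + 1)) := by
    rw [Nat.card_congr (Subgroup.subgroupOfEquivOfLe (inf_le_right)).toEquiv, card_pos_twisted hK, ← pow_mul,
      mul_comm]
  have hG := card_twisted hK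
  have hfac : (Nat.card ↥(Cfsg.Lie.twistedG2 K (3 ^ m))).factorization 3 = 3 * (2 * m + 1) := by
    rw [hG, ← pow_mul]
    have h1 : 1 ≤ 3 ^ (2 * m + 1) := Nat.one_le_pow _ _ (by norm_num)
    have hd : ¬ 3 ∣ (3 ^ (2 * m + 1) - 1) * (3 ^ ((2 * m + 1) * 3) + 1) := by
      intro h
      rcases (Nat.prime_three.dvd_mul).1 h with h | h
      · have h2 : 3 ∣ 3 ^ (2 * m + 1) := dvd_pow_self 3 (by omega)
        omega
      · have h2 : 3 ∣ 3 ^ ((2 * m + 1) * 3) := dvd_pow_self 3 (by omega)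
        omega
    have hne : (3 ^ (2 * m + 1) - 1) * (3 ^ ((2 * m + 1) * 3) + 1) ≠ 0 := fun h0 => hd (h0 ▸ dvd_zero 3)
    rw [mul_assoc, Nat.factorization_mul (by positivity) hne, Finsupp.add_apply, Nat.factorization_pow,
      Finsupp.smul_apply, Nat.Prime.factorization_self Nat.prime_three, Nat.factorization_eq_zero_of_not_dvd hd]
    simp; ring
  let P0 : Sylow 3 ↥(Cfsg.Lie.twistedG2 K (3 ^ m)) := Sylow.ofCard (U1 (K := K) m) (by rw [hUcard, hfac])
  have hmain : ∀ g : ↥(Cfsg.Lie.twistedG2 K (3 ^ m)), g ∉ B1 (K := K) m →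
      ∀ x ∈ U1 (K := K) m, g⁻¹ * x * g ∈ U1 (K := K) m → x = 1 := by
    intro g hg x hx hx2
    obtain ⟨p, hp, q, hq, rfl⟩ := mem_doubleCoset.1 ((cell_dichotomy hK g).resolve_left hg)
    have hUB : ∀ {z}, z ∈ U1 (K := K) m → z ∈ B1 (K := K) m := fun hz => mem_B1.2 (pos_le_borel hz.1)
    have hx' : p⁻¹ * x * p ∈ U1 (K := K) m := by
      obtain ⟨a, b, c, d, hpe⟩ := (borel_twisted hK p.1).1 ⟨mem_B1.1 hp, p.2⟩
      refine ⟨?_, (p⁻¹ * x * p).2⟩
      show (p : GL chevG2.Idx K)⁻¹ * x * p ∈ chevG2.posUnipotent K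
      obtain ⟨t, u, v, hxe⟩ := (mem_pos_twisted hK x.1).1 hx
      rw [hpe, hxe, mul_inv_rev, show (hy m d)⁻¹ * (reeU m a b c)⁻¹ * reeU m t u v * (reeU m a b c * hy m d) =
        (hy m d)⁻¹ * ((reeU m a b c)⁻¹ * reeU m t u v * reeU m a b c) * hy m d by group]
      obtain ⟨t', u', v', e⟩ := (mem_pos_twisted hK _).1
        (mul_mem (mul_mem (inv_mem ((mem_pos_twisted hK _).2 ⟨a, b, c, rfl⟩)) ((mem_pos_twisted hK _).2 ⟨t, u, v, rfl⟩))
          ((mem_pos_twisted hK _).2 ⟨a, b, c, rfl⟩))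
      rw [e, hy_inv, hy_reeU hK, mul_assoc, hy_mul, inv_mul_cancel, hy_one, mul_one]
      exact reeU_mem_pos m _ _ _
    have h3 : w0 m * (p⁻¹ * x * p) * w0 m ∈ B1 (K := K) m := by
      have := mul_mem (mul_mem hq (hUB hx2)) (inv_mem hq)
      rwa [show q * ((p * w0 m * q)⁻¹ * x * (p * w0 m * q)) * q⁻¹ = (w0 m)⁻¹ * (p⁻¹ * x * p) * w0 m by group,
        w0_inv] at this
    have h4 : ((p⁻¹ * x * p : ↥(Cfsg.Lie.twistedG2 K (3 ^ m))) : GL chevG2.Idx K) = 1 :=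
      borel_inf_opp hx'.1 (mem_B1.1 h3)
    have h5 : p⁻¹ * x * p = 1 := Subtype.ext h4
    calc x = p * (p⁻¹ * x * p) * p⁻¹ := by group
      _ = 1 := by rw [h5]; group
  obtain ⟨g, rfl⟩ := MulAction.exists_smul_eq ↥(Cfsg.Lie.twistedG2 K (3 ^ m)) P0 P
  obtain ⟨h, rfl⟩ := MulAction.exists_smul_eq ↥(Cfsg.Lie.twistedG2 K (3 ^ m)) P0 Q
  rw [Subgroup.eq_bot_iff_forall]
  intro z hz
  obtain ⟨hz1, hz2⟩ := Subgroup.mem_inf.1 hz
  rw [Sylow.smul_def, Sylow.pointwise_smul_def, Subgroup.mem_pointwise_smul_iff_inv_smul_mem] at hz1 hz2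
  change (MulAut.conj g)⁻¹ z ∈ U1 (K := K) m at hz1
  change (MulAut.conj h)⁻¹ z ∈ U1 (K := K) m at hz2
  rw [MulAut.conj_inv_apply] at hz1 hz2
  have hgh : g⁻¹ * h ∉ B1 (K := K) m := by
    intro hb
    refine hPQ ?_
    have hfix : (g⁻¹ * h) • P0 = P0 := by
      rw [Sylow.smul_eq_iff_mem_normalizer]
      show g⁻¹ * h ∈ Subgroup.normalizer ((U1 (K := K) m : Subgroup ↥(Cfsg.Lie.twistedG2 K (3 ^ m))) : Set ↥(Cfsg.Lie.twistedG2 K (3 ^ m)))
      rw [Subgroup.mem_normalizer_iff]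
      obtain ⟨a, b, c, d, hpe⟩ := (borel_twisted hK _).1 ⟨mem_B1.1 hb, (g⁻¹ * h).2⟩
      have key : ∀ p : ↥(Cfsg.Lie.twistedG2 K (3 ^ m)), p ∈ B1 (K := K) m → ∀ x ∈ U1 (K := K) m, p * x * p⁻¹ ∈ U1 (K := K) m := by
        intro p hp x hx
        obtain ⟨a, b, c, d, hpe⟩ := (borel_twisted hK p.1).1 ⟨mem_B1.1 hp, p.2⟩
        refine ⟨?_, (p * x * p⁻¹).2⟩
        show (p : GL chevG2.Idx K) * x * (p : GL chevG2.Idx K)⁻¹ ∈ chevG2.posUnipotent K
        obtain ⟨t, u, v, hxe⟩ := (mem_pos_twisted hK x.1).1 hx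
        rw [hpe, hxe, show reeU m a b c * hy m d * reeU m t u v * (reeU m a b c * hy m d)⁻¹ =
          reeU m a b c * (hy m d * reeU m t u v * (hy m d)⁻¹) * (reeU m a b c)⁻¹ by group, hy_reeU hK,
          mul_inv_cancel_right]
        exact mul_mem (mul_mem (reeU_mem_pos m _ _ _) (reeU_mem_pos m _ _ _)) (inv_mem (reeU_mem_pos m _ _ _))
      intro x
      refine ⟨fun hx => key _ hb x hx, fun hx => ?_⟩
      have := key _ (inv_mem hb) _ hx
      rwa [inv_inv, show (g⁻¹ * h)⁻¹ * (g⁻¹ * h * x * (g⁻¹ * h)⁻¹) * (g⁻¹ * h) = x by group] at this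
    calc g • P0 = g • ((g⁻¹ * h) • P0) := by rw [hfix]
      _ = h • P0 := by rw [← mul_smul, mul_inv_cancel_left]
  have h1 := hmain _ hgh _ hz1 (by
    rwa [show (g⁻¹ * h)⁻¹ * (g⁻¹ * z * g) * (g⁻¹ * h) = h⁻¹ * z * h by group])
  calc z = g * (g⁻¹ * z * g) * g⁻¹ := by group
    _ = 1 := by rw [h1]; group

end Cfsg.Agent.Lib.LieTwisted.Ree
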