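import Cfsg.Agent.Lib.CurtisTits.AllTypes
import Cfsg.Agent.Lib.ChevStructure.Poincare
import Cfsg.Agent.Lib.ChevStructure.CommAll
import Cfsg.Prelude.Def_LieTypes

/-!
The exceptional automorphism of B₂(K) for a perfect field K of characteristic 2, defined on Steinberg's
presentation, which in this characteristic presents the group itself.
-/

set_option autoImplicit false
set_option maxRecDepth 100000
set_option linter.unusedSectionVars false

namespace Cfsg.Agent.Lib.LieTwisted.IsogenyB2

open Cfsg.Lie Cfsg.Agent.Lib.ChevStructure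
open scoped MatrixGroups Matrix

universe u

/-- The tables of type B₂. -/
noncomputable abbrev C : Core chevB2 := Cert.B2.core

/-- The permutation of the roots, on indices. -/
def rhoN (r : ℕ) : ℕ := [1, 0, 3, 2, 5, 4, 7, 6].getD r 8

/-- The exponent of a root. -/
def lam (r : ℕ) : ℕ := [1, 2, 2, 1, 1, 2, 2, 1].getD r 1

theorem rhoN_lt : ∀ r : Rt chevB2, rhoN r.val < chevB2.nroots := by decide +kernel

/-- The permutation of the roots. -/
def rho (r : Rt chevB2) : Rt chevB2 := ⟨rhoN r.val, rhoN_lt r⟩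

theorem rho_rho : ∀ r, rho (rho r) = r := by decide +kernel

theorem rho_rev : ∀ r, rho r.rev = (rho r).rev := by decide +kernel

theorem lam_rev : ∀ r : Rt chevB2, lam r.rev.val = lam r.val := by decide +kernel

theorem lam_pos : ∀ r : ℕ, r < 8 → 0 < lam r := by decide +kernel

theorem lam_mul : ∀ r : Rt chevB2, lam r.val * lam (rhoN r.val) = 2 := by decide +kernel

/-- The odd terms of a commutator, transported. -/
def src (r s : Rt chevB2) : List (ℕ × ℕ × ℕ) :=
  ((chevB2.commTerms r.val s.val).filter fun c => decide (c.2.1 % 2 = 1)).map fun c =>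
    (rhoN c.1, c.2.2.1 * lam c.1, c.2.2.2 * lam c.1)

/-- The odd terms of the commutator of the transported roots. -/
def tgt (r s : Rt chevB2) : List (ℕ × ℕ × ℕ) :=
  ((chevB2.commTerms (rhoN r.val) (rhoN s.val)).filter fun c => decide (c.2.1 % 2 = 1)).map fun c =>
    (c.1, c.2.2.1 * lam r.val, c.2.2.2 * lam s.val)

/-- Root subgroups commuting in characteristic 2. -/
def ComN (q q' : ℕ) : Prop :=
  q = q' ∨ (q < 8 ∧ q' < 8 ∧ q' + q ≠ 7 ∧ ∀ c ∈ chevB2.commTerms q q', c.2.1 % 2 = 0)

theorem terms_spec : ∀ r s : Rt chevB2, s ≠ r → s ≠ r.rev →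
    (src r s).Perm (tgt r s) ∧ (∀ x ∈ src r s, ∀ y ∈ src r s, ComN x.1 y.1) ∧
      ∀ c ∈ chevB2.commTerms r.val s.val, c.1 < 8 := by
  unfold ComN
  decide +kernel

variable {K : Type u} [Field K] [CharP K 2]

theorem cast_odd {c : ℤ} (h : c % 2 = 1) : (c : K) = 1 := by
  rw [show c = 2 * (c / 2) + 1 by omega, Int.cast_add, Int.cast_mul, Int.cast_ofNat, CharTwo.two_eq_zero,
    zero_mul, zero_add, Int.cast_one]

theorem cast_even {c : ℤ} (h : c % 2 = 0) : (c : K) = 0 := by
  rw [show c = 2 * (c / 2) by omega, Int.cast_mul, Int.cast_ofNat, CharTwo.two_eq_zero, zero_mul]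

theorem XN_zero (q : ℕ) : C.XN K q 0 = 1 := by
  by_cases h : q < chevB2.nroots <;> simp [Core.XN, h, C.X_zero]

theorem commute_XN {q q' : ℕ} (h : ComN q q') (t u : K) : Commute (C.XN K q t) (C.XN K q' u) := by
  rcases h with rfl | ⟨h1, h2, h3, h4⟩
  · by_cases hq : q < chevB2.nroots
    · show _ * _ = _ * _
      simp only [Core.XN, dif_pos hq, C.X_add, add_comm]
    · simp [Core.XN, hq]
  · lift q to Rt chevB2 using h1
    lift q' to Rt chevB2 using h2
    by_cases hqq : q' = q
    · subst hqq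
      show _ * _ = _ * _
      simp only [C.XN_fin, C.X_add, add_comm]
    · have hne : q' ≠ q.rev := fun e => h3 (by
        rw [e, Fin.val_rev]
        have : chevB2.nroots = 8 := rfl
        have := q.isLt
        omega)
      have hh := (Cert.B2.core.commOK_mild mildB2).comm_X q q' hqq hne t u
      rw [List.prod_eq_one (fun x hx => ?_), mul_one] at hh
      · simp only [C.XN_fin]; exact hh.symm
      · rw [List.mem_map] at hx
        obtain ⟨c, hc, rfl⟩ := hx
        rw [cast_even (h4 c hc), zero_mul, zero_mul]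
        exact XN_zero _

/-- The product of a list of terms. -/
noncomputable def prodT (t u : K) (L : List (ℕ × ℕ × ℕ)) : GL chevB2.Idx K :=
  (L.map fun e => C.XN K e.1 (t ^ e.2.1 * u ^ e.2.2)).prod

theorem prod_filter (t u : K) (g : ℕ × ℤ × ℕ × ℕ → GL chevB2.Idx K) (h : ℕ × ℤ × ℕ × ℕ → ℕ × ℕ × ℕ) :
    ∀ L : List (ℕ × ℤ × ℕ × ℕ),
      (∀ c ∈ L, c.2.1 % 2 = 1 → g c = C.XN K (h c).1 (t ^ (h c).2.1 * u ^ (h c).2.2)) →
      (∀ c ∈ L, c.2.1 % 2 = 0 → g c = 1) →
      (L.map g).prod = prodT t u ((L.filter fun c => decide (c.2.1 % 2 = 1)).map h)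
  | [], _, _ => rfl
  | c :: L, h1, h0 => by
    have ih := prod_filter t u g h L (fun c hc => h1 c (List.mem_cons_of_mem _ hc))
      fun c hc => h0 c (List.mem_cons_of_mem _ hc)
    rw [List.map_cons, List.prod_cons, ih]
    rcases Int.emod_two_eq_zero_or_one c.2.1 with e | e
    · rw [List.filter_cons_of_neg (by simp [e]), h0 c List.mem_cons_self e, one_mul]
    · rw [List.filter_cons_of_pos (by simp [e]), h1 c List.mem_cons_self e, prodT, prodT, List.map_cons,
        List.map_cons, List.prod_cons]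

/-- The value of the automorphism on a generator. -/
noncomputable def gen (x : Fin chevB2.nroots × K) : ↥(chevB2.group K) :=
  ⟨C.X K (rho x.1) (x.2 ^ lam x.1.val), C.X_mem_group _ _⟩

theorem lift_stX (r : Rt chevB2) (t : K) :
    (FreeGroup.lift gen (chevB2.stX r.val t) : GL chevB2.Idx K) = C.X K (rho r) (t ^ lam r.val) := by
  simp [ChevalleyDatum.stX, gen]

theorem lift_nWord (r : Rt chevB2) (c : Kˣ) :
    (FreeGroup.lift gen (chevB2.stWord (chevB2.nWord r.val (c : K))) : GL chevB2.Idx K) =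
      C.nR K (rho r) (c ^ lam r.val) := by
  have hneg : chevB2.neg r.val = r.rev.val := C.neg_val r
  simp only [ChevalleyDatum.nWord, ChevalleyDatum.stWord, List.map_cons, List.map_nil, List.prod_cons,
    List.prod_nil, mul_one, map_mul, Subgroup.coe_mul, hneg, lift_stX, lam_rev, rho_rev, Core.nR]
  simp [mul_assoc, CharTwo.neg_eq, inv_pow]

theorem lift_stH (r : Rt chevB2) (c : Kˣ) :
    (FreeGroup.lift gen (chevB2.stH r.val (c : K)) : GL chevB2.Idx K) = Core.hD K (rho r) (c ^ lam r.val) := by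
  have e : chevB2.stWord (chevB2.hWord r.val (c : K)) =
      chevB2.stWord (chevB2.nWord r.val (c : K)) * chevB2.stWord (chevB2.nWord r.val (-1 : K)) := by
    simp [ChevalleyDatum.stWord, ChevalleyDatum.hWord]
  have h1 := lift_nWord r (-1 : Kˣ)
  rw [Units.val_neg, Units.val_one] at h1
  have hm : (-1 : Kˣ) ^ lam r.val = -1 := by
    have : (-1 : Kˣ) = 1 := Units.ext (by simp [CharTwo.neg_eq])
    rw [this, one_pow]
  rw [ChevalleyDatum.stH, e, map_mul, Subgroup.coe_mul, lift_nWord, h1, hm, C.hR_eq]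

theorem gen_rels : ∀ g ∈ chevB2.steinbergRels K, FreeGroup.lift gen g = 1 := by
  rintro g ((⟨r, t₁, t₂, hr, rfl⟩ | ⟨r, s, t, u, hr, hs, h1, h2, rfl⟩) | ⟨r, t₁, t₂, hr, h1, h2, rfl⟩)
  · lift r to Rt chevB2 using hr
    refine Subtype.ext ?_
    simp only [map_mul, map_inv, Subgroup.coe_mul, Subgroup.coe_inv, lift_stX, Subgroup.coe_one,
      mul_inv_eq_one, C.X_add]
    congr 1
    rcases (show lam r.val = 1 ∨ lam r.val = 2 by revert r; decide +kernel) with h | h <;> rw [h]
    · simp
    · rw [CharTwo.add_sq]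
  · lift r to Rt chevB2 using hr
    lift s to Rt chevB2 using hs
    have hne : s ≠ r := fun e => h1 (congrArg Fin.val e)
    have hnr : s ≠ r.rev := fun e => h2 (by rw [e]; exact (C.neg_val r).symm)
    have hne' : rho s ≠ rho r := fun e => hne (by rw [← rho_rho s, e, rho_rho])
    have hnr' : rho s ≠ (rho r).rev := fun e => hnr (by rw [← rho_rho s, e, ← rho_rev, rho_rho])
    obtain ⟨hperm, hcom, hlt⟩ := terms_spec r s hne hnr
    set T := t ^ lam r.val with hT
    set U := u ^ lam s.val with hU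
    have e1 : (FreeGroup.lift gen (chevB2.stWord (chevB2.commWord K r.val s.val t u)) : GL chevB2.Idx K) =
        prodT t u (src r s) := by
      rw [ChevalleyDatum.stWord, ChevalleyDatum.commWord, List.map_map, map_list_prod, List.map_map,
        ← Subgroup.coe_subtype, map_list_prod, List.map_map]
      refine prod_filter t u _ _ _ (fun c hc hodd => ?_) (fun c hc hev => ?_)
      · have hq : c.1 < chevB2.nroots := hlt c hc
        show ((FreeGroup.lift gen (chevB2.stX c.1 ((c.2.1 : K) * (-t) ^ c.2.2.1 * u ^ c.2.2.2)) :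
          ↥(chevB2.group K)) : GL chevB2.Idx K) = _
        rw [show c.1 = (⟨c.1, hq⟩ : Rt chevB2).val from rfl, lift_stX, ← C.XN_fin]
        simp only [rho, cast_odd hodd, CharTwo.neg_eq, one_mul, mul_pow, ← pow_mul]
      · have hq : c.1 < chevB2.nroots := hlt c hc
        show ((FreeGroup.lift gen (chevB2.stX c.1 ((c.2.1 : K) * (-t) ^ c.2.2.1 * u ^ c.2.2.2)) :
          ↥(chevB2.group K)) : GL chevB2.Idx K) = _
        rw [show c.1 = (⟨c.1, hq⟩ : Rt chevB2).val from rfl, lift_stX, cast_even hev, zero_mul, zero_mul,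
          zero_pow (lam_pos c.1 hq).ne', C.X_zero]
    have e2 : ((chevB2.commTerms (rho r).val (rho s).val).map fun c =>
        C.XN K c.1 ((c.2.1 : K) * (-T) ^ c.2.2.1 * U ^ c.2.2.2)).prod = prodT t u (tgt r s) := by
      refine prod_filter t u _ _ _ (fun c _ hodd => ?_) (fun c _ hev => ?_)
      · simp only [cast_odd hodd, CharTwo.neg_eq, one_mul, hT, hU, ← pow_mul, mul_comm (lam r.val),
          mul_comm (lam s.val)]
      · rw [cast_even hev, zero_mul, zero_mul, XN_zero]
    have e3 : prodT t u (src r s) = prodT t u (tgt r s) := by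
      refine (hperm.map _).prod_eq' ?_
      rw [List.pairwise_map]
      exact List.pairwise_of_forall_mem_list fun x hx y hy => commute_XN (hcom x hx y hy) _ _
    have h := (Cert.B2.core.commOK_mild mildB2).comm_X (rho r) (rho s) hne' hnr' T U
    rw [e2, ← e3] at h
    refine Subtype.ext ?_
    simp only [map_mul, map_inv, Subgroup.coe_mul, Subgroup.coe_inv, lift_stX, Subgroup.coe_one, e1, ← hT, ← hU]
    rw [mul_inv_eq_one, mul_assoc, mul_assoc, inv_mul_eq_iff_eq_mul, inv_mul_eq_iff_eq_mul, h]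
    simp only [mul_assoc]
  · lift r to Rt chevB2 using hr
    refine Subtype.ext ?_
    have k := lift_stH r (Units.mk0 t₁ h1)
    have k' := lift_stH r (Units.mk0 t₂ h2)
    have k'' := lift_stH r (Units.mk0 t₁ h1 * Units.mk0 t₂ h2)
    simp only [Units.val_mul, Units.val_mk0] at k k' k''
    simp only [map_mul, map_inv, Subgroup.coe_mul, Subgroup.coe_inv, Subgroup.coe_one, k, k', k'', mul_inv_eq_one,
      Core.hD, C.diag_mul, mul_pow]
    congr 1
    funext z
    simp [mul_zpow]

/-- Steinberg's map is bijective in characteristic 2. -/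
theorem stMap_bij :
    Function.Bijective (CurtisTits.stMap (K := K) CurtisTits.CertB2.cert CurtisTits.suppOne_B2) := by
  refine ⟨(injective_iff_map_eq_one _).2 fun x hx => ?_, CurtisTits.stMap_surj _ _⟩
  obtain ⟨c, rfl⟩ := CurtisTits.stMap_ker_torus _ _ hx
  have h := (CurtisTits.torus_ker_iff _ _ c).1 hx
  have hp : ∀ i : Fin chevB2.rank, C.p i = ![(⟨5, by decide⟩ : Rt chevB2), ⟨4, by decide⟩] i := fun i => Fin.ext <| by
    show (Cert.B2.core.p i).val = _
    rw [Cert.B2.core, Cert.B2.certified.p_val]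
    revert i
    decide +kernel
  have e0 := h ⟨0, by decide⟩
  have e1 := h ⟨1, by decide⟩
  rw [hp, show (∏ k, c k ^ A chevB2 k _) = c ⟨0, by decide⟩ ^ A chevB2 ⟨0, by decide⟩ _ *
    c ⟨1, by decide⟩ ^ A chevB2 ⟨1, by decide⟩ _ from Fin.prod_univ_two _] at e0 e1
  replace e0 : c ⟨0, by decide⟩ ^ (2 : ℤ) * c ⟨1, by decide⟩ ^ (-1 : ℤ) = 1 := e0
  replace e1 : c ⟨0, by decide⟩ ^ (-2 : ℤ) * c ⟨1, by decide⟩ ^ (2 : ℤ) = 1 := e1
  have h1 : c ⟨1, by decide⟩ = 1 := by
    have := congrArg₂ (· * ·) e0 e1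
    simp only [mul_one, mul_mul_mul_comm, ← zpow_add] at this
    simpa using this
  rw [h1, one_zpow, mul_one, zpow_two] at e0
  have h0 : c ⟨0, by decide⟩ = 1 := Units.ext (by
    have h := congrArg Units.val e0
    rw [Units.val_mul, Units.val_one, ← sq] at h
    have h' : ((c ⟨0, by decide⟩ : Kˣ) + 1 : K) ^ 2 = 0 := by
      rw [CharTwo.add_sq, h, one_pow, CharTwo.add_self_eq_zero]
    rw [pow_eq_zero_iff two_ne_zero, add_eq_zero_iff_eq_neg, CharTwo.neg_eq] at h'
    exact h')
  rw [show c = 1 from funext fun i => by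
    rcases (show i = ⟨0, by decide⟩ ∨ i = ⟨1, by decide⟩ by revert i; decide) with rfl | rfl
    · exact h0
    · exact h1, map_one]

/-- The exceptional endomorphism. -/
noncomputable def sigma : ↥(chevB2.group K) →* ↥(chevB2.group K) :=
  (PresentedGroup.toGroup gen_rels).comp (MulEquiv.ofBijective _ (stMap_bij (K := K))).symm.toMonoidHom

theorem sigma_X (r : Rt chevB2) (t : K) :
    sigma ⟨C.X K r t, C.X_mem_group r t⟩ = ⟨C.X K (rho r) (t ^ lam r.val), C.X_mem_group _ _⟩ := by
  have e : (MulEquiv.ofBijective _ (stMap_bij (K := K))).symm ⟨C.X K r t, C.X_mem_group r t⟩ =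
      chevB2.stGen K r.val t := by
    rw [MulEquiv.symm_apply_eq]
    exact Subtype.ext (Units.ext ((C.X_val_x r t).trans (CurtisTits.stMap_gen _ _ r t).symm))
  show PresentedGroup.toGroup gen_rels ((MulEquiv.ofBijective _ (stMap_bij (K := K))).symm _) = _
  rw [e]
  show FreeGroup.lift gen (chevB2.stX r.val t) = _
  exact Subtype.ext (lift_stX r t)

theorem sigma_sigma (g : ↥(chevB2.group K)) :
    ((sigma (sigma g) : ↥(chevB2.group K)) : GL chevB2.Idx K) =
      Matrix.GeneralLinearGroup.map (frobenius K 2) (g : GL chevB2.Idx K) := by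
  obtain ⟨g, hg⟩ := g
  induction hg using Subgroup.closure_induction with
  | mem x hx =>
    obtain ⟨r, t, hx⟩ := hx
    obtain rfl : x = C.X K r t := C.eq_X (by rw [hx, ChevalleyDatum.x, dif_pos r.isLt])
    rw [sigma_X, sigma_X, rho_rho, C.X_map, frobenius_def, ← pow_mul]
    show C.X K r (t ^ (lam r.val * lam (rhoN r.val))) = _
    rw [lam_mul]
  | one =>
    show ((sigma (sigma 1) : ↥(chevB2.group K)) : GL chevB2.Idx K) = Matrix.GeneralLinearGroup.map (frobenius K 2) 1
    rw [map_one, map_one, map_one]; rfl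
  | mul a b ha hb iha ihb =>
    show ((sigma (sigma (⟨a, ha⟩ * ⟨b, hb⟩)) : ↥(chevB2.group K)) : GL chevB2.Idx K) =
      Matrix.GeneralLinearGroup.map (frobenius K 2) (a * b)
    rw [map_mul, map_mul, map_mul, Subgroup.coe_mul, iha, ihb]
  | inv a ha iha =>
    show ((sigma (sigma (⟨a, ha⟩⁻¹)) : ↥(chevB2.group K)) : GL chevB2.Idx K) =
      Matrix.GeneralLinearGroup.map (frobenius K 2) a⁻¹
    rw [map_inv, map_inv, map_inv, Subgroup.coe_inv, iha]

theorem sigma_bijective (hperf : ∀ x : K, ∃ y : K, y ^ 2 = x) : Function.Bijective (sigma (K := K)) := by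
  have : ExpChar K 2 := ExpChar.prime Nat.prime_two
  constructor
  · intro a b h
    have := (sigma_sigma a).symm.trans ((congrArg (fun z => ((sigma z : ↥(chevB2.group K)) : GL chevB2.Idx K)) h).trans
      (sigma_sigma b))
    apply Subtype.ext; apply Units.ext; ext i j
    exact frobenius_inj K 2 (congrArg (fun z : GL chevB2.Idx K => (z : Matrix chevB2.Idx chevB2.Idx K) i j) this)
  · rintro ⟨g, hg⟩
    induction hg using Subgroup.closure_induction with
    | mem x hx =>
      obtain ⟨r, t, hx⟩ := hx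
      obtain rfl : x = C.X K r t := C.eq_X (by rw [hx, ChevalleyDatum.x, dif_pos r.isLt])
      obtain ⟨y, rfl⟩ := hperf t
      refine ⟨⟨C.X K (rho r) (y ^ lam r.val), C.X_mem_group _ _⟩, Subtype.ext ?_⟩
      rw [sigma_X, rho_rho, ← pow_mul]
      show C.X K r (y ^ (lam r.val * lam (rhoN r.val))) = _
      rw [lam_mul]
    | one => exact ⟨1, map_one _⟩
    | mul a b ha hb iha ihb =>
      obtain ⟨x, hx⟩ := iha
      obtain ⟨y, hy⟩ := ihb
      exact ⟨x * y, by rw [map_mul, hx, hy]; rfl⟩
    | inv a ha iha =>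
      obtain ⟨x, hx⟩ := iha
      exact ⟨x⁻¹, by rw [map_inv, hx]; rfl⟩

end Cfsg.Agent.Lib.LieTwisted.IsogenyB2
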