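import Cfsg.Agent.Lib.LieTwisted.IsogenyF4Data

/-! Kernel checks for the roots 12..23 of the exceptional isogeny of F4. -/

set_option autoImplicit false
set_option maxRecDepth 100000
set_option Elab.async false

namespace Cfsg.Agent.Lib.LieTwisted.Isogeny

open Cfsg.Lie Sparse SparseRoot

/-- the root matrix -/
def LF12 : SMat := [((0, 0), [(1, 0, 0)]), ((1, 1), [(1, 0, 0)]), ((2, 2), [(1, 0, 0)]), ((3, 3), [(1, 0, 0)]), ((4, 4), [(1, 0, 0)]), ((5, 5), [(1, 0, 0)]), ((6, 6), [(1, 0, 0)]), ((7, 7), [(1, 0, 0)]), ((8, 8), [(1, 0, 0)]), ((9, 9), [(1, 0, 0)]), ((10, 10), [(1, 0, 0)]), ((11, 11), [(1, 0, 0)]), ((12, 12), [(1, 0, 0)]), ((13, 13), [(1, 0, 0)]), ((14, 14), [(1, 0, 0)]), ((15, 15), [(1, 0, 0)]), ((16, 16), [(1, 0, 0)]), ((17, 17), [(1, 0, 0)]), ((18, 18), [(1, 0, 0)]),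 ((19, 19), [(1, 0, 0)]), ((20, 20), [(1, 0, 0)]), ((21, 21), [(1, 0, 0)]), ((22, 22), [(1, 0, 0)]), ((23, 23), [(1, 0, 0)]), ((24, 24), [(1, 0, 0)]), ((25, 25), [(1, 0, 0)]), ((26, 26), [(1, 0, 0)]), ((27, 27), [(1, 0, 0)]), ((28, 28), [(1, 0, 0)]), ((29, 29), [(1, 0, 0)]), ((30, 30), [(1, 0, 0)]), ((31, 31), [(1, 0, 0)]), ((32, 32), [(1, 0, 0)]), ((33, 33), [(1, 0, 0)]), ((34, 34), [(1, 0, 0)]), ((35, 35), [(1, 0, 0)]), ((36, 36), [(1, 0, 0)]), ((37, 37), [(1, 0, 0)]), ((38, 38), [(1, 0, 0)]), ((39, 39), [(1, 0, 0)]), ((40, 40), [(1, 0, 0)]), ((41, 41), [(1, 0, 0)]), ((42, 42), [(1, 0, 0)]), ((43, 43), [(1, 0, 0)]), ((44, 44), [(1, 0, 0)]), ((45, 45), [(1, 0, 0)]), ((46, 46), [(1, 0, 0)]), ((47, 47), [(1, 0, 0)]), ((48, 48), [(1, 0, 0)]), ((49, 49), [(1, 0, 0)]), ((50, 50), [(1,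 0, 0)]), ((51, 51), [(1, 0, 0)]), ((16, 0), [(1, 1, 0)]), ((16, 1), [(-1, 1, 0)]), ((16, 2), [(1, 1, 0)]), ((16, 3), [(-1, 1, 0)]), ((0, 39), [(-1, 1, 0)]), ((1, 39), [(-1, 1, 0)]), ((2, 39), [(-2, 1, 0)]), ((3, 39), [(0, 1, 0)]), ((16, 39), [(-1, 2, 0)]), ((5, 11), [(-2, 1, 0)]), ((7, 13), [(1, 1, 0)]), ((8, 15), [(2, 1, 0)]), ((10, 17), [(-2, 1, 0)]), ((11, 20), [(-1, 1, 0)]), ((5, 20), [(1, 2, 0)]), ((12, 22), [(-1, 1, 0)]), ((14, 24), [(1, 1, 0)]), ((15, 27), [(1, 1, 0)]), ((8, 27), [(1, 2, 0)]), ((17, 29), [(1, 1, 0)]), ((10, 29), [(-1, 2, 0)]), ((18, 32), [(1, 1, 0)]), ((23, 37), [(-1, 1, 0)]), ((26, 38), [(-2, 1, 0)]), ((28, 40), [(-2, 1, 0)]), ((31, 41), [(-1, 1, 0)]), ((33, 43), [(1, 1, 0)]), ((35, 44), [(2, 1, 0)]), ((38, 45), [(1, 1, 0)]), ((26, 45), [(-1, 2, 0)]), ((40,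 47), [(-1, 1, 0)]), ((28, 47), [(1, 2, 0)]), ((42, 48), [(-1, 1, 0)]), ((44, 50), [(1, 1, 0)]), ((35, 50), [(1, 2, 0)])]
/-- its block -/
def LX12 : SMat := [((0, 0), [(1, 0, 0)]), ((1, 1), [(1, 0, 0)]), ((2, 2), [(1, 0, 0)]), ((3, 3), [(1, 0, 0)]), ((4, 4), [(1, 0, 0)]), ((5, 5), [(1, 0, 0)]), ((6, 6), [(1, 0, 0)]), ((7, 7), [(1, 0, 0)]), ((8, 8), [(1, 0, 0)]), ((9, 9), [(1, 0, 0)]), ((10, 10), [(1, 0, 0)]), ((11, 11), [(1, 0, 0)]), ((12, 12), [(1, 0, 0)]), ((13, 13), [(1, 0, 0)]), ((14, 14), [(1, 0, 0)]), ((15, 15), [(1, 0, 0)]), ((16, 16), [(1, 0, 0)]), ((17, 17), [(1, 0, 0)]), ((18, 18), [(1, 0, 0)]), ((19, 19), [(1, 0, 0)]), ((20, 20), [(1, 0, 0)]), ((21, 21), [(1, 0, 0)]), ((22, 22), [(1, 0, 0)]), ((23, 23), [(1, 0, 0)]), ((24, 24), [(1, 0, 0)]), ((25, 25), [(1, 0, 0)]),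 ((8, 0), [(1, 1, 0)]), ((8, 1), [(-1, 1, 0)]), ((0, 19), [(-1, 1, 0)]), ((1, 19), [(-1, 1, 0)]), ((8, 19), [(-1, 2, 0)]), ((2, 5), [(1, 1, 0)]), ((4, 11), [(-1, 1, 0)]), ((6, 13), [(1, 1, 0)]), ((10, 15), [(1, 1, 0)]), ((12, 17), [(-1, 1, 0)]), ((14, 21), [(-1, 1, 0)]), ((16, 23), [(1, 1, 0)]), ((22, 25), [(-1, 1, 0)])]
theorem f4_root12 : rootFast 12 LX12 LF12 = true := by decide +kernel

/-- the root matrix -/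
def LF13 : SMat := [((0, 0), [(1, 0, 0)]), ((1, 1), [(1, 0, 0)]), ((2, 2), [(1, 0, 0)]), ((3, 3), [(1, 0, 0)]), ((4, 4), [(1, 0, 0)]), ((5, 5), [(1, 0, 0)]), ((6, 6), [(1, 0, 0)]), ((7, 7), [(1, 0, 0)]), ((8, 8), [(1, 0, 0)]), ((9, 9), [(1, 0, 0)]), ((10, 10), [(1, 0, 0)]), ((11, 11), [(1, 0, 0)]), ((12, 12), [(1, 0, 0)]), ((13, 13), [(1, 0, 0)]), ((14, 14), [(1, 0, 0)]), ((15, 15), [(1, 0, 0)]), ((16, 16), [(1, 0, 0)]), ((17, 17), [(1, 0, 0)]), ((18, 18), [(1, 0, 0)]), ((19, 19), [(1, 0, 0)]), ((20, 20), [(1, 0, 0)]), ((21, 21), [(1, 0, 0)]), ((22, 22), [(1, 0, 0)]), ((23, 23), [(1, 0, 0)]), ((24, 24), [(1, 0, 0)]), ((25, 25), [(1, 0, 0)]), ((26, 26), [(1, 0, 0)]), ((27, 27), [(1, 0, 0)]), ((28, 28), [(1, 0, 0)]), ((29, 29), [(1, 0, 0)]), ((30, 30), [(1, 0, 0)]), ((31, 31), [(1,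 0, 0)]), ((32, 32), [(1, 0, 0)]), ((33, 33), [(1, 0, 0)]), ((34, 34), [(1, 0, 0)]), ((35, 35), [(1, 0, 0)]), ((36, 36), [(1, 0, 0)]), ((37, 37), [(1, 0, 0)]), ((38, 38), [(1, 0, 0)]), ((39, 39), [(1, 0, 0)]), ((40, 40), [(1, 0, 0)]), ((41, 41), [(1, 0, 0)]), ((42, 42), [(1, 0, 0)]), ((43, 43), [(1, 0, 0)]), ((44, 44), [(1, 0, 0)]), ((45, 45), [(1, 0, 0)]), ((46, 46), [(1, 0, 0)]), ((47, 47), [(1, 0, 0)]), ((48, 48), [(1, 0, 0)]), ((49, 49), [(1, 0, 0)]), ((50, 50), [(1, 0, 0)]), ((51, 51), [(1, 0, 0)]), ((17, 0), [(1, 1, 0)]), ((17, 1), [(1, 1, 0)]), ((17, 2), [(-1, 1, 0)]), ((17, 3), [(0, 1, 0)]), ((0, 38), [(-1, 1, 0)]), ((1, 38), [(-1, 1, 0)]), ((2, 38), [(0, 1, 0)]), ((3, 38), [(0, 1, 0)]), ((17, 38), [(-1, 2, 0)]), ((6, 11), [(-2, 1, 0)]), ((7, 12), [(-1, 1, 0)]), ((9, 15),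 [(2, 1, 0)]), ((10, 16), [(2, 1, 0)]), ((11, 19), [(1, 1, 0)]), ((6, 19), [(-1, 2, 0)]), ((13, 22), [(-1, 1, 0)]), ((14, 23), [(-1, 1, 0)]), ((15, 25), [(1, 1, 0)]), ((9, 25), [(1, 2, 0)]), ((16, 26), [(1, 1, 0)]), ((10, 26), [(1, 2, 0)]), ((18, 31), [(1, 1, 0)]), ((24, 37), [(-1, 1, 0)]), ((29, 39), [(-2, 1, 0)]), ((30, 40), [(-2, 1, 0)]), ((32, 41), [(1, 1, 0)]), ((33, 42), [(1, 1, 0)]), ((36, 44), [(-2, 1, 0)]), ((39, 45), [(-1, 1, 0)]), ((29, 45), [(1, 2, 0)]), ((40, 46), [(-1, 1, 0)]), ((30, 46), [(1, 2, 0)]), ((43, 48), [(1, 1, 0)]), ((44, 49), [(1, 1, 0)]), ((36, 49), [(-1, 2, 0)])]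
/-- its block -/
def LX13 : SMat := [((0, 0), [(1, 0, 0)]), ((1, 1), [(1, 0, 0)]), ((2, 2), [(1, 0, 0)]), ((3, 3), [(1, 0, 0)]), ((4, 4), [(1, 0, 0)]), ((5, 5), [(1, 0, 0)]), ((6, 6), [(1, 0, 0)]), ((7, 7), [(1, 0, 0)]), ((8, 8), [(1, 0, 0)]), ((9, 9), [(1, 0, 0)]), ((10, 10), [(1, 0, 0)]), ((11, 11), [(1, 0, 0)]), ((12, 12), [(1, 0, 0)]), ((13, 13), [(1, 0, 0)]), ((14, 14), [(1, 0, 0)]), ((15, 15), [(1, 0, 0)]), ((16, 16), [(1, 0, 0)]), ((17, 17), [(1, 0, 0)]), ((18, 18), [(1, 0, 0)]), ((19, 19), [(1, 0, 0)]), ((20, 20), [(1, 0, 0)]), ((21, 21), [(1, 0, 0)]), ((22, 22), [(1, 0, 0)]), ((23, 23), [(1, 0, 0)]), ((24, 24), [(1, 0, 0)]), ((25, 25), [(1, 0, 0)]), ((9, 0), [(1, 1, 0)]), ((9, 1), [(1, 1, 0)]), ((0, 18), [(-1, 1, 0)]), ((1, 18), [(-1, 1, 0)]), ((9, 18), [(-1, 2, 0)]),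 ((2, 4), [(-1, 1, 0)]), ((5, 11), [(-1, 1, 0)]), ((6, 12), [(-1, 1, 0)]), ((10, 14), [(1, 1, 0)]), ((13, 17), [(-1, 1, 0)]), ((15, 21), [(1, 1, 0)]), ((16, 22), [(1, 1, 0)]), ((23, 25), [(1, 1, 0)])]
theorem f4_root13 : rootFast 13 LX13 LF13 = true := by decide +kernel

/-- the root matrix -/
def LF14 : SMat := [((0, 0), [(1, 0, 0)]), ((1, 1), [(1, 0, 0)]), ((2, 2), [(1, 0, 0)]), ((3, 3), [(1, 0, 0)]), ((4, 4), [(1, 0, 0)]), ((5, 5), [(1, 0, 0)]), ((6, 6), [(1, 0, 0)]), ((7, 7), [(1, 0, 0)]), ((8, 8), [(1, 0, 0)]), ((9, 9), [(1, 0, 0)]), ((10, 10), [(1, 0, 0)]), ((11, 11), [(1, 0, 0)]), ((12, 12), [(1, 0, 0)]), ((13, 13), [(1, 0, 0)]), ((14, 14), [(1, 0, 0)]), ((15, 15), [(1, 0, 0)]), ((16, 16), [(1, 0, 0)]), ((17, 17), [(1, 0, 0)]), ((18, 18), [(1, 0, 0)]), ((19, 19), [(1, 0,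 0)]), ((20, 20), [(1, 0, 0)]), ((21, 21), [(1, 0, 0)]), ((22, 22), [(1, 0, 0)]), ((23, 23), [(1, 0, 0)]), ((24, 24), [(1, 0, 0)]), ((25, 25), [(1, 0, 0)]), ((26, 26), [(1, 0, 0)]), ((27, 27), [(1, 0, 0)]), ((28, 28), [(1, 0, 0)]), ((29, 29), [(1, 0, 0)]), ((30, 30), [(1, 0, 0)]), ((31, 31), [(1, 0, 0)]), ((32, 32), [(1, 0, 0)]), ((33, 33), [(1, 0, 0)]), ((34, 34), [(1, 0, 0)]), ((35, 35), [(1, 0, 0)]), ((36, 36), [(1, 0, 0)]), ((37, 37), [(1, 0, 0)]), ((38, 38), [(1, 0, 0)]), ((39, 39), [(1, 0, 0)]), ((40, 40), [(1, 0, 0)]), ((41, 41), [(1, 0, 0)]), ((42, 42), [(1, 0, 0)]), ((43, 43), [(1, 0, 0)]), ((44, 44), [(1, 0, 0)]), ((45, 45), [(1, 0, 0)]), ((46, 46), [(1, 0, 0)]), ((47, 47), [(1, 0, 0)]), ((48, 48), [(1, 0, 0)]), ((49, 49), [(1, 0, 0)]), ((50, 50), [(1, 0, 0)]), ((51, 51),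 [(1, 0, 0)]), ((18, 0), [(2, 1, 0)]), ((18, 1), [(-1, 1, 0)]), ((18, 2), [(0, 1, 0)]), ((18, 3), [(0, 1, 0)]), ((0, 37), [(-1, 1, 0)]), ((1, 37), [(0, 1, 0)]), ((2, 37), [(0, 1, 0)]), ((3, 37), [(0, 1, 0)]), ((18, 37), [(-1, 2, 0)]), ((7, 11), [(-1, 1, 0)]), ((8, 12), [(-2, 1, 0)]), ((9, 13), [(-2, 1, 0)]), ((10, 14), [(-2, 1, 0)]), ((12, 19), [(1, 1, 0)]), ((8, 19), [(-1, 2, 0)]), ((13, 20), [(1, 1, 0)]), ((9, 20), [(-1, 2, 0)]), ((14, 21), [(1, 1, 0)]), ((10, 21), [(-1, 2, 0)]), ((15, 22), [(1, 1, 0)]), ((16, 23), [(1, 1, 0)]), ((17, 24), [(1, 1, 0)]), ((31, 38), [(-1, 1, 0)]), ((32, 39), [(-1, 1, 0)]), ((33, 40), [(-1, 1, 0)]), ((34, 41), [(-2, 1, 0)]), ((35, 42), [(-2, 1, 0)]), ((36, 43), [(-2, 1, 0)]), ((41, 45), [(1, 1, 0)]), ((34, 45), [(-1, 2, 0)]), ((42, 46), [(1, 1, 0)]),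 ((35, 46), [(-1, 2, 0)]), ((43, 47), [(1, 1, 0)]), ((36, 47), [(-1, 2, 0)]), ((44, 48), [(1, 1, 0)])]
/-- its block -/
def LX14 : SMat := [((0, 0), [(1, 0, 0)]), ((1, 1), [(1, 0, 0)]), ((2, 2), [(1, 0, 0)]), ((3, 3), [(1, 0, 0)]), ((4, 4), [(1, 0, 0)]), ((5, 5), [(1, 0, 0)]), ((6, 6), [(1, 0, 0)]), ((7, 7), [(1, 0, 0)]), ((8, 8), [(1, 0, 0)]), ((9, 9), [(1, 0, 0)]), ((10, 10), [(1, 0, 0)]), ((11, 11), [(1, 0, 0)]), ((12, 12), [(1, 0, 0)]), ((13, 13), [(1, 0, 0)]), ((14, 14), [(1, 0, 0)]), ((15, 15), [(1, 0, 0)]), ((16, 16), [(1, 0, 0)]), ((17, 17), [(1, 0, 0)]), ((18, 18), [(1, 0, 0)]), ((19, 19), [(1, 0, 0)]), ((20, 20), [(1, 0, 0)]), ((21, 21), [(1, 0, 0)]), ((22, 22), [(1, 0, 0)]), ((23, 23), [(1, 0, 0)]), ((24, 24), [(1, 0, 0)]), ((25, 25), [(1, 0, 0)]), ((10, 0), [(2, 1, 0)]),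 ((10, 1), [(-1, 1, 0)]), ((0, 17), [(-1, 1, 0)]), ((1, 17), [(0, 1, 0)]), ((10, 17), [(-1, 2, 0)]), ((2, 3), [(-1, 1, 0)]), ((7, 11), [(1, 1, 0)]), ((8, 12), [(1, 1, 0)]), ((9, 13), [(1, 1, 0)]), ((14, 18), [(-1, 1, 0)]), ((15, 19), [(-1, 1, 0)]), ((16, 20), [(-1, 1, 0)]), ((24, 25), [(1, 1, 0)])]
theorem f4_root14 : rootFast 14 LX14 LF14 = true := by decide +kernel

/-- the root matrix -/
def LF15 : SMat := [((0, 0), [(1, 0, 0)]), ((1, 1), [(1, 0, 0)]), ((2, 2), [(1, 0, 0)]), ((3, 3), [(1, 0, 0)]), ((4, 4), [(1, 0, 0)]), ((5, 5), [(1, 0, 0)]), ((6, 6), [(1, 0, 0)]), ((7, 7), [(1, 0, 0)]), ((8, 8), [(1, 0, 0)]), ((9, 9), [(1, 0, 0)]), ((10, 10), [(1, 0, 0)]), ((11, 11), [(1, 0, 0)]), ((12, 12), [(1, 0, 0)]), ((13, 13), [(1, 0, 0)]), ((14, 14), [(1, 0, 0)]), ((15, 15), [(1, 0, 0)]),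 ((16, 16), [(1, 0, 0)]), ((17, 17), [(1, 0, 0)]), ((18, 18), [(1, 0, 0)]), ((19, 19), [(1, 0, 0)]), ((20, 20), [(1, 0, 0)]), ((21, 21), [(1, 0, 0)]), ((22, 22), [(1, 0, 0)]), ((23, 23), [(1, 0, 0)]), ((24, 24), [(1, 0, 0)]), ((25, 25), [(1, 0, 0)]), ((26, 26), [(1, 0, 0)]), ((27, 27), [(1, 0, 0)]), ((28, 28), [(1, 0, 0)]), ((29, 29), [(1, 0, 0)]), ((30, 30), [(1, 0, 0)]), ((31, 31), [(1, 0, 0)]), ((32, 32), [(1, 0, 0)]), ((33, 33), [(1, 0, 0)]), ((34, 34), [(1, 0, 0)]), ((35, 35), [(1, 0, 0)]), ((36, 36), [(1, 0, 0)]), ((37, 37), [(1, 0, 0)]), ((38, 38), [(1, 0, 0)]), ((39, 39), [(1, 0, 0)]), ((40, 40), [(1, 0, 0)]), ((41, 41), [(1, 0, 0)]), ((42, 42), [(1, 0, 0)]), ((43, 43), [(1, 0, 0)]), ((44, 44), [(1, 0, 0)]), ((45, 45), [(1, 0, 0)]), ((46, 46), [(1, 0, 0)]), ((47, 47), [(1,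 0, 0)]), ((48, 48), [(1, 0, 0)]), ((49, 49), [(1, 0, 0)]), ((50, 50), [(1, 0, 0)]), ((51, 51), [(1, 0, 0)]), ((19, 0), [(-2, 1, 0)]), ((19, 1), [(0, 1, 0)]), ((19, 2), [(1, 1, 0)]), ((19, 3), [(0, 1, 0)]), ((0, 36), [(0, 1, 0)]), ((1, 36), [(-1, 1, 0)]), ((2, 36), [(-2, 1, 0)]), ((3, 36), [(-1, 1, 0)]), ((19, 36), [(-1, 2, 0)]), ((4, 9), [(-1, 1, 0)]), ((5, 10), [(-1, 1, 0)]), ((11, 17), [(-1, 1, 0)]), ((12, 18), [(-1, 1, 0)]), ((20, 29), [(1, 1, 0)]), ((21, 30), [(-1, 1, 0)]), ((22, 32), [(1, 1, 0)]), ((23, 33), [(-1, 1, 0)]), ((25, 34), [(1, 1, 0)]), ((26, 35), [(-1, 1, 0)]), ((37, 43), [(1, 1, 0)]), ((38, 44), [(1, 1, 0)]), ((45, 50), [(1, 1, 0)]), ((46, 51), [(1, 1, 0)])]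
/-- its block -/
def LX15 : SMat := [((0, 0), [(1, 0, 0)]), ((1, 1), [(1, 0, 0)]), ((2, 2), [(1, 0, 0)]), ((3, 3), [(1, 0, 0)]), ((4, 4), [(1, 0, 0)]), ((5, 5), [(1, 0, 0)]), ((6, 6), [(1, 0, 0)]), ((7, 7), [(1, 0, 0)]), ((8, 8), [(1, 0, 0)]), ((9, 9), [(1, 0, 0)]), ((10, 10), [(1, 0, 0)]), ((11, 11), [(1, 0, 0)]), ((12, 12), [(1, 0, 0)]), ((13, 13), [(1, 0, 0)]), ((14, 14), [(1, 0, 0)]), ((15, 15), [(1, 0, 0)]), ((16, 16), [(1, 0, 0)]), ((17, 17), [(1, 0, 0)]), ((18, 18), [(1, 0, 0)]), ((19, 19), [(1, 0, 0)]), ((20, 20), [(1, 0, 0)]), ((21, 21), [(1, 0, 0)]), ((22, 22), [(1, 0, 0)]), ((23, 23), [(1, 0, 0)]), ((24, 24), [(1, 0, 0)]), ((25, 25), [(1, 0, 0)]), ((3, 9), [(-1, 1, 0)]), ((4, 10), [(-1, 1, 0)]), ((11, 15), [(1, 1, 0)]), ((12, 16), [(-1, 1, 0)]), ((17, 23), [(1, 1, 0)]),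 ((18, 24), [(1, 1, 0)])]
theorem f4_root15 : rootFast 15 LX15 LF15 = true := by decide +kernel

/-- the root matrix -/
def LF16 : SMat := [((0, 0), [(1, 0, 0)]), ((1, 1), [(1, 0, 0)]), ((2, 2), [(1, 0, 0)]), ((3, 3), [(1, 0, 0)]), ((4, 4), [(1, 0, 0)]), ((5, 5), [(1, 0, 0)]), ((6, 6), [(1, 0, 0)]), ((7, 7), [(1, 0, 0)]), ((8, 8), [(1, 0, 0)]), ((9, 9), [(1, 0, 0)]), ((10, 10), [(1, 0, 0)]), ((11, 11), [(1, 0, 0)]), ((12, 12), [(1, 0, 0)]), ((13, 13), [(1, 0, 0)]), ((14, 14), [(1, 0, 0)]), ((15, 15), [(1, 0, 0)]), ((16, 16), [(1, 0, 0)]), ((17, 17), [(1, 0, 0)]), ((18, 18), [(1, 0, 0)]), ((19, 19), [(1, 0, 0)]), ((20, 20), [(1, 0, 0)]), ((21, 21), [(1, 0, 0)]), ((22, 22), [(1, 0, 0)]), ((23, 23), [(1, 0, 0)]), ((24, 24), [(1, 0, 0)]), ((25, 25), [(1, 0, 0)]), ((26, 26), [(1, 0,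 0)]), ((27, 27), [(1, 0, 0)]), ((28, 28), [(1, 0, 0)]), ((29, 29), [(1, 0, 0)]), ((30, 30), [(1, 0, 0)]), ((31, 31), [(1, 0, 0)]), ((32, 32), [(1, 0, 0)]), ((33, 33), [(1, 0, 0)]), ((34, 34), [(1, 0, 0)]), ((35, 35), [(1, 0, 0)]), ((36, 36), [(1, 0, 0)]), ((37, 37), [(1, 0, 0)]), ((38, 38), [(1, 0, 0)]), ((39, 39), [(1, 0, 0)]), ((40, 40), [(1, 0, 0)]), ((41, 41), [(1, 0, 0)]), ((42, 42), [(1, 0, 0)]), ((43, 43), [(1, 0, 0)]), ((44, 44), [(1, 0, 0)]), ((45, 45), [(1, 0, 0)]), ((46, 46), [(1, 0, 0)]), ((47, 47), [(1, 0, 0)]), ((48, 48), [(1, 0, 0)]), ((49, 49), [(1, 0, 0)]), ((50, 50), [(1, 0, 0)]), ((51, 51), [(1, 0, 0)]), ((20, 0), [(-2, 1, 0)]), ((20, 1), [(2, 1, 0)]), ((20, 2), [(-1, 1, 0)]), ((20, 3), [(1, 1, 0)]), ((0, 35), [(0, 1, 0)]), ((1, 35), [(-1, 1, 0)]), ((2, 35),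 [(-1, 1, 0)]), ((3, 35), [(-1, 1, 0)]), ((20, 35), [(-1, 2, 0)]), ((4, 8), [(1, 1, 0)]), ((6, 10), [(-1, 1, 0)]), ((11, 16), [(1, 1, 0)]), ((13, 18), [(-1, 1, 0)]), ((19, 26), [(1, 1, 0)]), ((21, 28), [(1, 1, 0)]), ((22, 31), [(1, 1, 0)]), ((24, 33), [(-1, 1, 0)]), ((27, 34), [(-1, 1, 0)]), ((29, 36), [(-1, 1, 0)]), ((37, 42), [(1, 1, 0)]), ((39, 44), [(-1, 1, 0)]), ((45, 49), [(1, 1, 0)]), ((47, 51), [(-1, 1, 0)])]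
/-- its block -/
def LX16 : SMat := [((0, 0), [(1, 0, 0)]), ((1, 1), [(1, 0, 0)]), ((2, 2), [(1, 0, 0)]), ((3, 3), [(1, 0, 0)]), ((4, 4), [(1, 0, 0)]), ((5, 5), [(1, 0, 0)]), ((6, 6), [(1, 0, 0)]), ((7, 7), [(1, 0, 0)]), ((8, 8), [(1, 0, 0)]), ((9, 9), [(1, 0, 0)]), ((10, 10), [(1, 0, 0)]), ((11, 11), [(1, 0, 0)]), ((12, 12), [(1, 0, 0)]), ((13, 13), [(1, 0, 0)]), ((14, 14), [(1, 0, 0)]), ((15, 15), [(1, 0, 0)]), ((16, 16), [(1, 0, 0)]), ((17, 17), [(1, 0, 0)]), ((18, 18), [(1, 0, 0)]), ((19, 19), [(1, 0, 0)]), ((20, 20), [(1, 0, 0)]), ((21, 21), [(1, 0, 0)]), ((22, 22), [(1, 0, 0)]), ((23, 23), [(1, 0, 0)]), ((24, 24), [(1, 0, 0)]), ((25, 25), [(1, 0, 0)]), ((3, 8), [(1, 1, 0)]), ((5, 10), [(-1, 1, 0)]), ((11, 14), [(1, 1, 0)]), ((13, 16), [(-1, 1, 0)]), ((17, 22), [(1, 1, 0)]),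 ((19, 24), [(-1, 1, 0)])]
theorem f4_root16 : rootFast 16 LX16 LF16 = true := by decide +kernel

/-- the root matrix -/
def LF17 : SMat := [((0, 0), [(1, 0, 0)]), ((1, 1), [(1, 0, 0)]), ((2, 2), [(1, 0, 0)]), ((3, 3), [(1, 0, 0)]), ((4, 4), [(1, 0, 0)]), ((5, 5), [(1, 0, 0)]), ((6, 6), [(1, 0, 0)]), ((7, 7), [(1, 0, 0)]), ((8, 8), [(1, 0, 0)]), ((9, 9), [(1, 0, 0)]), ((10, 10), [(1, 0, 0)]), ((11, 11), [(1, 0, 0)]), ((12, 12), [(1, 0, 0)]), ((13, 13), [(1, 0, 0)]), ((14, 14), [(1, 0, 0)]), ((15, 15), [(1, 0, 0)]), ((16, 16), [(1, 0, 0)]), ((17, 17), [(1, 0, 0)]), ((18, 18), [(1, 0, 0)]), ((19, 19), [(1, 0, 0)]), ((20, 20), [(1, 0, 0)]), ((21, 21), [(1, 0, 0)]), ((22, 22), [(1, 0, 0)]), ((23, 23), [(1, 0, 0)]), ((24, 24), [(1, 0, 0)]), ((25, 25), [(1, 0, 0)]), ((26, 26), [(1, 0,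 0)]), ((27, 27), [(1, 0, 0)]), ((28, 28), [(1, 0, 0)]), ((29, 29), [(1, 0, 0)]), ((30, 30), [(1, 0, 0)]), ((31, 31), [(1, 0, 0)]), ((32, 32), [(1, 0, 0)]), ((33, 33), [(1, 0, 0)]), ((34, 34), [(1, 0, 0)]), ((35, 35), [(1, 0, 0)]), ((36, 36), [(1, 0, 0)]), ((37, 37), [(1, 0, 0)]), ((38, 38), [(1, 0, 0)]), ((39, 39), [(1, 0, 0)]), ((40, 40), [(1, 0, 0)]), ((41, 41), [(1, 0, 0)]), ((42, 42), [(1, 0, 0)]), ((43, 43), [(1, 0, 0)]), ((44, 44), [(1, 0, 0)]), ((45, 45), [(1, 0, 0)]), ((46, 46), [(1, 0, 0)]), ((47, 47), [(1, 0, 0)]), ((48, 48), [(1, 0, 0)]), ((49, 49), [(1, 0, 0)]), ((50, 50), [(1, 0, 0)]), ((51, 51), [(1, 0, 0)]), ((21, 0), [(-2, 1, 0)]), ((21, 1), [(2, 1, 0)]), ((21, 2), [(0, 1, 0)]), ((21, 3), [(-1, 1, 0)]), ((0, 34), [(0, 1, 0)]), ((1, 34), [(-1, 1, 0)]), ((2, 34),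 [(-1, 1, 0)]), ((3, 34), [(0, 1, 0)]), ((21, 34), [(-1, 2, 0)]), ((5, 8), [(1, 1, 0)]), ((6, 9), [(1, 1, 0)]), ((11, 15), [(-1, 1, 0)]), ((14, 18), [(-1, 1, 0)]), ((19, 25), [(-1, 1, 0)]), ((20, 27), [(1, 1, 0)]), ((23, 31), [(1, 1, 0)]), ((24, 32), [(-1, 1, 0)]), ((28, 35), [(-1, 1, 0)]), ((30, 36), [(1, 1, 0)]), ((37, 41), [(1, 1, 0)]), ((40, 44), [(1, 1, 0)]), ((46, 49), [(-1, 1, 0)]), ((47, 50), [(-1, 1, 0)])]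
/-- its block -/
def LX17 : SMat := [((0, 0), [(1, 0, 0)]), ((1, 1), [(1, 0, 0)]), ((2, 2), [(1, 0, 0)]), ((3, 3), [(1, 0, 0)]), ((4, 4), [(1, 0, 0)]), ((5, 5), [(1, 0, 0)]), ((6, 6), [(1, 0, 0)]), ((7, 7), [(1, 0, 0)]), ((8, 8), [(1, 0, 0)]), ((9, 9), [(1, 0, 0)]), ((10, 10), [(1, 0, 0)]), ((11, 11), [(1, 0, 0)]), ((12, 12), [(1, 0, 0)]), ((13, 13), [(1, 0, 0)]), ((14, 14), [(1, 0, 0)]), ((15, 15), [(1, 0, 0)]), ((16, 16), [(1, 0, 0)]), ((17, 17), [(1, 0, 0)]), ((18, 18), [(1, 0, 0)]), ((19, 19), [(1, 0, 0)]), ((20, 20), [(1, 0, 0)]), ((21, 21), [(1, 0, 0)]), ((22, 22), [(1, 0, 0)]), ((23, 23), [(1, 0, 0)]), ((24, 24), [(1, 0, 0)]), ((25, 25), [(1, 0, 0)]), ((3, 7), [(-1, 1, 0)]), ((6, 10), [(-1, 1, 0)]), ((12, 14), [(1, 1, 0)]), ((13, 15), [(-1, 1, 0)]), ((17, 21), [(1, 1, 0)]),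 ((20, 24), [(1, 1, 0)])]
theorem f4_root17 : rootFast 17 LX17 LF17 = true := by decide +kernel

/-- the root matrix -/
def LF18 : SMat := [((0, 0), [(1, 0, 0)]), ((1, 1), [(1, 0, 0)]), ((2, 2), [(1, 0, 0)]), ((3, 3), [(1, 0, 0)]), ((4, 4), [(1, 0, 0)]), ((5, 5), [(1, 0, 0)]), ((6, 6), [(1, 0, 0)]), ((7, 7), [(1, 0, 0)]), ((8, 8), [(1, 0, 0)]), ((9, 9), [(1, 0, 0)]), ((10, 10), [(1, 0, 0)]), ((11, 11), [(1, 0, 0)]), ((12, 12), [(1, 0, 0)]), ((13, 13), [(1, 0, 0)]), ((14, 14), [(1, 0, 0)]), ((15, 15), [(1, 0, 0)]), ((16, 16), [(1, 0, 0)]), ((17, 17), [(1, 0, 0)]), ((18, 18), [(1, 0, 0)]), ((19, 19), [(1, 0, 0)]), ((20, 20), [(1, 0, 0)]), ((21, 21), [(1, 0, 0)]), ((22, 22), [(1, 0, 0)]), ((23, 23), [(1, 0, 0)]), ((24, 24), [(1, 0, 0)]), ((25, 25), [(1, 0, 0)]), ((26, 26), [(1, 0,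 0)]), ((27, 27), [(1, 0, 0)]), ((28, 28), [(1, 0, 0)]), ((29, 29), [(1, 0, 0)]), ((30, 30), [(1, 0, 0)]), ((31, 31), [(1, 0, 0)]), ((32, 32), [(1, 0, 0)]), ((33, 33), [(1, 0, 0)]), ((34, 34), [(1, 0, 0)]), ((35, 35), [(1, 0, 0)]), ((36, 36), [(1, 0, 0)]), ((37, 37), [(1, 0, 0)]), ((38, 38), [(1, 0, 0)]), ((39, 39), [(1, 0, 0)]), ((40, 40), [(1, 0, 0)]), ((41, 41), [(1, 0, 0)]), ((42, 42), [(1, 0, 0)]), ((43, 43), [(1, 0, 0)]), ((44, 44), [(1, 0, 0)]), ((45, 45), [(1, 0, 0)]), ((46, 46), [(1, 0, 0)]), ((47, 47), [(1, 0, 0)]), ((48, 48), [(1, 0, 0)]), ((49, 49), [(1, 0, 0)]), ((50, 50), [(1, 0, 0)]), ((51, 51), [(1, 0, 0)]), ((22, 0), [(-1, 1, 0)]), ((22, 1), [(0, 1, 0)]), ((22, 2), [(0, 1, 0)]), ((22, 3), [(1, 1, 0)]), ((0, 33), [(0, 1, 0)]), ((1, 33), [(-1, 1, 0)]), ((2, 33), [(-2,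 1, 0)]), ((3, 33), [(-2, 1, 0)]), ((22, 33), [(-1, 2, 0)]), ((4, 7), [(-2, 1, 0)]), ((7, 10), [(-1, 1, 0)]), ((4, 10), [(1, 2, 0)]), ((11, 14), [(-1, 1, 0)]), ((12, 16), [(1, 1, 0)]), ((13, 17), [(1, 1, 0)]), ((15, 18), [(-1, 1, 0)]), ((19, 23), [(2, 1, 0)]), ((20, 24), [(2, 1, 0)]), ((23, 28), [(1, 1, 0)]), ((19, 28), [(1, 2, 0)]), ((24, 30), [(1, 1, 0)]), ((20, 30), [(1, 2, 0)]), ((25, 31), [(-2, 1, 0)]), ((27, 32), [(-2, 1, 0)]), ((31, 35), [(-1, 1, 0)]), ((25, 35), [(1, 2, 0)]), ((32, 36), [(-1, 1, 0)]), ((27, 36), [(1, 2, 0)]), ((37, 40), [(1, 1, 0)]), ((38, 42), [(-1, 1, 0)]), ((39, 43), [(-1, 1, 0)]), ((41, 44), [(1, 1, 0)]), ((45, 48), [(2, 1, 0)]), ((48, 51), [(1, 1, 0)]), ((45, 51), [(1, 2, 0)])]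
/-- its block -/
def LX18 : SMat := [((0, 0), [(1, 0, 0)]), ((1, 1), [(1, 0, 0)]), ((2, 2), [(1, 0, 0)]), ((3, 3), [(1, 0, 0)]), ((4, 4), [(1, 0, 0)]), ((5, 5), [(1, 0, 0)]), ((6, 6), [(1, 0, 0)]), ((7, 7), [(1, 0, 0)]), ((8, 8), [(1, 0, 0)]), ((9, 9), [(1, 0, 0)]), ((10, 10), [(1, 0, 0)]), ((11, 11), [(1, 0, 0)]), ((12, 12), [(1, 0, 0)]), ((13, 13), [(1, 0, 0)]), ((14, 14), [(1, 0, 0)]), ((15, 15), [(1, 0, 0)]), ((16, 16), [(1, 0, 0)]), ((17, 17), [(1, 0, 0)]), ((18, 18), [(1, 0, 0)]), ((19, 19), [(1, 0, 0)]), ((20, 20), [(1, 0, 0)]), ((21, 21), [(1, 0, 0)]), ((22, 22), [(1, 0, 0)]), ((23, 23), [(1, 0, 0)]), ((24, 24), [(1, 0, 0)]), ((25, 25), [(1, 0, 0)]), ((11, 0), [(-1, 1, 0)]), ((11, 1), [(0, 1, 0)]), ((0, 16), [(0, 1, 0)]), ((1, 16), [(-1, 1, 0)]), ((11, 16), [(-1, 2, 0)]),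 ((3, 6), [(-1, 1, 0)]), ((4, 8), [(1, 1, 0)]), ((5, 9), [(1, 1, 0)]), ((7, 10), [(-1, 1, 0)]), ((17, 20), [(1, 1, 0)]), ((18, 22), [(-1, 1, 0)]), ((19, 23), [(-1, 1, 0)]), ((21, 24), [(1, 1, 0)])]
theorem f4_root18 : rootFast 18 LX18 LF18 = true := by decide +kernel

/-- the root matrix -/
def LF19 : SMat := [((0, 0), [(1, 0, 0)]), ((1, 1), [(1, 0, 0)]), ((2, 2), [(1, 0, 0)]), ((3, 3), [(1, 0, 0)]), ((4, 4), [(1, 0, 0)]), ((5, 5), [(1, 0, 0)]), ((6, 6), [(1, 0, 0)]), ((7, 7), [(1, 0, 0)]), ((8, 8), [(1, 0, 0)]), ((9, 9), [(1, 0, 0)]), ((10, 10), [(1, 0, 0)]), ((11, 11), [(1, 0, 0)]), ((12, 12), [(1, 0, 0)]), ((13, 13), [(1, 0, 0)]), ((14, 14), [(1, 0, 0)]), ((15, 15), [(1, 0, 0)]), ((16, 16), [(1, 0, 0)]), ((17, 17), [(1, 0, 0)]), ((18, 18), [(1, 0, 0)]), ((19, 19), [(1, 0, 0)]),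 ((20, 20), [(1, 0, 0)]), ((21, 21), [(1, 0, 0)]), ((22, 22), [(1, 0, 0)]), ((23, 23), [(1, 0, 0)]), ((24, 24), [(1, 0, 0)]), ((25, 25), [(1, 0, 0)]), ((26, 26), [(1, 0, 0)]), ((27, 27), [(1, 0, 0)]), ((28, 28), [(1, 0, 0)]), ((29, 29), [(1, 0, 0)]), ((30, 30), [(1, 0, 0)]), ((31, 31), [(1, 0, 0)]), ((32, 32), [(1, 0, 0)]), ((33, 33), [(1, 0, 0)]), ((34, 34), [(1, 0, 0)]), ((35, 35), [(1, 0, 0)]), ((36, 36), [(1, 0, 0)]), ((37, 37), [(1, 0, 0)]), ((38, 38), [(1, 0, 0)]), ((39, 39), [(1, 0, 0)]), ((40, 40), [(1, 0, 0)]), ((41, 41), [(1, 0, 0)]), ((42, 42), [(1, 0, 0)]), ((43, 43), [(1, 0, 0)]), ((44, 44), [(1, 0, 0)]), ((45, 45), [(1, 0, 0)]), ((46, 46), [(1, 0, 0)]), ((47, 47), [(1, 0, 0)]), ((48, 48), [(1, 0, 0)]), ((49, 49), [(1, 0, 0)]), ((50, 50), [(1, 0, 0)]), ((51, 51), [(1,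 0, 0)]), ((23, 0), [(-1, 1, 0)]), ((23, 1), [(0, 1, 0)]), ((23, 2), [(1, 1, 0)]), ((23, 3), [(-1, 1, 0)]), ((0, 32), [(0, 1, 0)]), ((1, 32), [(-1, 1, 0)]), ((2, 32), [(-2, 1, 0)]), ((3, 32), [(0, 1, 0)]), ((23, 32), [(-1, 2, 0)]), ((5, 7), [(-2, 1, 0)]), ((7, 9), [(1, 1, 0)]), ((5, 9), [(-1, 2, 0)]), ((11, 13), [(1, 1, 0)]), ((12, 15), [(-1, 1, 0)]), ((14, 17), [(1, 1, 0)]), ((16, 18), [(-1, 1, 0)]), ((19, 22), [(-2, 1, 0)]), ((21, 24), [(2, 1, 0)]), ((22, 27), [(1, 1, 0)]), ((19, 27), [(-1, 2, 0)]), ((24, 29), [(1, 1, 0)]), ((21, 29), [(1, 2, 0)]), ((26, 31), [(-2, 1, 0)]), ((28, 33), [(-2, 1, 0)]), ((31, 34), [(-1, 1, 0)]), ((26, 34), [(1, 2, 0)]), ((33, 36), [(1, 1, 0)]), ((28, 36), [(-1, 2, 0)]), ((37, 39), [(1, 1, 0)]), ((38, 41), [(-1, 1, 0)]), ((40, 43), [(1, 1, 0)]), ((42,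 44), [(-1, 1, 0)]), ((46, 48), [(-2, 1, 0)]), ((48, 50), [(1, 1, 0)]), ((46, 50), [(-1, 2, 0)])]
/-- its block -/
def LX19 : SMat := [((0, 0), [(1, 0, 0)]), ((1, 1), [(1, 0, 0)]), ((2, 2), [(1, 0, 0)]), ((3, 3), [(1, 0, 0)]), ((4, 4), [(1, 0, 0)]), ((5, 5), [(1, 0, 0)]), ((6, 6), [(1, 0, 0)]), ((7, 7), [(1, 0, 0)]), ((8, 8), [(1, 0, 0)]), ((9, 9), [(1, 0, 0)]), ((10, 10), [(1, 0, 0)]), ((11, 11), [(1, 0, 0)]), ((12, 12), [(1, 0, 0)]), ((13, 13), [(1, 0, 0)]), ((14, 14), [(1, 0, 0)]), ((15, 15), [(1, 0, 0)]), ((16, 16), [(1, 0, 0)]), ((17, 17), [(1, 0, 0)]), ((18, 18), [(1, 0, 0)]), ((19, 19), [(1, 0, 0)]), ((20, 20), [(1, 0, 0)]), ((21, 21), [(1, 0, 0)]), ((22, 22), [(1, 0, 0)]), ((23, 23), [(1, 0, 0)]), ((24, 24), [(1, 0, 0)]), ((25, 25), [(1, 0, 0)]), ((12, 0), [(-1, 1, 0)]),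 ((12, 1), [(0, 1, 0)]), ((0, 15), [(0, 1, 0)]), ((1, 15), [(-1, 1, 0)]), ((12, 15), [(-1, 2, 0)]), ((3, 5), [(1, 1, 0)]), ((4, 7), [(-1, 1, 0)]), ((6, 9), [(1, 1, 0)]), ((8, 10), [(-1, 1, 0)]), ((17, 19), [(1, 1, 0)]), ((18, 21), [(-1, 1, 0)]), ((20, 23), [(1, 1, 0)]), ((22, 24), [(-1, 1, 0)])]
theorem f4_root19 : rootFast 19 LX19 LF19 = true := by decide +kernel

/-- the root matrix -/
def LF20 : SMat := [((0, 0), [(1, 0, 0)]), ((1, 1), [(1, 0, 0)]), ((2, 2), [(1, 0, 0)]), ((3, 3), [(1, 0, 0)]), ((4, 4), [(1, 0, 0)]), ((5, 5), [(1, 0, 0)]), ((6, 6), [(1, 0, 0)]), ((7, 7), [(1, 0, 0)]), ((8, 8), [(1, 0, 0)]), ((9, 9), [(1, 0, 0)]), ((10, 10), [(1, 0, 0)]), ((11, 11), [(1, 0, 0)]), ((12, 12), [(1, 0, 0)]), ((13, 13), [(1, 0, 0)]), ((14, 14), [(1, 0, 0)]), ((15, 15), [(1, 0, 0)]),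 ((16, 16), [(1, 0, 0)]), ((17, 17), [(1, 0, 0)]), ((18, 18), [(1, 0, 0)]), ((19, 19), [(1, 0, 0)]), ((20, 20), [(1, 0, 0)]), ((21, 21), [(1, 0, 0)]), ((22, 22), [(1, 0, 0)]), ((23, 23), [(1, 0, 0)]), ((24, 24), [(1, 0, 0)]), ((25, 25), [(1, 0, 0)]), ((26, 26), [(1, 0, 0)]), ((27, 27), [(1, 0, 0)]), ((28, 28), [(1, 0, 0)]), ((29, 29), [(1, 0, 0)]), ((30, 30), [(1, 0, 0)]), ((31, 31), [(1, 0, 0)]), ((32, 32), [(1, 0, 0)]), ((33, 33), [(1, 0, 0)]), ((34, 34), [(1, 0, 0)]), ((35, 35), [(1, 0, 0)]), ((36, 36), [(1, 0, 0)]), ((37, 37), [(1, 0, 0)]), ((38, 38), [(1, 0, 0)]), ((39, 39), [(1, 0, 0)]), ((40, 40), [(1, 0, 0)]), ((41, 41), [(1, 0, 0)]), ((42, 42), [(1, 0, 0)]), ((43, 43), [(1, 0, 0)]), ((44, 44), [(1, 0, 0)]), ((45, 45), [(1, 0, 0)]), ((46, 46), [(1, 0, 0)]), ((47, 47), [(1,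 0, 0)]), ((48, 48), [(1, 0, 0)]), ((49, 49), [(1, 0, 0)]), ((50, 50), [(1, 0, 0)]), ((51, 51), [(1, 0, 0)]), ((24, 0), [(-1, 1, 0)]), ((24, 1), [(2, 1, 0)]), ((24, 2), [(-1, 1, 0)]), ((24, 3), [(0, 1, 0)]), ((0, 31), [(0, 1, 0)]), ((1, 31), [(-1, 1, 0)]), ((2, 31), [(0, 1, 0)]), ((3, 31), [(0, 1, 0)]), ((24, 31), [(-1, 2, 0)]), ((6, 7), [(-2, 1, 0)]), ((7, 8), [(-1, 1, 0)]), ((6, 8), [(1, 2, 0)]), ((11, 12), [(-1, 1, 0)]), ((13, 15), [(-1, 1, 0)]), ((14, 16), [(-1, 1, 0)]), ((17, 18), [(-1, 1, 0)]), ((20, 22), [(-2, 1, 0)]), ((21, 23), [(-2, 1, 0)]), ((22, 25), [(1, 1, 0)]), ((20, 25), [(-1, 2, 0)]), ((23, 26), [(1, 1, 0)]), ((21, 26), [(-1, 2, 0)]), ((29, 32), [(-2, 1, 0)]), ((30, 33), [(-2, 1, 0)]), ((32, 34), [(1, 1, 0)]), ((29, 34), [(-1, 2, 0)]), ((33, 35), [(1, 1, 0)]), ((30,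 35), [(-1, 2, 0)]), ((37, 38), [(1, 1, 0)]), ((39, 41), [(1, 1, 0)]), ((40, 42), [(1, 1, 0)]), ((43, 44), [(1, 1, 0)]), ((47, 48), [(2, 1, 0)]), ((48, 49), [(1, 1, 0)]), ((47, 49), [(1, 2, 0)])]
/-- its block -/
def LX20 : SMat := [((0, 0), [(1, 0, 0)]), ((1, 1), [(1, 0, 0)]), ((2, 2), [(1, 0, 0)]), ((3, 3), [(1, 0, 0)]), ((4, 4), [(1, 0, 0)]), ((5, 5), [(1, 0, 0)]), ((6, 6), [(1, 0, 0)]), ((7, 7), [(1, 0, 0)]), ((8, 8), [(1, 0, 0)]), ((9, 9), [(1, 0, 0)]), ((10, 10), [(1, 0, 0)]), ((11, 11), [(1, 0, 0)]), ((12, 12), [(1, 0, 0)]), ((13, 13), [(1, 0, 0)]), ((14, 14), [(1, 0, 0)]), ((15, 15), [(1, 0, 0)]), ((16, 16), [(1, 0, 0)]), ((17, 17), [(1, 0, 0)]), ((18, 18), [(1, 0, 0)]), ((19, 19), [(1, 0, 0)]), ((20, 20), [(1, 0, 0)]), ((21, 21), [(1, 0, 0)]), ((22, 22), [(1, 0, 0)]), ((23,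 23), [(1, 0, 0)]), ((24, 24), [(1, 0, 0)]), ((25, 25), [(1, 0, 0)]), ((13, 0), [(-1, 1, 0)]), ((13, 1), [(2, 1, 0)]), ((0, 14), [(0, 1, 0)]), ((1, 14), [(-1, 1, 0)]), ((13, 14), [(-1, 2, 0)]), ((3, 4), [(-1, 1, 0)]), ((5, 7), [(-1, 1, 0)]), ((6, 8), [(-1, 1, 0)]), ((9, 10), [(-1, 1, 0)]), ((17, 18), [(1, 1, 0)]), ((19, 21), [(1, 1, 0)]), ((20, 22), [(1, 1, 0)]), ((23, 24), [(1, 1, 0)])]
theorem f4_root20 : rootFast 20 LX20 LF20 = true := by decide +kernel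

/-- the root matrix -/
def LF21 : SMat := [((0, 0), [(1, 0, 0)]), ((1, 1), [(1, 0, 0)]), ((2, 2), [(1, 0, 0)]), ((3, 3), [(1, 0, 0)]), ((4, 4), [(1, 0, 0)]), ((5, 5), [(1, 0, 0)]), ((6, 6), [(1, 0, 0)]), ((7, 7), [(1, 0, 0)]), ((8, 8), [(1, 0, 0)]), ((9, 9), [(1, 0, 0)]), ((10, 10), [(1, 0, 0)]), ((11, 11), [(1, 0, 0)]), ((12, 12), [(1, 0, 0)]), ((13, 13), [(1, 0, 0)]), ((14, 14), [(1, 0, 0)]), ((15, 15), [(1, 0, 0)]), ((16, 16), [(1, 0, 0)]), ((17, 17), [(1, 0, 0)]), ((18, 18), [(1, 0, 0)]), ((19, 19), [(1, 0, 0)]), ((20, 20), [(1, 0, 0)]), ((21, 21), [(1, 0, 0)]), ((22, 22), [(1, 0, 0)]), ((23, 23), [(1, 0, 0)]), ((24, 24), [(1, 0, 0)]), ((25, 25), [(1, 0, 0)]), ((26, 26), [(1, 0, 0)]), ((27, 27), [(1, 0, 0)]), ((28, 28), [(1, 0, 0)]), ((29, 29), [(1, 0, 0)]), ((30, 30), [(1,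 0, 0)]), ((31, 31), [(1, 0, 0)]), ((32, 32), [(1, 0, 0)]), ((33, 33), [(1, 0, 0)]), ((34, 34), [(1, 0, 0)]), ((35, 35), [(1, 0, 0)]), ((36, 36), [(1, 0, 0)]), ((37, 37), [(1, 0, 0)]), ((38, 38), [(1, 0, 0)]), ((39, 39), [(1, 0, 0)]), ((40, 40), [(1, 0, 0)]), ((41, 41), [(1, 0, 0)]), ((42, 42), [(1, 0, 0)]), ((43, 43), [(1, 0, 0)]), ((44, 44), [(1, 0, 0)]), ((45, 45), [(1, 0, 0)]), ((46, 46), [(1, 0, 0)]), ((47, 47), [(1, 0, 0)]), ((48, 48), [(1, 0, 0)]), ((49, 49), [(1, 0, 0)]), ((50, 50), [(1, 0, 0)]), ((51, 51), [(1, 0, 0)]), ((25, 0), [(0, 1, 0)]), ((25, 1), [(-2, 1, 0)]), ((25, 2), [(1, 1, 0)]), ((25, 3), [(1, 1, 0)]), ((0, 30), [(0, 1, 0)]), ((1, 30), [(0, 1, 0)]), ((2, 30), [(-1, 1, 0)]), ((3, 30), [(-1, 1, 0)]), ((25, 30), [(-1, 2, 0)]), ((4, 6), [(-1, 1, 0)]), ((8, 10),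 [(1, 1, 0)]), ((12, 14), [(1, 1, 0)]), ((15, 17), [(-1, 1, 0)]), ((19, 21), [(1, 1, 0)]), ((22, 24), [(-1, 1, 0)]), ((26, 28), [(1, 1, 0)]), ((27, 29), [(-1, 1, 0)]), ((31, 33), [(1, 1, 0)]), ((34, 36), [(-1, 1, 0)]), ((38, 40), [(1, 1, 0)]), ((41, 43), [(-1, 1, 0)]), ((45, 47), [(-1, 1, 0)]), ((49, 51), [(1, 1, 0)])]
/-- its block -/
def LX21 : SMat := [((0, 0), [(1, 0, 0)]), ((1, 1), [(1, 0, 0)]), ((2, 2), [(1, 0, 0)]), ((3, 3), [(1, 0, 0)]), ((4, 4), [(1, 0, 0)]), ((5, 5), [(1, 0, 0)]), ((6, 6), [(1, 0, 0)]), ((7, 7), [(1, 0, 0)]), ((8, 8), [(1, 0, 0)]), ((9, 9), [(1, 0, 0)]), ((10, 10), [(1, 0, 0)]), ((11, 11), [(1, 0, 0)]), ((12, 12), [(1, 0, 0)]), ((13, 13), [(1, 0, 0)]), ((14, 14), [(1, 0, 0)]), ((15, 15), [(1, 0, 0)]), ((16, 16), [(1, 0, 0)]), ((17, 17), [(1, 0, 0)]), ((18,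 18), [(1, 0, 0)]), ((19, 19), [(1, 0, 0)]), ((20, 20), [(1, 0, 0)]), ((21, 21), [(1, 0, 0)]), ((22, 22), [(1, 0, 0)]), ((23, 23), [(1, 0, 0)]), ((24, 24), [(1, 0, 0)]), ((25, 25), [(1, 0, 0)]), ((4, 6), [(1, 1, 0)]), ((7, 9), [(-1, 1, 0)]), ((11, 13), [(-1, 1, 0)]), ((14, 16), [(1, 1, 0)]), ((18, 20), [(1, 1, 0)]), ((21, 23), [(-1, 1, 0)])]
theorem f4_root21 : rootFast 21 LX21 LF21 = true := by decide +kernel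

/-- the root matrix -/
def LF22 : SMat := [((0, 0), [(1, 0, 0)]), ((1, 1), [(1, 0, 0)]), ((2, 2), [(1, 0, 0)]), ((3, 3), [(1, 0, 0)]), ((4, 4), [(1, 0, 0)]), ((5, 5), [(1, 0, 0)]), ((6, 6), [(1, 0, 0)]), ((7, 7), [(1, 0, 0)]), ((8, 8), [(1, 0, 0)]), ((9, 9), [(1, 0, 0)]), ((10, 10), [(1, 0, 0)]), ((11, 11), [(1, 0, 0)]), ((12, 12), [(1, 0, 0)]), ((13, 13), [(1, 0, 0)]), ((14, 14), [(1, 0, 0)]), ((15, 15), [(1, 0, 0)]), ((16, 16), [(1, 0, 0)]), ((17, 17), [(1, 0, 0)]), ((18, 18), [(1, 0, 0)]), ((19, 19), [(1, 0, 0)]), ((20, 20), [(1, 0, 0)]), ((21, 21), [(1, 0, 0)]), ((22, 22), [(1, 0, 0)]), ((23, 23), [(1, 0, 0)]), ((24, 24), [(1, 0, 0)]), ((25, 25), [(1, 0, 0)]), ((26, 26), [(1, 0, 0)]), ((27, 27), [(1, 0, 0)]), ((28, 28), [(1, 0, 0)]), ((29, 29), [(1, 0, 0)]), ((30, 30), [(1,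 0, 0)]), ((31, 31), [(1, 0, 0)]), ((32, 32), [(1, 0, 0)]), ((33, 33), [(1, 0, 0)]), ((34, 34), [(1, 0, 0)]), ((35, 35), [(1, 0, 0)]), ((36, 36), [(1, 0, 0)]), ((37, 37), [(1, 0, 0)]), ((38, 38), [(1, 0, 0)]), ((39, 39), [(1, 0, 0)]), ((40, 40), [(1, 0, 0)]), ((41, 41), [(1, 0, 0)]), ((42, 42), [(1, 0, 0)]), ((43, 43), [(1, 0, 0)]), ((44, 44), [(1, 0, 0)]), ((45, 45), [(1, 0, 0)]), ((46, 46), [(1, 0, 0)]), ((47, 47), [(1, 0, 0)]), ((48, 48), [(1, 0, 0)]), ((49, 49), [(1, 0, 0)]), ((50, 50), [(1, 0, 0)]), ((51, 51), [(1, 0, 0)]), ((26, 0), [(0, 1, 0)]), ((26, 1), [(-2, 1, 0)]), ((26, 2), [(2, 1, 0)]), ((26, 3), [(-1, 1, 0)]), ((0, 29), [(0, 1, 0)]), ((1, 29), [(0, 1, 0)]), ((2, 29), [(-1, 1, 0)]), ((3, 29), [(0, 1, 0)]), ((26, 29), [(-1, 2, 0)]), ((5, 6), [(-1, 1, 0)]), ((8, 9),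 [(-1, 1, 0)]), ((12, 13), [(-1, 1, 0)]), ((16, 17), [(-1, 1, 0)]), ((19, 20), [(-1, 1, 0)]), ((23, 24), [(-1, 1, 0)]), ((25, 27), [(1, 1, 0)]), ((28, 30), [(-1, 1, 0)]), ((31, 32), [(1, 1, 0)]), ((35, 36), [(1, 1, 0)]), ((38, 39), [(1, 1, 0)]), ((42, 43), [(1, 1, 0)]), ((46, 47), [(1, 1, 0)]), ((49, 50), [(1, 1, 0)])]
/-- its block -/
def LX22 : SMat := [((0, 0), [(1, 0, 0)]), ((1, 1), [(1, 0, 0)]), ((2, 2), [(1, 0, 0)]), ((3, 3), [(1, 0, 0)]), ((4, 4), [(1, 0, 0)]), ((5, 5), [(1, 0, 0)]), ((6, 6), [(1, 0, 0)]), ((7, 7), [(1, 0, 0)]), ((8, 8), [(1, 0, 0)]), ((9, 9), [(1, 0, 0)]), ((10, 10), [(1, 0, 0)]), ((11, 11), [(1, 0, 0)]), ((12, 12), [(1, 0, 0)]), ((13, 13), [(1, 0, 0)]), ((14, 14), [(1, 0, 0)]), ((15, 15), [(1, 0, 0)]), ((16, 16), [(1, 0, 0)]), ((17, 17), [(1, 0, 0)]), ((18,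 18), [(1, 0, 0)]), ((19, 19), [(1, 0, 0)]), ((20, 20), [(1, 0, 0)]), ((21, 21), [(1, 0, 0)]), ((22, 22), [(1, 0, 0)]), ((23, 23), [(1, 0, 0)]), ((24, 24), [(1, 0, 0)]), ((25, 25), [(1, 0, 0)]), ((4, 5), [(-1, 1, 0)]), ((8, 9), [(-1, 1, 0)]), ((12, 13), [(-1, 1, 0)]), ((14, 15), [(1, 1, 0)]), ((18, 19), [(1, 1, 0)]), ((22, 23), [(1, 1, 0)])]
theorem f4_root22 : rootFast 22 LX22 LF22 = true := by decide +kernel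

/-- the root matrix -/
def LF23 : SMat := [((0, 0), [(1, 0, 0)]), ((1, 1), [(1, 0, 0)]), ((2, 2), [(1, 0, 0)]), ((3, 3), [(1, 0, 0)]), ((4, 4), [(1, 0, 0)]), ((5, 5), [(1, 0, 0)]), ((6, 6), [(1, 0, 0)]), ((7, 7), [(1, 0, 0)]), ((8, 8), [(1, 0, 0)]), ((9, 9), [(1, 0, 0)]), ((10, 10), [(1, 0, 0)]), ((11, 11), [(1, 0, 0)]), ((12, 12), [(1, 0, 0)]), ((13, 13), [(1, 0, 0)]), ((14, 14), [(1, 0, 0)]), ((15, 15), [(1, 0, 0)]), ((16, 16), [(1, 0, 0)]), ((17, 17), [(1, 0, 0)]), ((18, 18), [(1, 0, 0)]), ((19, 19), [(1, 0, 0)]), ((20, 20), [(1, 0, 0)]), ((21, 21), [(1, 0, 0)]), ((22, 22), [(1, 0, 0)]), ((23, 23), [(1, 0, 0)]), ((24, 24), [(1, 0, 0)]), ((25, 25), [(1, 0, 0)]), ((26, 26), [(1, 0, 0)]), ((27, 27), [(1, 0, 0)]), ((28, 28), [(1, 0, 0)]), ((29, 29), [(1, 0, 0)]), ((30, 30), [(1,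 0, 0)]), ((31, 31), [(1, 0, 0)]), ((32, 32), [(1, 0, 0)]), ((33, 33), [(1, 0, 0)]), ((34, 34), [(1, 0, 0)]), ((35, 35), [(1, 0, 0)]), ((36, 36), [(1, 0, 0)]), ((37, 37), [(1, 0, 0)]), ((38, 38), [(1, 0, 0)]), ((39, 39), [(1, 0, 0)]), ((40, 40), [(1, 0, 0)]), ((41, 41), [(1, 0, 0)]), ((42, 42), [(1, 0, 0)]), ((43, 43), [(1, 0, 0)]), ((44, 44), [(1, 0, 0)]), ((45, 45), [(1, 0, 0)]), ((46, 46), [(1, 0, 0)]), ((47, 47), [(1, 0, 0)]), ((48, 48), [(1, 0, 0)]), ((49, 49), [(1, 0, 0)]), ((50, 50), [(1, 0, 0)]), ((51, 51), [(1, 0, 0)]), ((27, 0), [(0, 1, 0)]), ((27, 1), [(0, 1, 0)]), ((27, 2), [(-1, 1, 0)]), ((27, 3), [(2, 1, 0)]), ((0, 28), [(0, 1, 0)]), ((1, 28), [(0, 1, 0)]), ((2, 28), [(0, 1, 0)]), ((3, 28), [(-1, 1, 0)]), ((27, 28), [(-1, 2, 0)]), ((4, 5), [(-1, 1, 0)]), ((9, 10),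 [(-1, 1, 0)]), ((13, 14), [(-1, 1, 0)]), ((15, 16), [(-1, 1, 0)]), ((20, 21), [(-1, 1, 0)]), ((22, 23), [(-1, 1, 0)]), ((25, 26), [(-1, 1, 0)]), ((29, 30), [(1, 1, 0)]), ((32, 33), [(1, 1, 0)]), ((34, 35), [(1, 1, 0)]), ((39, 40), [(1, 1, 0)]), ((41, 42), [(1, 1, 0)]), ((45, 46), [(1, 1, 0)]), ((50, 51), [(1, 1, 0)])]
/-- its block -/
def LX23 : SMat := [((0, 0), [(1, 0, 0)]), ((1, 1), [(1, 0, 0)]), ((2, 2), [(1, 0, 0)]), ((3, 3), [(1, 0, 0)]), ((4, 4), [(1, 0, 0)]), ((5, 5), [(1, 0, 0)]), ((6, 6), [(1, 0, 0)]), ((7, 7), [(1, 0, 0)]), ((8, 8), [(1, 0, 0)]), ((9, 9), [(1, 0, 0)]), ((10, 10), [(1, 0, 0)]), ((11, 11), [(1, 0, 0)]), ((12, 12), [(1, 0, 0)]), ((13, 13), [(1, 0, 0)]), ((14, 14), [(1, 0, 0)]), ((15, 15), [(1, 0, 0)]), ((16, 16), [(1, 0, 0)]), ((17, 17), [(1, 0, 0)]), ((18,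 18), [(1, 0, 0)]), ((19, 19), [(1, 0, 0)]), ((20, 20), [(1, 0, 0)]), ((21, 21), [(1, 0, 0)]), ((22, 22), [(1, 0, 0)]), ((23, 23), [(1, 0, 0)]), ((24, 24), [(1, 0, 0)]), ((25, 25), [(1, 0, 0)]), ((5, 6), [(-1, 1, 0)]), ((7, 8), [(-1, 1, 0)]), ((11, 12), [(-1, 1, 0)]), ((15, 16), [(1, 1, 0)]), ((19, 20), [(1, 1, 0)]), ((21, 22), [(1, 1, 0)])]
theorem f4_root23 : rootFast 23 LX23 LF23 = true := by decide +kernel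

theorem f4_rootsB : ∀ r, 12 ≤ r → r < 24 → ∃ X XF, rootFast r X XF = true := by
  intro r h1 h2
  interval_cases r
  · exact ⟨_, _, f4_root12⟩
  · exact ⟨_, _, f4_root13⟩
  · exact ⟨_, _, f4_root14⟩
  · exact ⟨_, _, f4_root15⟩
  · exact ⟨_, _, f4_root16⟩
  · exact ⟨_, _, f4_root17⟩
  · exact ⟨_, _, f4_root18⟩
  · exact ⟨_, _, f4_root19⟩
  · exact ⟨_, _, f4_root20⟩
  · exact ⟨_, _, f4_root21⟩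
  · exact ⟨_, _, f4_root22⟩
  · exact ⟨_, _, f4_root23⟩

end Cfsg.Agent.Lib.LieTwisted.Isogeny
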