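import Cfsg.Agent.Lib.LieTwisted.IsogenyF4Data

/-! Kernel checks for the roots 24..35 of the exceptional isogeny of F4. -/

set_option autoImplicit false
set_option maxRecDepth 100000
set_option Elab.async false

namespace Cfsg.Agent.Lib.LieTwisted.Isogeny

open Cfsg.Lie Sparse SparseRoot

/-- the root matrix -/
def LF24 : SMat := [((0, 0), [(1, 0, 0)]), ((1, 1), [(1, 0, 0)]), ((2, 2), [(1, 0, 0)]), ((3, 3), [(1, 0, 0)]), ((4, 4), [(1, 0, 0)]), ((5, 5), [(1, 0, 0)]), ((6, 6), [(1, 0, 0)]), ((7, 7), [(1, 0, 0)]), ((8, 8), [(1, 0, 0)]), ((9, 9), [(1, 0, 0)]), ((10, 10), [(1, 0, 0)]), ((11, 11), [(1, 0, 0)]), ((12, 12), [(1, 0, 0)]), ((13, 13), [(1, 0, 0)]), ((14, 14), [(1, 0, 0)]), ((15, 15), [(1, 0, 0)]), ((16, 16), [(1, 0, 0)]), ((17, 17), [(1, 0, 0)]), ((18, 18), [(1, 0, 0)]),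 ((19, 19), [(1, 0, 0)]), ((20, 20), [(1, 0, 0)]), ((21, 21), [(1, 0, 0)]), ((22, 22), [(1, 0, 0)]), ((23, 23), [(1, 0, 0)]), ((24, 24), [(1, 0, 0)]), ((25, 25), [(1, 0, 0)]), ((26, 26), [(1, 0, 0)]), ((27, 27), [(1, 0, 0)]), ((28, 28), [(1, 0, 0)]), ((29, 29), [(1, 0, 0)]), ((30, 30), [(1, 0, 0)]), ((31, 31), [(1, 0, 0)]), ((32, 32), [(1, 0, 0)]), ((33, 33), [(1, 0, 0)]), ((34, 34), [(1, 0, 0)]), ((35, 35), [(1, 0, 0)]), ((36, 36), [(1, 0, 0)]), ((37, 37), [(1, 0, 0)]), ((38, 38), [(1, 0, 0)]), ((39, 39), [(1, 0, 0)]), ((40, 40), [(1, 0, 0)]), ((41, 41), [(1, 0, 0)]), ((42, 42), [(1, 0, 0)]), ((43, 43), [(1, 0, 0)]), ((44, 44), [(1, 0, 0)]), ((45, 45), [(1, 0, 0)]), ((46, 46), [(1, 0, 0)]), ((47, 47), [(1, 0, 0)]), ((48, 48), [(1, 0, 0)]), ((49, 49), [(1, 0, 0)]), ((50, 50), [(1,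 0, 0)]), ((51, 51), [(1, 0, 0)]), ((28, 0), [(0, 1, 0)]), ((28, 1), [(0, 1, 0)]), ((28, 2), [(1, 1, 0)]), ((28, 3), [(-2, 1, 0)]), ((0, 27), [(0, 1, 0)]), ((1, 27), [(0, 1, 0)]), ((2, 27), [(0, 1, 0)]), ((3, 27), [(1, 1, 0)]), ((28, 27), [(-1, 2, 0)]), ((5, 4), [(-1, 1, 0)]), ((10, 9), [(-1, 1, 0)]), ((14, 13), [(-1, 1, 0)]), ((16, 15), [(-1, 1, 0)]), ((21, 20), [(-1, 1, 0)]), ((23, 22), [(-1, 1, 0)]), ((26, 25), [(-1, 1, 0)]), ((30, 29), [(1, 1, 0)]), ((33, 32), [(1, 1, 0)]), ((35, 34), [(1, 1, 0)]), ((40, 39), [(1, 1, 0)]), ((42, 41), [(1, 1, 0)]), ((46, 45), [(1, 1, 0)]), ((51, 50), [(1, 1, 0)])]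
/-- its block -/
def LX24 : SMat := [((0, 0), [(1, 0, 0)]), ((1, 1), [(1, 0, 0)]), ((2, 2), [(1, 0, 0)]), ((3, 3), [(1, 0, 0)]), ((4, 4), [(1, 0, 0)]), ((5, 5), [(1, 0, 0)]), ((6, 6), [(1, 0, 0)]), ((7, 7), [(1, 0, 0)]), ((8, 8), [(1, 0, 0)]), ((9, 9), [(1, 0, 0)]), ((10, 10), [(1, 0, 0)]), ((11, 11), [(1, 0, 0)]), ((12, 12), [(1, 0, 0)]), ((13, 13), [(1, 0, 0)]), ((14, 14), [(1, 0, 0)]), ((15, 15), [(1, 0, 0)]), ((16, 16), [(1, 0, 0)]), ((17, 17), [(1, 0, 0)]), ((18, 18), [(1, 0, 0)]), ((19, 19), [(1, 0, 0)]), ((20, 20), [(1, 0, 0)]), ((21, 21), [(1, 0, 0)]), ((22, 22), [(1, 0, 0)]), ((23, 23), [(1, 0, 0)]), ((24, 24), [(1, 0, 0)]), ((25, 25), [(1, 0, 0)]), ((6, 5), [(-1, 1, 0)]), ((8, 7), [(-1, 1, 0)]), ((12, 11), [(-1, 1, 0)]), ((16, 15), [(1, 1, 0)]), ((20, 19), [(1, 1, 0)]),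 ((22, 21), [(1, 1, 0)])]
theorem f4_root24 : rootFast 24 LX24 LF24 = true := by decide +kernel

/-- the root matrix -/
def LF25 : SMat := [((0, 0), [(1, 0, 0)]), ((1, 1), [(1, 0, 0)]), ((2, 2), [(1, 0, 0)]), ((3, 3), [(1, 0, 0)]), ((4, 4), [(1, 0, 0)]), ((5, 5), [(1, 0, 0)]), ((6, 6), [(1, 0, 0)]), ((7, 7), [(1, 0, 0)]), ((8, 8), [(1, 0, 0)]), ((9, 9), [(1, 0, 0)]), ((10, 10), [(1, 0, 0)]), ((11, 11), [(1, 0, 0)]), ((12, 12), [(1, 0, 0)]), ((13, 13), [(1, 0, 0)]), ((14, 14), [(1, 0, 0)]), ((15, 15), [(1, 0, 0)]), ((16, 16), [(1, 0, 0)]), ((17, 17), [(1, 0, 0)]), ((18, 18), [(1, 0, 0)]), ((19, 19), [(1, 0, 0)]), ((20, 20), [(1, 0, 0)]), ((21, 21), [(1, 0, 0)]), ((22, 22), [(1, 0, 0)]), ((23, 23), [(1, 0, 0)]), ((24, 24), [(1, 0, 0)]), ((25, 25), [(1, 0, 0)]), ((26, 26), [(1, 0, 0)]),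 ((27, 27), [(1, 0, 0)]), ((28, 28), [(1, 0, 0)]), ((29, 29), [(1, 0, 0)]), ((30, 30), [(1, 0, 0)]), ((31, 31), [(1, 0, 0)]), ((32, 32), [(1, 0, 0)]), ((33, 33), [(1, 0, 0)]), ((34, 34), [(1, 0, 0)]), ((35, 35), [(1, 0, 0)]), ((36, 36), [(1, 0, 0)]), ((37, 37), [(1, 0, 0)]), ((38, 38), [(1, 0, 0)]), ((39, 39), [(1, 0, 0)]), ((40, 40), [(1, 0, 0)]), ((41, 41), [(1, 0, 0)]), ((42, 42), [(1, 0, 0)]), ((43, 43), [(1, 0, 0)]), ((44, 44), [(1, 0, 0)]), ((45, 45), [(1, 0, 0)]), ((46, 46), [(1, 0, 0)]), ((47, 47), [(1, 0, 0)]), ((48, 48), [(1, 0, 0)]), ((49, 49), [(1, 0, 0)]), ((50, 50), [(1, 0, 0)]), ((51, 51), [(1, 0, 0)]), ((29, 0), [(0, 1, 0)]), ((29, 1), [(2, 1, 0)]), ((29, 2), [(-2, 1, 0)]), ((29, 3), [(1, 1, 0)]), ((0, 26), [(0, 1, 0)]), ((1, 26), [(0, 1, 0)]), ((2, 26), [(1, 1, 0)]),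 ((3, 26), [(0, 1, 0)]), ((29, 26), [(-1, 2, 0)]), ((6, 5), [(-1, 1, 0)]), ((9, 8), [(-1, 1, 0)]), ((13, 12), [(-1, 1, 0)]), ((17, 16), [(-1, 1, 0)]), ((20, 19), [(-1, 1, 0)]), ((24, 23), [(-1, 1, 0)]), ((27, 25), [(1, 1, 0)]), ((30, 28), [(-1, 1, 0)]), ((32, 31), [(1, 1, 0)]), ((36, 35), [(1, 1, 0)]), ((39, 38), [(1, 1, 0)]), ((43, 42), [(1, 1, 0)]), ((47, 46), [(1, 1, 0)]), ((50, 49), [(1, 1, 0)])]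
/-- its block -/
def LX25 : SMat := [((0, 0), [(1, 0, 0)]), ((1, 1), [(1, 0, 0)]), ((2, 2), [(1, 0, 0)]), ((3, 3), [(1, 0, 0)]), ((4, 4), [(1, 0, 0)]), ((5, 5), [(1, 0, 0)]), ((6, 6), [(1, 0, 0)]), ((7, 7), [(1, 0, 0)]), ((8, 8), [(1, 0, 0)]), ((9, 9), [(1, 0, 0)]), ((10, 10), [(1, 0, 0)]), ((11, 11), [(1, 0, 0)]), ((12, 12), [(1, 0, 0)]), ((13, 13), [(1, 0, 0)]), ((14, 14), [(1, 0, 0)]), ((15, 15), [(1, 0, 0)]), ((16, 16), [(1, 0, 0)]), ((17, 17), [(1, 0, 0)]), ((18, 18), [(1, 0, 0)]), ((19, 19), [(1, 0, 0)]), ((20, 20), [(1, 0, 0)]), ((21, 21), [(1, 0, 0)]), ((22, 22), [(1, 0, 0)]), ((23, 23), [(1, 0, 0)]), ((24, 24), [(1, 0, 0)]), ((25, 25), [(1, 0, 0)]), ((5, 4), [(-1, 1, 0)]), ((9, 8), [(-1, 1, 0)]), ((13, 12), [(-1, 1, 0)]), ((15, 14), [(1, 1, 0)]), ((19, 18), [(1, 1, 0)]),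 ((23, 22), [(1, 1, 0)])]
theorem f4_root25 : rootFast 25 LX25 LF25 = true := by decide +kernel

/-- the root matrix -/
def LF26 : SMat := [((0, 0), [(1, 0, 0)]), ((1, 1), [(1, 0, 0)]), ((2, 2), [(1, 0, 0)]), ((3, 3), [(1, 0, 0)]), ((4, 4), [(1, 0, 0)]), ((5, 5), [(1, 0, 0)]), ((6, 6), [(1, 0, 0)]), ((7, 7), [(1, 0, 0)]), ((8, 8), [(1, 0, 0)]), ((9, 9), [(1, 0, 0)]), ((10, 10), [(1, 0, 0)]), ((11, 11), [(1, 0, 0)]), ((12, 12), [(1, 0, 0)]), ((13, 13), [(1, 0, 0)]), ((14, 14), [(1, 0, 0)]), ((15, 15), [(1, 0, 0)]), ((16, 16), [(1, 0, 0)]), ((17, 17), [(1, 0, 0)]), ((18, 18), [(1, 0, 0)]), ((19, 19), [(1, 0, 0)]), ((20, 20), [(1, 0, 0)]), ((21, 21), [(1, 0, 0)]), ((22, 22), [(1, 0, 0)]), ((23, 23), [(1, 0, 0)]), ((24, 24), [(1, 0, 0)]), ((25, 25), [(1, 0, 0)]), ((26, 26), [(1, 0, 0)]),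 ((27, 27), [(1, 0, 0)]), ((28, 28), [(1, 0, 0)]), ((29, 29), [(1, 0, 0)]), ((30, 30), [(1, 0, 0)]), ((31, 31), [(1, 0, 0)]), ((32, 32), [(1, 0, 0)]), ((33, 33), [(1, 0, 0)]), ((34, 34), [(1, 0, 0)]), ((35, 35), [(1, 0, 0)]), ((36, 36), [(1, 0, 0)]), ((37, 37), [(1, 0, 0)]), ((38, 38), [(1, 0, 0)]), ((39, 39), [(1, 0, 0)]), ((40, 40), [(1, 0, 0)]), ((41, 41), [(1, 0, 0)]), ((42, 42), [(1, 0, 0)]), ((43, 43), [(1, 0, 0)]), ((44, 44), [(1, 0, 0)]), ((45, 45), [(1, 0, 0)]), ((46, 46), [(1, 0, 0)]), ((47, 47), [(1, 0, 0)]), ((48, 48), [(1, 0, 0)]), ((49, 49), [(1, 0, 0)]), ((50, 50), [(1, 0, 0)]), ((51, 51), [(1, 0, 0)]), ((30, 0), [(0, 1, 0)]), ((30, 1), [(2, 1, 0)]), ((30, 2), [(-1, 1, 0)]), ((30, 3), [(-1, 1, 0)]), ((0, 25), [(0, 1, 0)]), ((1, 25), [(0, 1, 0)]), ((2, 25), [(1, 1,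 0)]), ((3, 25), [(1, 1, 0)]), ((30, 25), [(-1, 2, 0)]), ((6, 4), [(-1, 1, 0)]), ((10, 8), [(1, 1, 0)]), ((14, 12), [(1, 1, 0)]), ((17, 15), [(-1, 1, 0)]), ((21, 19), [(1, 1, 0)]), ((24, 22), [(-1, 1, 0)]), ((28, 26), [(1, 1, 0)]), ((29, 27), [(-1, 1, 0)]), ((33, 31), [(1, 1, 0)]), ((36, 34), [(-1, 1, 0)]), ((40, 38), [(1, 1, 0)]), ((43, 41), [(-1, 1, 0)]), ((47, 45), [(-1, 1, 0)]), ((51, 49), [(1, 1, 0)])]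
/-- its block -/
def LX26 : SMat := [((0, 0), [(1, 0, 0)]), ((1, 1), [(1, 0, 0)]), ((2, 2), [(1, 0, 0)]), ((3, 3), [(1, 0, 0)]), ((4, 4), [(1, 0, 0)]), ((5, 5), [(1, 0, 0)]), ((6, 6), [(1, 0, 0)]), ((7, 7), [(1, 0, 0)]), ((8, 8), [(1, 0, 0)]), ((9, 9), [(1, 0, 0)]), ((10, 10), [(1, 0, 0)]), ((11, 11), [(1, 0, 0)]), ((12, 12), [(1, 0, 0)]), ((13, 13), [(1, 0, 0)]), ((14, 14), [(1, 0, 0)]), ((15, 15), [(1, 0, 0)]), ((16, 16), [(1, 0, 0)]), ((17, 17), [(1, 0, 0)]), ((18, 18), [(1, 0, 0)]), ((19, 19), [(1, 0, 0)]), ((20, 20), [(1, 0, 0)]), ((21, 21), [(1, 0, 0)]), ((22, 22), [(1, 0, 0)]), ((23, 23), [(1, 0, 0)]), ((24, 24), [(1, 0, 0)]), ((25, 25), [(1, 0, 0)]), ((6, 4), [(1, 1, 0)]), ((9, 7), [(-1, 1, 0)]), ((13, 11), [(-1, 1, 0)]), ((16, 14), [(1, 1, 0)]), ((20, 18), [(1, 1, 0)]),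 ((23, 21), [(-1, 1, 0)])]
theorem f4_root26 : rootFast 26 LX26 LF26 = true := by decide +kernel

/-- the root matrix -/
def LF27 : SMat := [((0, 0), [(1, 0, 0)]), ((1, 1), [(1, 0, 0)]), ((2, 2), [(1, 0, 0)]), ((3, 3), [(1, 0, 0)]), ((4, 4), [(1, 0, 0)]), ((5, 5), [(1, 0, 0)]), ((6, 6), [(1, 0, 0)]), ((7, 7), [(1, 0, 0)]), ((8, 8), [(1, 0, 0)]), ((9, 9), [(1, 0, 0)]), ((10, 10), [(1, 0, 0)]), ((11, 11), [(1, 0, 0)]), ((12, 12), [(1, 0, 0)]), ((13, 13), [(1, 0, 0)]), ((14, 14), [(1, 0, 0)]), ((15, 15), [(1, 0, 0)]), ((16, 16), [(1, 0, 0)]), ((17, 17), [(1, 0, 0)]), ((18, 18), [(1, 0, 0)]), ((19, 19), [(1, 0, 0)]), ((20, 20), [(1, 0, 0)]), ((21, 21), [(1, 0, 0)]), ((22, 22), [(1, 0, 0)]), ((23, 23), [(1, 0, 0)]), ((24, 24), [(1, 0, 0)]), ((25, 25), [(1, 0, 0)]), ((26, 26), [(1, 0,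 0)]), ((27, 27), [(1, 0, 0)]), ((28, 28), [(1, 0, 0)]), ((29, 29), [(1, 0, 0)]), ((30, 30), [(1, 0, 0)]), ((31, 31), [(1, 0, 0)]), ((32, 32), [(1, 0, 0)]), ((33, 33), [(1, 0, 0)]), ((34, 34), [(1, 0, 0)]), ((35, 35), [(1, 0, 0)]), ((36, 36), [(1, 0, 0)]), ((37, 37), [(1, 0, 0)]), ((38, 38), [(1, 0, 0)]), ((39, 39), [(1, 0, 0)]), ((40, 40), [(1, 0, 0)]), ((41, 41), [(1, 0, 0)]), ((42, 42), [(1, 0, 0)]), ((43, 43), [(1, 0, 0)]), ((44, 44), [(1, 0, 0)]), ((45, 45), [(1, 0, 0)]), ((46, 46), [(1, 0, 0)]), ((47, 47), [(1, 0, 0)]), ((48, 48), [(1, 0, 0)]), ((49, 49), [(1, 0, 0)]), ((50, 50), [(1, 0, 0)]), ((51, 51), [(1, 0, 0)]), ((31, 0), [(1, 1, 0)]), ((31, 1), [(-2, 1, 0)]), ((31, 2), [(1, 1, 0)]), ((31, 3), [(0, 1, 0)]), ((0, 24), [(0, 1, 0)]), ((1, 24), [(1, 1, 0)]), ((2, 24), [(0,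 1, 0)]), ((3, 24), [(0, 1, 0)]), ((31, 24), [(-1, 2, 0)]), ((7, 6), [(-1, 1, 0)]), ((8, 6), [(1, 2, 0)]), ((8, 7), [(-2, 1, 0)]), ((12, 11), [(-1, 1, 0)]), ((15, 13), [(-1, 1, 0)]), ((16, 14), [(-1, 1, 0)]), ((18, 17), [(-1, 1, 0)]), ((22, 20), [(-1, 1, 0)]), ((25, 20), [(-1, 2, 0)]), ((23, 21), [(-1, 1, 0)]), ((26, 21), [(-1, 2, 0)]), ((25, 22), [(2, 1, 0)]), ((26, 23), [(2, 1, 0)]), ((32, 29), [(-1, 1, 0)]), ((34, 29), [(-1, 2, 0)]), ((33, 30), [(-1, 1, 0)]), ((35, 30), [(-1, 2, 0)]), ((34, 32), [(2, 1, 0)]), ((35, 33), [(2, 1, 0)]), ((38, 37), [(1, 1, 0)]), ((41, 39), [(1, 1, 0)]), ((42, 40), [(1, 1, 0)]), ((44, 43), [(1, 1, 0)]), ((48, 47), [(1, 1, 0)]), ((49, 47), [(1, 2, 0)]), ((49, 48), [(2, 1, 0)])]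
/-- its block -/
def LX27 : SMat := [((0, 0), [(1, 0, 0)]), ((1, 1), [(1, 0, 0)]), ((2, 2), [(1, 0, 0)]), ((3, 3), [(1, 0, 0)]), ((4, 4), [(1, 0, 0)]), ((5, 5), [(1, 0, 0)]), ((6, 6), [(1, 0, 0)]), ((7, 7), [(1, 0, 0)]), ((8, 8), [(1, 0, 0)]), ((9, 9), [(1, 0, 0)]), ((10, 10), [(1, 0, 0)]), ((11, 11), [(1, 0, 0)]), ((12, 12), [(1, 0, 0)]), ((13, 13), [(1, 0, 0)]), ((14, 14), [(1, 0, 0)]), ((15, 15), [(1, 0, 0)]), ((16, 16), [(1, 0, 0)]), ((17, 17), [(1, 0, 0)]), ((18, 18), [(1, 0, 0)]), ((19, 19), [(1, 0, 0)]), ((20, 20), [(1, 0, 0)]), ((21, 21), [(1, 0, 0)]), ((22, 22), [(1, 0, 0)]), ((23, 23), [(1, 0, 0)]), ((24, 24), [(1, 0, 0)]), ((25, 25), [(1, 0, 0)]), ((14, 0), [(1, 1, 0)]), ((14, 1), [(-2, 1, 0)]), ((0, 13), [(0, 1, 0)]), ((1, 13), [(1, 1, 0)]), ((14, 13), [(-1, 2, 0)]),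 ((4, 3), [(-1, 1, 0)]), ((7, 5), [(-1, 1, 0)]), ((8, 6), [(-1, 1, 0)]), ((10, 9), [(-1, 1, 0)]), ((18, 17), [(1, 1, 0)]), ((21, 19), [(1, 1, 0)]), ((22, 20), [(1, 1, 0)]), ((24, 23), [(1, 1, 0)])]
theorem f4_root27 : rootFast 27 LX27 LF27 = true := by decide +kernel

/-- the root matrix -/
def LF28 : SMat := [((0, 0), [(1, 0, 0)]), ((1, 1), [(1, 0, 0)]), ((2, 2), [(1, 0, 0)]), ((3, 3), [(1, 0, 0)]), ((4, 4), [(1, 0, 0)]), ((5, 5), [(1, 0, 0)]), ((6, 6), [(1, 0, 0)]), ((7, 7), [(1, 0, 0)]), ((8, 8), [(1, 0, 0)]), ((9, 9), [(1, 0, 0)]), ((10, 10), [(1, 0, 0)]), ((11, 11), [(1, 0, 0)]), ((12, 12), [(1, 0, 0)]), ((13, 13), [(1, 0, 0)]), ((14, 14), [(1, 0, 0)]), ((15, 15), [(1, 0, 0)]), ((16, 16), [(1, 0, 0)]), ((17, 17), [(1, 0, 0)]), ((18, 18), [(1, 0, 0)]), ((19, 19), [(1, 0, 0)]),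 ((20, 20), [(1, 0, 0)]), ((21, 21), [(1, 0, 0)]), ((22, 22), [(1, 0, 0)]), ((23, 23), [(1, 0, 0)]), ((24, 24), [(1, 0, 0)]), ((25, 25), [(1, 0, 0)]), ((26, 26), [(1, 0, 0)]), ((27, 27), [(1, 0, 0)]), ((28, 28), [(1, 0, 0)]), ((29, 29), [(1, 0, 0)]), ((30, 30), [(1, 0, 0)]), ((31, 31), [(1, 0, 0)]), ((32, 32), [(1, 0, 0)]), ((33, 33), [(1, 0, 0)]), ((34, 34), [(1, 0, 0)]), ((35, 35), [(1, 0, 0)]), ((36, 36), [(1, 0, 0)]), ((37, 37), [(1, 0, 0)]), ((38, 38), [(1, 0, 0)]), ((39, 39), [(1, 0, 0)]), ((40, 40), [(1, 0, 0)]), ((41, 41), [(1, 0, 0)]), ((42, 42), [(1, 0, 0)]), ((43, 43), [(1, 0, 0)]), ((44, 44), [(1, 0, 0)]), ((45, 45), [(1, 0, 0)]), ((46, 46), [(1, 0, 0)]), ((47, 47), [(1, 0, 0)]), ((48, 48), [(1, 0, 0)]), ((49, 49), [(1, 0, 0)]), ((50, 50), [(1, 0, 0)]), ((51, 51), [(1,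 0, 0)]), ((32, 0), [(1, 1, 0)]), ((32, 1), [(0, 1, 0)]), ((32, 2), [(-1, 1, 0)]), ((32, 3), [(1, 1, 0)]), ((0, 23), [(0, 1, 0)]), ((1, 23), [(1, 1, 0)]), ((2, 23), [(2, 1, 0)]), ((3, 23), [(0, 1, 0)]), ((32, 23), [(-1, 2, 0)]), ((7, 5), [(-1, 1, 0)]), ((9, 5), [(-1, 2, 0)]), ((9, 7), [(2, 1, 0)]), ((13, 11), [(1, 1, 0)]), ((15, 12), [(-1, 1, 0)]), ((17, 14), [(1, 1, 0)]), ((18, 16), [(-1, 1, 0)]), ((22, 19), [(-1, 1, 0)]), ((27, 19), [(-1, 2, 0)]), ((24, 21), [(1, 1, 0)]), ((29, 21), [(1, 2, 0)]), ((27, 22), [(2, 1, 0)]), ((29, 24), [(2, 1, 0)]), ((31, 26), [(-1, 1, 0)]), ((34, 26), [(1, 2, 0)]), ((33, 28), [(-1, 1, 0)]), ((36, 28), [(-1, 2, 0)]), ((34, 31), [(-2, 1, 0)]), ((36, 33), [(2, 1, 0)]), ((39, 37), [(1, 1, 0)]), ((41, 38), [(-1, 1, 0)]), ((43, 40), [(1, 1, 0)]), ((44,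 42), [(-1, 1, 0)]), ((48, 46), [(-1, 1, 0)]), ((50, 46), [(-1, 2, 0)]), ((50, 48), [(2, 1, 0)])]
/-- its block -/
def LX28 : SMat := [((0, 0), [(1, 0, 0)]), ((1, 1), [(1, 0, 0)]), ((2, 2), [(1, 0, 0)]), ((3, 3), [(1, 0, 0)]), ((4, 4), [(1, 0, 0)]), ((5, 5), [(1, 0, 0)]), ((6, 6), [(1, 0, 0)]), ((7, 7), [(1, 0, 0)]), ((8, 8), [(1, 0, 0)]), ((9, 9), [(1, 0, 0)]), ((10, 10), [(1, 0, 0)]), ((11, 11), [(1, 0, 0)]), ((12, 12), [(1, 0, 0)]), ((13, 13), [(1, 0, 0)]), ((14, 14), [(1, 0, 0)]), ((15, 15), [(1, 0, 0)]), ((16, 16), [(1, 0, 0)]), ((17, 17), [(1, 0, 0)]), ((18, 18), [(1, 0, 0)]), ((19, 19), [(1, 0, 0)]), ((20, 20), [(1, 0, 0)]), ((21, 21), [(1, 0, 0)]), ((22, 22), [(1, 0, 0)]), ((23, 23), [(1, 0, 0)]), ((24, 24), [(1, 0, 0)]), ((25, 25), [(1, 0, 0)]), ((15, 0), [(1, 1, 0)]), ((15,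 1), [(0, 1, 0)]), ((0, 12), [(0, 1, 0)]), ((1, 12), [(1, 1, 0)]), ((15, 12), [(-1, 2, 0)]), ((5, 3), [(1, 1, 0)]), ((7, 4), [(-1, 1, 0)]), ((9, 6), [(1, 1, 0)]), ((10, 8), [(-1, 1, 0)]), ((19, 17), [(1, 1, 0)]), ((21, 18), [(-1, 1, 0)]), ((23, 20), [(1, 1, 0)]), ((24, 22), [(-1, 1, 0)])]
theorem f4_root28 : rootFast 28 LX28 LF28 = true := by decide +kernel

/-- the root matrix -/
def LF29 : SMat := [((0, 0), [(1, 0, 0)]), ((1, 1), [(1, 0, 0)]), ((2, 2), [(1, 0, 0)]), ((3, 3), [(1, 0, 0)]), ((4, 4), [(1, 0, 0)]), ((5, 5), [(1, 0, 0)]), ((6, 6), [(1, 0, 0)]), ((7, 7), [(1, 0, 0)]), ((8, 8), [(1, 0, 0)]), ((9, 9), [(1, 0, 0)]), ((10, 10), [(1, 0, 0)]), ((11, 11), [(1, 0, 0)]), ((12, 12), [(1, 0, 0)]), ((13, 13), [(1, 0, 0)]), ((14, 14), [(1, 0, 0)]), ((15, 15), [(1, 0, 0)]), ((16,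 16), [(1, 0, 0)]), ((17, 17), [(1, 0, 0)]), ((18, 18), [(1, 0, 0)]), ((19, 19), [(1, 0, 0)]), ((20, 20), [(1, 0, 0)]), ((21, 21), [(1, 0, 0)]), ((22, 22), [(1, 0, 0)]), ((23, 23), [(1, 0, 0)]), ((24, 24), [(1, 0, 0)]), ((25, 25), [(1, 0, 0)]), ((26, 26), [(1, 0, 0)]), ((27, 27), [(1, 0, 0)]), ((28, 28), [(1, 0, 0)]), ((29, 29), [(1, 0, 0)]), ((30, 30), [(1, 0, 0)]), ((31, 31), [(1, 0, 0)]), ((32, 32), [(1, 0, 0)]), ((33, 33), [(1, 0, 0)]), ((34, 34), [(1, 0, 0)]), ((35, 35), [(1, 0, 0)]), ((36, 36), [(1, 0, 0)]), ((37, 37), [(1, 0, 0)]), ((38, 38), [(1, 0, 0)]), ((39, 39), [(1, 0, 0)]), ((40, 40), [(1, 0, 0)]), ((41, 41), [(1, 0, 0)]), ((42, 42), [(1, 0, 0)]), ((43, 43), [(1, 0, 0)]), ((44, 44), [(1, 0, 0)]), ((45, 45), [(1, 0, 0)]), ((46, 46), [(1, 0, 0)]), ((47, 47), [(1, 0, 0)]),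 ((48, 48), [(1, 0, 0)]), ((49, 49), [(1, 0, 0)]), ((50, 50), [(1, 0, 0)]), ((51, 51), [(1, 0, 0)]), ((33, 0), [(1, 1, 0)]), ((33, 1), [(0, 1, 0)]), ((33, 2), [(0, 1, 0)]), ((33, 3), [(-1, 1, 0)]), ((0, 22), [(0, 1, 0)]), ((1, 22), [(1, 1, 0)]), ((2, 22), [(2, 1, 0)]), ((3, 22), [(2, 1, 0)]), ((33, 22), [(-1, 2, 0)]), ((7, 4), [(-1, 1, 0)]), ((10, 4), [(1, 2, 0)]), ((10, 7), [(-2, 1, 0)]), ((14, 11), [(-1, 1, 0)]), ((16, 12), [(1, 1, 0)]), ((17, 13), [(1, 1, 0)]), ((18, 15), [(-1, 1, 0)]), ((23, 19), [(1, 1, 0)]), ((28, 19), [(1, 2, 0)]), ((24, 20), [(1, 1, 0)]), ((30, 20), [(1, 2, 0)]), ((28, 23), [(2, 1, 0)]), ((30, 24), [(2, 1, 0)]), ((31, 25), [(-1, 1, 0)]), ((35, 25), [(1, 2, 0)]), ((32, 27), [(-1, 1, 0)]), ((36, 27), [(1, 2, 0)]), ((35, 31), [(-2, 1, 0)]), ((36, 32), [(-2,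 1, 0)]), ((40, 37), [(1, 1, 0)]), ((42, 38), [(-1, 1, 0)]), ((43, 39), [(-1, 1, 0)]), ((44, 41), [(1, 1, 0)]), ((48, 45), [(1, 1, 0)]), ((51, 45), [(1, 2, 0)]), ((51, 48), [(2, 1, 0)])]
/-- its block -/
def LX29 : SMat := [((0, 0), [(1, 0, 0)]), ((1, 1), [(1, 0, 0)]), ((2, 2), [(1, 0, 0)]), ((3, 3), [(1, 0, 0)]), ((4, 4), [(1, 0, 0)]), ((5, 5), [(1, 0, 0)]), ((6, 6), [(1, 0, 0)]), ((7, 7), [(1, 0, 0)]), ((8, 8), [(1, 0, 0)]), ((9, 9), [(1, 0, 0)]), ((10, 10), [(1, 0, 0)]), ((11, 11), [(1, 0, 0)]), ((12, 12), [(1, 0, 0)]), ((13, 13), [(1, 0, 0)]), ((14, 14), [(1, 0, 0)]), ((15, 15), [(1, 0, 0)]), ((16, 16), [(1, 0, 0)]), ((17, 17), [(1, 0, 0)]), ((18, 18), [(1, 0, 0)]), ((19, 19), [(1, 0, 0)]), ((20, 20), [(1, 0, 0)]), ((21, 21), [(1, 0, 0)]), ((22, 22), [(1, 0, 0)]), ((23, 23),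 [(1, 0, 0)]), ((24, 24), [(1, 0, 0)]), ((25, 25), [(1, 0, 0)]), ((16, 0), [(1, 1, 0)]), ((16, 1), [(0, 1, 0)]), ((0, 11), [(0, 1, 0)]), ((1, 11), [(1, 1, 0)]), ((16, 11), [(-1, 2, 0)]), ((6, 3), [(-1, 1, 0)]), ((8, 4), [(1, 1, 0)]), ((9, 5), [(1, 1, 0)]), ((10, 7), [(-1, 1, 0)]), ((20, 17), [(1, 1, 0)]), ((22, 18), [(-1, 1, 0)]), ((23, 19), [(-1, 1, 0)]), ((24, 21), [(1, 1, 0)])]
theorem f4_root29 : rootFast 29 LX29 LF29 = true := by decide +kernel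

/-- the root matrix -/
def LF30 : SMat := [((0, 0), [(1, 0, 0)]), ((1, 1), [(1, 0, 0)]), ((2, 2), [(1, 0, 0)]), ((3, 3), [(1, 0, 0)]), ((4, 4), [(1, 0, 0)]), ((5, 5), [(1, 0, 0)]), ((6, 6), [(1, 0, 0)]), ((7, 7), [(1, 0, 0)]), ((8, 8), [(1, 0, 0)]), ((9, 9), [(1, 0, 0)]), ((10, 10), [(1, 0, 0)]), ((11, 11), [(1, 0, 0)]), ((12, 12), [(1, 0, 0)]), ((13, 13), [(1, 0, 0)]), ((14, 14), [(1, 0, 0)]), ((15, 15), [(1, 0, 0)]), ((16, 16), [(1, 0, 0)]), ((17, 17), [(1, 0, 0)]), ((18, 18), [(1, 0, 0)]), ((19, 19), [(1, 0, 0)]), ((20, 20), [(1, 0, 0)]), ((21, 21), [(1, 0, 0)]), ((22, 22), [(1, 0, 0)]), ((23, 23), [(1, 0, 0)]), ((24, 24), [(1, 0, 0)]), ((25, 25), [(1, 0, 0)]), ((26, 26), [(1, 0, 0)]), ((27, 27), [(1, 0, 0)]), ((28, 28), [(1, 0, 0)]), ((29, 29), [(1, 0, 0)]), ((30, 30), [(1,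 0, 0)]), ((31, 31), [(1, 0, 0)]), ((32, 32), [(1, 0, 0)]), ((33, 33), [(1, 0, 0)]), ((34, 34), [(1, 0, 0)]), ((35, 35), [(1, 0, 0)]), ((36, 36), [(1, 0, 0)]), ((37, 37), [(1, 0, 0)]), ((38, 38), [(1, 0, 0)]), ((39, 39), [(1, 0, 0)]), ((40, 40), [(1, 0, 0)]), ((41, 41), [(1, 0, 0)]), ((42, 42), [(1, 0, 0)]), ((43, 43), [(1, 0, 0)]), ((44, 44), [(1, 0, 0)]), ((45, 45), [(1, 0, 0)]), ((46, 46), [(1, 0, 0)]), ((47, 47), [(1, 0, 0)]), ((48, 48), [(1, 0, 0)]), ((49, 49), [(1, 0, 0)]), ((50, 50), [(1, 0, 0)]), ((51, 51), [(1, 0, 0)]), ((34, 0), [(2, 1, 0)]), ((34, 1), [(-2, 1, 0)]), ((34, 2), [(0, 1, 0)]), ((34, 3), [(1, 1, 0)]), ((0, 21), [(0, 1, 0)]), ((1, 21), [(1, 1, 0)]), ((2, 21), [(1, 1, 0)]), ((3, 21), [(0, 1, 0)]), ((34, 21), [(-1, 2, 0)]), ((8, 5), [(1, 1, 0)]), ((9, 6), [(1,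 1, 0)]), ((15, 11), [(-1, 1, 0)]), ((18, 14), [(-1, 1, 0)]), ((25, 19), [(-1, 1, 0)]), ((27, 20), [(1, 1, 0)]), ((31, 23), [(1, 1, 0)]), ((32, 24), [(-1, 1, 0)]), ((35, 28), [(-1, 1, 0)]), ((36, 30), [(1, 1, 0)]), ((41, 37), [(1, 1, 0)]), ((44, 40), [(1, 1, 0)]), ((49, 46), [(-1, 1, 0)]), ((50, 47), [(-1, 1, 0)])]
/-- its block -/
def LX30 : SMat := [((0, 0), [(1, 0, 0)]), ((1, 1), [(1, 0, 0)]), ((2, 2), [(1, 0, 0)]), ((3, 3), [(1, 0, 0)]), ((4, 4), [(1, 0, 0)]), ((5, 5), [(1, 0, 0)]), ((6, 6), [(1, 0, 0)]), ((7, 7), [(1, 0, 0)]), ((8, 8), [(1, 0, 0)]), ((9, 9), [(1, 0, 0)]), ((10, 10), [(1, 0, 0)]), ((11, 11), [(1, 0, 0)]), ((12, 12), [(1, 0, 0)]), ((13, 13), [(1, 0, 0)]), ((14, 14), [(1, 0, 0)]), ((15, 15), [(1, 0, 0)]), ((16, 16), [(1, 0, 0)]), ((17, 17), [(1, 0, 0)]), ((18,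 18), [(1, 0, 0)]), ((19, 19), [(1, 0, 0)]), ((20, 20), [(1, 0, 0)]), ((21, 21), [(1, 0, 0)]), ((22, 22), [(1, 0, 0)]), ((23, 23), [(1, 0, 0)]), ((24, 24), [(1, 0, 0)]), ((25, 25), [(1, 0, 0)]), ((7, 3), [(-1, 1, 0)]), ((10, 6), [(-1, 1, 0)]), ((14, 12), [(1, 1, 0)]), ((15, 13), [(-1, 1, 0)]), ((21, 17), [(1, 1, 0)]), ((24, 20), [(1, 1, 0)])]
theorem f4_root30 : rootFast 30 LX30 LF30 = true := by decide +kernel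

/-- the root matrix -/
def LF31 : SMat := [((0, 0), [(1, 0, 0)]), ((1, 1), [(1, 0, 0)]), ((2, 2), [(1, 0, 0)]), ((3, 3), [(1, 0, 0)]), ((4, 4), [(1, 0, 0)]), ((5, 5), [(1, 0, 0)]), ((6, 6), [(1, 0, 0)]), ((7, 7), [(1, 0, 0)]), ((8, 8), [(1, 0, 0)]), ((9, 9), [(1, 0, 0)]), ((10, 10), [(1, 0, 0)]), ((11, 11), [(1, 0, 0)]), ((12, 12), [(1, 0, 0)]), ((13, 13), [(1, 0, 0)]), ((14, 14), [(1, 0, 0)]), ((15, 15), [(1, 0, 0)]), ((16, 16), [(1, 0, 0)]), ((17, 17), [(1, 0, 0)]), ((18, 18), [(1, 0, 0)]), ((19, 19), [(1, 0, 0)]), ((20, 20), [(1, 0, 0)]), ((21, 21), [(1, 0, 0)]), ((22, 22), [(1, 0, 0)]), ((23, 23), [(1, 0, 0)]), ((24, 24), [(1, 0, 0)]), ((25, 25), [(1, 0, 0)]), ((26, 26), [(1, 0, 0)]), ((27, 27), [(1, 0, 0)]), ((28, 28), [(1, 0, 0)]), ((29, 29), [(1, 0, 0)]), ((30, 30), [(1,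 0, 0)]), ((31, 31), [(1, 0, 0)]), ((32, 32), [(1, 0, 0)]), ((33, 33), [(1, 0, 0)]), ((34, 34), [(1, 0, 0)]), ((35, 35), [(1, 0, 0)]), ((36, 36), [(1, 0, 0)]), ((37, 37), [(1, 0, 0)]), ((38, 38), [(1, 0, 0)]), ((39, 39), [(1, 0, 0)]), ((40, 40), [(1, 0, 0)]), ((41, 41), [(1, 0, 0)]), ((42, 42), [(1, 0, 0)]), ((43, 43), [(1, 0, 0)]), ((44, 44), [(1, 0, 0)]), ((45, 45), [(1, 0, 0)]), ((46, 46), [(1, 0, 0)]), ((47, 47), [(1, 0, 0)]), ((48, 48), [(1, 0, 0)]), ((49, 49), [(1, 0, 0)]), ((50, 50), [(1, 0, 0)]), ((51, 51), [(1, 0, 0)]), ((35, 0), [(2, 1, 0)]), ((35, 1), [(-2, 1, 0)]), ((35, 2), [(1, 1, 0)]), ((35, 3), [(-1, 1, 0)]), ((0, 20), [(0, 1, 0)]), ((1, 20), [(1, 1, 0)]), ((2, 20), [(1, 1, 0)]), ((3, 20), [(1, 1, 0)]), ((35, 20), [(-1, 2, 0)]), ((8, 4), [(1, 1, 0)]), ((10, 6), [(-1,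 1, 0)]), ((16, 11), [(1, 1, 0)]), ((18, 13), [(-1, 1, 0)]), ((26, 19), [(1, 1, 0)]), ((28, 21), [(1, 1, 0)]), ((31, 22), [(1, 1, 0)]), ((33, 24), [(-1, 1, 0)]), ((34, 27), [(-1, 1, 0)]), ((36, 29), [(-1, 1, 0)]), ((42, 37), [(1, 1, 0)]), ((44, 39), [(-1, 1, 0)]), ((49, 45), [(1, 1, 0)]), ((51, 47), [(-1, 1, 0)])]
/-- its block -/
def LX31 : SMat := [((0, 0), [(1, 0, 0)]), ((1, 1), [(1, 0, 0)]), ((2, 2), [(1, 0, 0)]), ((3, 3), [(1, 0, 0)]), ((4, 4), [(1, 0, 0)]), ((5, 5), [(1, 0, 0)]), ((6, 6), [(1, 0, 0)]), ((7, 7), [(1, 0, 0)]), ((8, 8), [(1, 0, 0)]), ((9, 9), [(1, 0, 0)]), ((10, 10), [(1, 0, 0)]), ((11, 11), [(1, 0, 0)]), ((12, 12), [(1, 0, 0)]), ((13, 13), [(1, 0, 0)]), ((14, 14), [(1, 0, 0)]), ((15, 15), [(1, 0, 0)]), ((16, 16), [(1, 0, 0)]), ((17, 17), [(1, 0, 0)]), ((18, 18),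 [(1, 0, 0)]), ((19, 19), [(1, 0, 0)]), ((20, 20), [(1, 0, 0)]), ((21, 21), [(1, 0, 0)]), ((22, 22), [(1, 0, 0)]), ((23, 23), [(1, 0, 0)]), ((24, 24), [(1, 0, 0)]), ((25, 25), [(1, 0, 0)]), ((8, 3), [(1, 1, 0)]), ((10, 5), [(-1, 1, 0)]), ((14, 11), [(1, 1, 0)]), ((16, 13), [(-1, 1, 0)]), ((22, 17), [(1, 1, 0)]), ((24, 19), [(-1, 1, 0)])]
theorem f4_root31 : rootFast 31 LX31 LF31 = true := by decide +kernel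

/-- the root matrix -/
def LF32 : SMat := [((0, 0), [(1, 0, 0)]), ((1, 1), [(1, 0, 0)]), ((2, 2), [(1, 0, 0)]), ((3, 3), [(1, 0, 0)]), ((4, 4), [(1, 0, 0)]), ((5, 5), [(1, 0, 0)]), ((6, 6), [(1, 0, 0)]), ((7, 7), [(1, 0, 0)]), ((8, 8), [(1, 0, 0)]), ((9, 9), [(1, 0, 0)]), ((10, 10), [(1, 0, 0)]), ((11, 11), [(1, 0, 0)]), ((12, 12), [(1, 0, 0)]), ((13, 13), [(1, 0, 0)]), ((14, 14), [(1, 0, 0)]), ((15, 15), [(1, 0, 0)]), ((16, 16), [(1, 0, 0)]), ((17, 17), [(1, 0, 0)]), ((18, 18), [(1, 0, 0)]), ((19, 19), [(1, 0, 0)]), ((20, 20), [(1, 0, 0)]), ((21, 21), [(1, 0, 0)]), ((22, 22), [(1, 0, 0)]), ((23, 23), [(1, 0, 0)]), ((24, 24), [(1, 0, 0)]), ((25, 25), [(1, 0, 0)]), ((26, 26), [(1, 0, 0)]), ((27, 27), [(1, 0, 0)]), ((28, 28), [(1, 0, 0)]), ((29, 29), [(1, 0, 0)]), ((30, 30), [(1,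 0, 0)]), ((31, 31), [(1, 0, 0)]), ((32, 32), [(1, 0, 0)]), ((33, 33), [(1, 0, 0)]), ((34, 34), [(1, 0, 0)]), ((35, 35), [(1, 0, 0)]), ((36, 36), [(1, 0, 0)]), ((37, 37), [(1, 0, 0)]), ((38, 38), [(1, 0, 0)]), ((39, 39), [(1, 0, 0)]), ((40, 40), [(1, 0, 0)]), ((41, 41), [(1, 0, 0)]), ((42, 42), [(1, 0, 0)]), ((43, 43), [(1, 0, 0)]), ((44, 44), [(1, 0, 0)]), ((45, 45), [(1, 0, 0)]), ((46, 46), [(1, 0, 0)]), ((47, 47), [(1, 0, 0)]), ((48, 48), [(1, 0, 0)]), ((49, 49), [(1, 0, 0)]), ((50, 50), [(1, 0, 0)]), ((51, 51), [(1, 0, 0)]), ((36, 0), [(2, 1, 0)]), ((36, 1), [(0, 1, 0)]), ((36, 2), [(-1, 1, 0)]), ((36, 3), [(0, 1, 0)]), ((0, 19), [(0, 1, 0)]), ((1, 19), [(1, 1, 0)]), ((2, 19), [(2, 1, 0)]), ((3, 19), [(1, 1, 0)]), ((36, 19), [(-1, 2, 0)]), ((9, 4), [(-1, 1, 0)]), ((10, 5), [(-1,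 1, 0)]), ((17, 11), [(-1, 1, 0)]), ((18, 12), [(-1, 1, 0)]), ((29, 20), [(1, 1, 0)]), ((30, 21), [(-1, 1, 0)]), ((32, 22), [(1, 1, 0)]), ((33, 23), [(-1, 1, 0)]), ((34, 25), [(1, 1, 0)]), ((35, 26), [(-1, 1, 0)]), ((43, 37), [(1, 1, 0)]), ((44, 38), [(1, 1, 0)]), ((50, 45), [(1, 1, 0)]), ((51, 46), [(1, 1, 0)])]
/-- its block -/
def LX32 : SMat := [((0, 0), [(1, 0, 0)]), ((1, 1), [(1, 0, 0)]), ((2, 2), [(1, 0, 0)]), ((3, 3), [(1, 0, 0)]), ((4, 4), [(1, 0, 0)]), ((5, 5), [(1, 0, 0)]), ((6, 6), [(1, 0, 0)]), ((7, 7), [(1, 0, 0)]), ((8, 8), [(1, 0, 0)]), ((9, 9), [(1, 0, 0)]), ((10, 10), [(1, 0, 0)]), ((11, 11), [(1, 0, 0)]), ((12, 12), [(1, 0, 0)]), ((13, 13), [(1, 0, 0)]), ((14, 14), [(1, 0, 0)]), ((15, 15), [(1, 0, 0)]), ((16, 16), [(1, 0, 0)]), ((17, 17), [(1, 0, 0)]), ((18, 18),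 [(1, 0, 0)]), ((19, 19), [(1, 0, 0)]), ((20, 20), [(1, 0, 0)]), ((21, 21), [(1, 0, 0)]), ((22, 22), [(1, 0, 0)]), ((23, 23), [(1, 0, 0)]), ((24, 24), [(1, 0, 0)]), ((25, 25), [(1, 0, 0)]), ((9, 3), [(-1, 1, 0)]), ((10, 4), [(-1, 1, 0)]), ((15, 11), [(1, 1, 0)]), ((16, 12), [(-1, 1, 0)]), ((23, 17), [(1, 1, 0)]), ((24, 18), [(1, 1, 0)])]
theorem f4_root32 : rootFast 32 LX32 LF32 = true := by decide +kernel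

/-- the root matrix -/
def LF33 : SMat := [((0, 0), [(1, 0, 0)]), ((1, 1), [(1, 0, 0)]), ((2, 2), [(1, 0, 0)]), ((3, 3), [(1, 0, 0)]), ((4, 4), [(1, 0, 0)]), ((5, 5), [(1, 0, 0)]), ((6, 6), [(1, 0, 0)]), ((7, 7), [(1, 0, 0)]), ((8, 8), [(1, 0, 0)]), ((9, 9), [(1, 0, 0)]), ((10, 10), [(1, 0, 0)]), ((11, 11), [(1, 0, 0)]), ((12, 12), [(1, 0, 0)]), ((13, 13), [(1, 0, 0)]), ((14, 14), [(1, 0, 0)]), ((15, 15), [(1, 0, 0)]), ((16, 16), [(1, 0, 0)]), ((17, 17), [(1, 0, 0)]), ((18, 18), [(1, 0, 0)]), ((19, 19), [(1, 0, 0)]), ((20, 20), [(1, 0, 0)]), ((21, 21), [(1, 0, 0)]), ((22, 22), [(1, 0, 0)]), ((23, 23), [(1, 0, 0)]), ((24, 24), [(1, 0, 0)]), ((25, 25), [(1, 0, 0)]), ((26, 26), [(1, 0, 0)]), ((27, 27), [(1, 0, 0)]), ((28, 28), [(1, 0, 0)]), ((29, 29), [(1, 0, 0)]), ((30, 30), [(1,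 0, 0)]), ((31, 31), [(1, 0, 0)]), ((32, 32), [(1, 0, 0)]), ((33, 33), [(1, 0, 0)]), ((34, 34), [(1, 0, 0)]), ((35, 35), [(1, 0, 0)]), ((36, 36), [(1, 0, 0)]), ((37, 37), [(1, 0, 0)]), ((38, 38), [(1, 0, 0)]), ((39, 39), [(1, 0, 0)]), ((40, 40), [(1, 0, 0)]), ((41, 41), [(1, 0, 0)]), ((42, 42), [(1, 0, 0)]), ((43, 43), [(1, 0, 0)]), ((44, 44), [(1, 0, 0)]), ((45, 45), [(1, 0, 0)]), ((46, 46), [(1, 0, 0)]), ((47, 47), [(1, 0, 0)]), ((48, 48), [(1, 0, 0)]), ((49, 49), [(1, 0, 0)]), ((50, 50), [(1, 0, 0)]), ((51, 51), [(1, 0, 0)]), ((37, 0), [(-2, 1, 0)]), ((37, 1), [(1, 1, 0)]), ((37, 2), [(0, 1, 0)]), ((37, 3), [(0, 1, 0)]), ((0, 18), [(1, 1, 0)]), ((1, 18), [(0, 1, 0)]), ((2, 18), [(0, 1, 0)]), ((3, 18), [(0, 1, 0)]), ((37, 18), [(-1, 2, 0)]), ((11, 7), [(-1, 1, 0)]), ((12, 8), [(-1,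 1, 0)]), ((19, 8), [(-1, 2, 0)]), ((13, 9), [(-1, 1, 0)]), ((20, 9), [(-1, 2, 0)]), ((14, 10), [(-1, 1, 0)]), ((21, 10), [(-1, 2, 0)]), ((19, 12), [(2, 1, 0)]), ((20, 13), [(2, 1, 0)]), ((21, 14), [(2, 1, 0)]), ((22, 15), [(1, 1, 0)]), ((23, 16), [(1, 1, 0)]), ((24, 17), [(1, 1, 0)]), ((38, 31), [(-1, 1, 0)]), ((39, 32), [(-1, 1, 0)]), ((40, 33), [(-1, 1, 0)]), ((41, 34), [(-1, 1, 0)]), ((45, 34), [(-1, 2, 0)]), ((42, 35), [(-1, 1, 0)]), ((46, 35), [(-1, 2, 0)]), ((43, 36), [(-1, 1, 0)]), ((47, 36), [(-1, 2, 0)]), ((45, 41), [(2, 1, 0)]), ((46, 42), [(2, 1, 0)]), ((47, 43), [(2, 1, 0)]), ((48, 44), [(1, 1, 0)])]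
/-- its block -/
def LX33 : SMat := [((0, 0), [(1, 0, 0)]), ((1, 1), [(1, 0, 0)]), ((2, 2), [(1, 0, 0)]), ((3, 3), [(1, 0, 0)]), ((4, 4), [(1, 0, 0)]), ((5, 5), [(1, 0, 0)]), ((6, 6), [(1, 0, 0)]), ((7, 7), [(1, 0, 0)]), ((8, 8), [(1, 0, 0)]), ((9, 9), [(1, 0, 0)]), ((10, 10), [(1, 0, 0)]), ((11, 11), [(1, 0, 0)]), ((12, 12), [(1, 0, 0)]), ((13, 13), [(1, 0, 0)]), ((14, 14), [(1, 0, 0)]), ((15, 15), [(1, 0, 0)]), ((16, 16), [(1, 0, 0)]), ((17, 17), [(1, 0, 0)]), ((18, 18), [(1, 0, 0)]), ((19, 19), [(1, 0, 0)]), ((20, 20), [(1, 0, 0)]), ((21, 21), [(1, 0, 0)]), ((22, 22), [(1, 0, 0)]), ((23, 23), [(1, 0, 0)]), ((24, 24), [(1, 0, 0)]), ((25, 25), [(1, 0, 0)]), ((17, 0), [(-2, 1, 0)]), ((17, 1), [(1, 1, 0)]), ((0, 10), [(1, 1, 0)]), ((1, 10), [(0, 1, 0)]), ((17, 10), [(-1, 2, 0)]),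 ((3, 2), [(-1, 1, 0)]), ((11, 7), [(1, 1, 0)]), ((12, 8), [(1, 1, 0)]), ((13, 9), [(1, 1, 0)]), ((18, 14), [(-1, 1, 0)]), ((19, 15), [(-1, 1, 0)]), ((20, 16), [(-1, 1, 0)]), ((25, 24), [(1, 1, 0)])]
theorem f4_root33 : rootFast 33 LX33 LF33 = true := by decide +kernel

/-- the root matrix -/
def LF34 : SMat := [((0, 0), [(1, 0, 0)]), ((1, 1), [(1, 0, 0)]), ((2, 2), [(1, 0, 0)]), ((3, 3), [(1, 0, 0)]), ((4, 4), [(1, 0, 0)]), ((5, 5), [(1, 0, 0)]), ((6, 6), [(1, 0, 0)]), ((7, 7), [(1, 0, 0)]), ((8, 8), [(1, 0, 0)]), ((9, 9), [(1, 0, 0)]), ((10, 10), [(1, 0, 0)]), ((11, 11), [(1, 0, 0)]), ((12, 12), [(1, 0, 0)]), ((13, 13), [(1, 0, 0)]), ((14, 14), [(1, 0, 0)]), ((15, 15), [(1, 0, 0)]), ((16, 16), [(1, 0, 0)]), ((17, 17), [(1, 0, 0)]), ((18, 18), [(1, 0, 0)]), ((19, 19), [(1, 0, 0)]),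 ((20, 20), [(1, 0, 0)]), ((21, 21), [(1, 0, 0)]), ((22, 22), [(1, 0, 0)]), ((23, 23), [(1, 0, 0)]), ((24, 24), [(1, 0, 0)]), ((25, 25), [(1, 0, 0)]), ((26, 26), [(1, 0, 0)]), ((27, 27), [(1, 0, 0)]), ((28, 28), [(1, 0, 0)]), ((29, 29), [(1, 0, 0)]), ((30, 30), [(1, 0, 0)]), ((31, 31), [(1, 0, 0)]), ((32, 32), [(1, 0, 0)]), ((33, 33), [(1, 0, 0)]), ((34, 34), [(1, 0, 0)]), ((35, 35), [(1, 0, 0)]), ((36, 36), [(1, 0, 0)]), ((37, 37), [(1, 0, 0)]), ((38, 38), [(1, 0, 0)]), ((39, 39), [(1, 0, 0)]), ((40, 40), [(1, 0, 0)]), ((41, 41), [(1, 0, 0)]), ((42, 42), [(1, 0, 0)]), ((43, 43), [(1, 0, 0)]), ((44, 44), [(1, 0, 0)]), ((45, 45), [(1, 0, 0)]), ((46, 46), [(1, 0, 0)]), ((47, 47), [(1, 0, 0)]), ((48, 48), [(1, 0, 0)]), ((49, 49), [(1, 0, 0)]), ((50, 50), [(1, 0, 0)]), ((51, 51), [(1,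 0, 0)]), ((38, 0), [(-1, 1, 0)]), ((38, 1), [(-1, 1, 0)]), ((38, 2), [(1, 1, 0)]), ((38, 3), [(0, 1, 0)]), ((0, 17), [(1, 1, 0)]), ((1, 17), [(1, 1, 0)]), ((2, 17), [(0, 1, 0)]), ((3, 17), [(0, 1, 0)]), ((38, 17), [(-1, 2, 0)]), ((11, 6), [(-1, 1, 0)]), ((19, 6), [(-1, 2, 0)]), ((12, 7), [(-1, 1, 0)]), ((15, 9), [(1, 1, 0)]), ((25, 9), [(1, 2, 0)]), ((16, 10), [(1, 1, 0)]), ((26, 10), [(1, 2, 0)]), ((19, 11), [(2, 1, 0)]), ((22, 13), [(-1, 1, 0)]), ((23, 14), [(-1, 1, 0)]), ((25, 15), [(2, 1, 0)]), ((26, 16), [(2, 1, 0)]), ((31, 18), [(1, 1, 0)]), ((37, 24), [(-1, 1, 0)]), ((39, 29), [(-1, 1, 0)]), ((45, 29), [(1, 2, 0)]), ((40, 30), [(-1, 1, 0)]), ((46, 30), [(1, 2, 0)]), ((41, 32), [(1, 1, 0)]), ((42, 33), [(1, 1, 0)]), ((44, 36), [(-1, 1, 0)]), ((49, 36), [(-1, 2, 0)]), ((45,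 39), [(-2, 1, 0)]), ((46, 40), [(-2, 1, 0)]), ((48, 43), [(1, 1, 0)]), ((49, 44), [(2, 1, 0)])]
/-- its block -/
def LX34 : SMat := [((0, 0), [(1, 0, 0)]), ((1, 1), [(1, 0, 0)]), ((2, 2), [(1, 0, 0)]), ((3, 3), [(1, 0, 0)]), ((4, 4), [(1, 0, 0)]), ((5, 5), [(1, 0, 0)]), ((6, 6), [(1, 0, 0)]), ((7, 7), [(1, 0, 0)]), ((8, 8), [(1, 0, 0)]), ((9, 9), [(1, 0, 0)]), ((10, 10), [(1, 0, 0)]), ((11, 11), [(1, 0, 0)]), ((12, 12), [(1, 0, 0)]), ((13, 13), [(1, 0, 0)]), ((14, 14), [(1, 0, 0)]), ((15, 15), [(1, 0, 0)]), ((16, 16), [(1, 0, 0)]), ((17, 17), [(1, 0, 0)]), ((18, 18), [(1, 0, 0)]), ((19, 19), [(1, 0, 0)]), ((20, 20), [(1, 0, 0)]), ((21, 21), [(1, 0, 0)]), ((22, 22), [(1, 0, 0)]), ((23, 23), [(1, 0, 0)]), ((24, 24), [(1, 0, 0)]), ((25, 25), [(1, 0, 0)]), ((18, 0), [(-1, 1, 0)]), ((18,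 1), [(-1, 1, 0)]), ((0, 9), [(1, 1, 0)]), ((1, 9), [(1, 1, 0)]), ((18, 9), [(-1, 2, 0)]), ((4, 2), [(-1, 1, 0)]), ((11, 5), [(-1, 1, 0)]), ((12, 6), [(-1, 1, 0)]), ((14, 10), [(1, 1, 0)]), ((17, 13), [(-1, 1, 0)]), ((21, 15), [(1, 1, 0)]), ((22, 16), [(1, 1, 0)]), ((25, 23), [(1, 1, 0)])]
theorem f4_root34 : rootFast 34 LX34 LF34 = true := by decide +kernel

/-- the root matrix -/
def LF35 : SMat := [((0, 0), [(1, 0, 0)]), ((1, 1), [(1, 0, 0)]), ((2, 2), [(1, 0, 0)]), ((3, 3), [(1, 0, 0)]), ((4, 4), [(1, 0, 0)]), ((5, 5), [(1, 0, 0)]), ((6, 6), [(1, 0, 0)]), ((7, 7), [(1, 0, 0)]), ((8, 8), [(1, 0, 0)]), ((9, 9), [(1, 0, 0)]), ((10, 10), [(1, 0, 0)]), ((11, 11), [(1, 0, 0)]), ((12, 12), [(1, 0, 0)]), ((13, 13), [(1, 0, 0)]), ((14, 14), [(1, 0, 0)]), ((15, 15), [(1, 0, 0)]), ((16,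 16), [(1, 0, 0)]), ((17, 17), [(1, 0, 0)]), ((18, 18), [(1, 0, 0)]), ((19, 19), [(1, 0, 0)]), ((20, 20), [(1, 0, 0)]), ((21, 21), [(1, 0, 0)]), ((22, 22), [(1, 0, 0)]), ((23, 23), [(1, 0, 0)]), ((24, 24), [(1, 0, 0)]), ((25, 25), [(1, 0, 0)]), ((26, 26), [(1, 0, 0)]), ((27, 27), [(1, 0, 0)]), ((28, 28), [(1, 0, 0)]), ((29, 29), [(1, 0, 0)]), ((30, 30), [(1, 0, 0)]), ((31, 31), [(1, 0, 0)]), ((32, 32), [(1, 0, 0)]), ((33, 33), [(1, 0, 0)]), ((34, 34), [(1, 0, 0)]), ((35, 35), [(1, 0, 0)]), ((36, 36), [(1, 0, 0)]), ((37, 37), [(1, 0, 0)]), ((38, 38), [(1, 0, 0)]), ((39, 39), [(1, 0, 0)]), ((40, 40), [(1, 0, 0)]), ((41, 41), [(1, 0, 0)]), ((42, 42), [(1, 0, 0)]), ((43, 43), [(1, 0, 0)]), ((44, 44), [(1, 0, 0)]), ((45, 45), [(1, 0, 0)]), ((46, 46), [(1, 0, 0)]), ((47, 47), [(1, 0, 0)]),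 ((48, 48), [(1, 0, 0)]), ((49, 49), [(1, 0, 0)]), ((50, 50), [(1, 0, 0)]), ((51, 51), [(1, 0, 0)]), ((39, 0), [(-1, 1, 0)]), ((39, 1), [(1, 1, 0)]), ((39, 2), [(-1, 1, 0)]), ((39, 3), [(1, 1, 0)]), ((0, 16), [(1, 1, 0)]), ((1, 16), [(1, 1, 0)]), ((2, 16), [(2, 1, 0)]), ((3, 16), [(0, 1, 0)]), ((39, 16), [(-1, 2, 0)]), ((11, 5), [(-1, 1, 0)]), ((20, 5), [(1, 2, 0)]), ((13, 7), [(1, 1, 0)]), ((15, 8), [(1, 1, 0)]), ((27, 8), [(1, 2, 0)]), ((17, 10), [(-1, 1, 0)]), ((29, 10), [(-1, 2, 0)]), ((20, 11), [(-2, 1, 0)]), ((22, 12), [(-1, 1, 0)]), ((24, 14), [(1, 1, 0)]), ((27, 15), [(2, 1, 0)]), ((29, 17), [(2, 1, 0)]), ((32, 18), [(1, 1, 0)]), ((37, 23), [(-1, 1, 0)]), ((38, 26), [(-1, 1, 0)]), ((45, 26), [(-1, 2, 0)]), ((40, 28), [(-1, 1, 0)]), ((47, 28), [(1, 2, 0)]), ((41, 31), [(-1,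 1, 0)]), ((43, 33), [(1, 1, 0)]), ((44, 35), [(1, 1, 0)]), ((50, 35), [(1, 2, 0)]), ((45, 38), [(2, 1, 0)]), ((47, 40), [(-2, 1, 0)]), ((48, 42), [(-1, 1, 0)]), ((50, 44), [(2, 1, 0)])]
/-- its block -/
def LX35 : SMat := [((0, 0), [(1, 0, 0)]), ((1, 1), [(1, 0, 0)]), ((2, 2), [(1, 0, 0)]), ((3, 3), [(1, 0, 0)]), ((4, 4), [(1, 0, 0)]), ((5, 5), [(1, 0, 0)]), ((6, 6), [(1, 0, 0)]), ((7, 7), [(1, 0, 0)]), ((8, 8), [(1, 0, 0)]), ((9, 9), [(1, 0, 0)]), ((10, 10), [(1, 0, 0)]), ((11, 11), [(1, 0, 0)]), ((12, 12), [(1, 0, 0)]), ((13, 13), [(1, 0, 0)]), ((14, 14), [(1, 0, 0)]), ((15, 15), [(1, 0, 0)]), ((16, 16), [(1, 0, 0)]), ((17, 17), [(1, 0, 0)]), ((18, 18), [(1, 0, 0)]), ((19, 19), [(1, 0, 0)]), ((20, 20), [(1, 0, 0)]), ((21, 21), [(1, 0, 0)]), ((22, 22), [(1, 0, 0)]), ((23, 23),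 [(1, 0, 0)]), ((24, 24), [(1, 0, 0)]), ((25, 25), [(1, 0, 0)]), ((19, 0), [(-1, 1, 0)]), ((19, 1), [(1, 1, 0)]), ((0, 8), [(1, 1, 0)]), ((1, 8), [(1, 1, 0)]), ((19, 8), [(-1, 2, 0)]), ((5, 2), [(1, 1, 0)]), ((11, 4), [(-1, 1, 0)]), ((13, 6), [(1, 1, 0)]), ((15, 10), [(1, 1, 0)]), ((17, 12), [(-1, 1, 0)]), ((21, 14), [(-1, 1, 0)]), ((23, 16), [(1, 1, 0)]), ((25, 22), [(-1, 1, 0)])]
theorem f4_root35 : rootFast 35 LX35 LF35 = true := by decide +kernel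

theorem f4_rootsC : ∀ r, 24 ≤ r → r < 36 → ∃ X XF, rootFast r X XF = true := by
  intro r h1 h2
  interval_cases r
  · exact ⟨_, _, f4_root24⟩
  · exact ⟨_, _, f4_root25⟩
  · exact ⟨_, _, f4_root26⟩
  · exact ⟨_, _, f4_root27⟩
  · exact ⟨_, _, f4_root28⟩
  · exact ⟨_, _, f4_root29⟩
  · exact ⟨_, _, f4_root30⟩
  · exact ⟨_, _, f4_root31⟩
  · exact ⟨_, _, f4_root32⟩
  · exact ⟨_, _, f4_root33⟩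
  · exact ⟨_, _, f4_root34⟩
  · exact ⟨_, _, f4_root35⟩

end Cfsg.Agent.Lib.LieTwisted.Isogeny
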