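import Cfsg.Agent.Lib.LieTwisted.IsogenyF4Data

/-! Kernel checks for the roots 36..47 of the exceptional isogeny of F4. -/

set_option autoImplicit false
set_option maxRecDepth 100000
set_option Elab.async false

namespace Cfsg.Agent.Lib.LieTwisted.Isogeny

open Cfsg.Lie Sparse SparseRoot

/-- the root matrix -/
def LF36 : SMat := [((0, 0), [(1, 0, 0)]), ((1, 1), [(1, 0, 0)]), ((2, 2), [(1, 0, 0)]), ((3, 3), [(1, 0, 0)]), ((4, 4), [(1, 0, 0)]), ((5, 5), [(1, 0, 0)]), ((6, 6), [(1, 0, 0)]), ((7, 7), [(1, 0, 0)]), ((8, 8), [(1, 0, 0)]), ((9, 9), [(1, 0, 0)]), ((10, 10), [(1, 0, 0)]), ((11, 11), [(1, 0, 0)]), ((12, 12), [(1, 0, 0)]), ((13, 13), [(1, 0, 0)]), ((14, 14), [(1, 0, 0)]), ((15, 15), [(1, 0, 0)]), ((16, 16), [(1, 0, 0)]), ((17, 17), [(1, 0, 0)]), ((18, 18), [(1, 0, 0)]),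 ((19, 19), [(1, 0, 0)]), ((20, 20), [(1, 0, 0)]), ((21, 21), [(1, 0, 0)]), ((22, 22), [(1, 0, 0)]), ((23, 23), [(1, 0, 0)]), ((24, 24), [(1, 0, 0)]), ((25, 25), [(1, 0, 0)]), ((26, 26), [(1, 0, 0)]), ((27, 27), [(1, 0, 0)]), ((28, 28), [(1, 0, 0)]), ((29, 29), [(1, 0, 0)]), ((30, 30), [(1, 0, 0)]), ((31, 31), [(1, 0, 0)]), ((32, 32), [(1, 0, 0)]), ((33, 33), [(1, 0, 0)]), ((34, 34), [(1, 0, 0)]), ((35, 35), [(1, 0, 0)]), ((36, 36), [(1, 0, 0)]), ((37, 37), [(1, 0, 0)]), ((38, 38), [(1, 0, 0)]), ((39, 39), [(1, 0, 0)]), ((40, 40), [(1, 0, 0)]), ((41, 41), [(1, 0, 0)]), ((42, 42), [(1, 0, 0)]), ((43, 43), [(1, 0, 0)]), ((44, 44), [(1, 0, 0)]), ((45, 45), [(1, 0, 0)]), ((46, 46), [(1, 0, 0)]), ((47, 47), [(1, 0, 0)]), ((48, 48), [(1, 0, 0)]), ((49, 49), [(1, 0, 0)]), ((50, 50), [(1,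 0, 0)]), ((51, 51), [(1, 0, 0)]), ((40, 0), [(-1, 1, 0)]), ((40, 1), [(1, 1, 0)]), ((40, 2), [(0, 1, 0)]), ((40, 3), [(-1, 1, 0)]), ((0, 15), [(1, 1, 0)]), ((1, 15), [(1, 1, 0)]), ((2, 15), [(2, 1, 0)]), ((3, 15), [(2, 1, 0)]), ((40, 15), [(-1, 2, 0)]), ((11, 4), [(-1, 1, 0)]), ((21, 4), [(-1, 2, 0)]), ((14, 7), [(-1, 1, 0)]), ((16, 8), [(-1, 1, 0)]), ((28, 8), [(-1, 2, 0)]), ((17, 9), [(-1, 1, 0)]), ((30, 9), [(-1, 2, 0)]), ((21, 11), [(2, 1, 0)]), ((23, 12), [(1, 1, 0)]), ((24, 13), [(1, 1, 0)]), ((28, 16), [(2, 1, 0)]), ((30, 17), [(2, 1, 0)]), ((33, 18), [(1, 1, 0)]), ((37, 22), [(-1, 1, 0)]), ((38, 25), [(-1, 1, 0)]), ((46, 25), [(-1, 2, 0)]), ((39, 27), [(-1, 1, 0)]), ((47, 27), [(-1, 2, 0)]), ((42, 31), [(-1, 1, 0)]), ((43, 32), [(-1, 1, 0)]), ((44, 34), [(-1, 1, 0)]),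 ((51, 34), [(-1, 2, 0)]), ((46, 38), [(2, 1, 0)]), ((47, 39), [(2, 1, 0)]), ((48, 41), [(1, 1, 0)]), ((51, 44), [(2, 1, 0)])]
/-- its block -/
def LX36 : SMat := [((0, 0), [(1, 0, 0)]), ((1, 1), [(1, 0, 0)]), ((2, 2), [(1, 0, 0)]), ((3, 3), [(1, 0, 0)]), ((4, 4), [(1, 0, 0)]), ((5, 5), [(1, 0, 0)]), ((6, 6), [(1, 0, 0)]), ((7, 7), [(1, 0, 0)]), ((8, 8), [(1, 0, 0)]), ((9, 9), [(1, 0, 0)]), ((10, 10), [(1, 0, 0)]), ((11, 11), [(1, 0, 0)]), ((12, 12), [(1, 0, 0)]), ((13, 13), [(1, 0, 0)]), ((14, 14), [(1, 0, 0)]), ((15, 15), [(1, 0, 0)]), ((16, 16), [(1, 0, 0)]), ((17, 17), [(1, 0, 0)]), ((18, 18), [(1, 0, 0)]), ((19, 19), [(1, 0, 0)]), ((20, 20), [(1, 0, 0)]), ((21, 21), [(1, 0, 0)]), ((22, 22), [(1, 0, 0)]), ((23, 23), [(1, 0, 0)]), ((24, 24), [(1, 0, 0)]), ((25, 25), [(1, 0,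 0)]), ((20, 0), [(-1, 1, 0)]), ((20, 1), [(1, 1, 0)]), ((0, 7), [(1, 1, 0)]), ((1, 7), [(1, 1, 0)]), ((20, 7), [(-1, 2, 0)]), ((6, 2), [(-1, 1, 0)]), ((12, 4), [(1, 1, 0)]), ((13, 5), [(1, 1, 0)]), ((16, 10), [(1, 1, 0)]), ((17, 11), [(-1, 1, 0)]), ((22, 14), [(-1, 1, 0)]), ((23, 15), [(-1, 1, 0)]), ((25, 21), [(1, 1, 0)])]
theorem f4_root36 : rootFast 36 LX36 LF36 = true := by decide +kernel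

/-- the root matrix -/
def LF37 : SMat := [((0, 0), [(1, 0, 0)]), ((1, 1), [(1, 0, 0)]), ((2, 2), [(1, 0, 0)]), ((3, 3), [(1, 0, 0)]), ((4, 4), [(1, 0, 0)]), ((5, 5), [(1, 0, 0)]), ((6, 6), [(1, 0, 0)]), ((7, 7), [(1, 0, 0)]), ((8, 8), [(1, 0, 0)]), ((9, 9), [(1, 0, 0)]), ((10, 10), [(1, 0, 0)]), ((11, 11), [(1, 0, 0)]), ((12, 12), [(1, 0, 0)]), ((13, 13), [(1, 0, 0)]), ((14, 14), [(1, 0, 0)]), ((15, 15), [(1, 0, 0)]), ((16, 16), [(1, 0, 0)]), ((17, 17), [(1, 0, 0)]), ((18, 18), [(1, 0, 0)]), ((19, 19), [(1, 0, 0)]), ((20, 20), [(1, 0, 0)]), ((21, 21), [(1, 0, 0)]), ((22, 22), [(1, 0, 0)]), ((23, 23), [(1, 0, 0)]), ((24, 24), [(1, 0, 0)]), ((25, 25), [(1, 0, 0)]), ((26, 26), [(1, 0, 0)]), ((27, 27), [(1, 0, 0)]), ((28, 28), [(1, 0, 0)]), ((29, 29), [(1, 0, 0)]), ((30, 30), [(1,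 0, 0)]), ((31, 31), [(1, 0, 0)]), ((32, 32), [(1, 0, 0)]), ((33, 33), [(1, 0, 0)]), ((34, 34), [(1, 0, 0)]), ((35, 35), [(1, 0, 0)]), ((36, 36), [(1, 0, 0)]), ((37, 37), [(1, 0, 0)]), ((38, 38), [(1, 0, 0)]), ((39, 39), [(1, 0, 0)]), ((40, 40), [(1, 0, 0)]), ((41, 41), [(1, 0, 0)]), ((42, 42), [(1, 0, 0)]), ((43, 43), [(1, 0, 0)]), ((44, 44), [(1, 0, 0)]), ((45, 45), [(1, 0, 0)]), ((46, 46), [(1, 0, 0)]), ((47, 47), [(1, 0, 0)]), ((48, 48), [(1, 0, 0)]), ((49, 49), [(1, 0, 0)]), ((50, 50), [(1, 0, 0)]), ((51, 51), [(1, 0, 0)]), ((41, 0), [(0, 1, 0)]), ((41, 1), [(-1, 1, 0)]), ((41, 2), [(0, 1, 0)]), ((41, 3), [(1, 1, 0)]), ((0, 14), [(1, 1, 0)]), ((1, 14), [(2, 1, 0)]), ((2, 14), [(2, 1, 0)]), ((3, 14), [(0, 1, 0)]), ((41, 14), [(-1, 2, 0)]), ((12, 5), [(1, 1, 0)]), ((25, 5),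 [(-1, 2, 0)]), ((13, 6), [(1, 1, 0)]), ((27, 6), [(1, 2, 0)]), ((15, 7), [(1, 1, 0)]), ((18, 10), [(1, 1, 0)]), ((34, 10), [(1, 2, 0)]), ((22, 11), [(1, 1, 0)]), ((25, 12), [(-2, 1, 0)]), ((27, 13), [(2, 1, 0)]), ((31, 16), [(1, 1, 0)]), ((32, 17), [(-1, 1, 0)]), ((34, 18), [(2, 1, 0)]), ((37, 21), [(-1, 1, 0)]), ((45, 21), [(1, 2, 0)]), ((38, 23), [(1, 1, 0)]), ((39, 24), [(-1, 1, 0)]), ((42, 28), [(-1, 1, 0)]), ((49, 28), [(1, 2, 0)]), ((43, 30), [(1, 1, 0)]), ((50, 30), [(-1, 2, 0)]), ((44, 33), [(-1, 1, 0)]), ((45, 37), [(-2, 1, 0)]), ((48, 40), [(-1, 1, 0)]), ((49, 42), [(-2, 1, 0)]), ((50, 43), [(-2, 1, 0)])]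
/-- its block -/
def LX37 : SMat := [((0, 0), [(1, 0, 0)]), ((1, 1), [(1, 0, 0)]), ((2, 2), [(1, 0, 0)]), ((3, 3), [(1, 0, 0)]), ((4, 4), [(1, 0, 0)]), ((5, 5), [(1, 0, 0)]), ((6, 6), [(1, 0, 0)]), ((7, 7), [(1, 0, 0)]), ((8, 8), [(1, 0, 0)]), ((9, 9), [(1, 0, 0)]), ((10, 10), [(1, 0, 0)]), ((11, 11), [(1, 0, 0)]), ((12, 12), [(1, 0, 0)]), ((13, 13), [(1, 0, 0)]), ((14, 14), [(1, 0, 0)]), ((15, 15), [(1, 0, 0)]), ((16, 16), [(1, 0, 0)]), ((17, 17), [(1, 0, 0)]), ((18, 18), [(1, 0, 0)]), ((19, 19), [(1, 0, 0)]), ((20, 20), [(1, 0, 0)]), ((21, 21), [(1, 0, 0)]), ((22, 22), [(1, 0, 0)]), ((23, 23), [(1, 0, 0)]), ((24, 24), [(1, 0, 0)]), ((25, 25), [(1, 0, 0)]), ((21, 0), [(0, 1, 0)]), ((21, 1), [(-1, 1, 0)]), ((0, 6), [(1, 1, 0)]), ((1, 6), [(2, 1, 0)]), ((21, 6), [(-1, 2, 0)]),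 ((7, 2), [(1, 1, 0)]), ((11, 3), [(1, 1, 0)]), ((14, 8), [(1, 1, 0)]), ((15, 9), [(-1, 1, 0)]), ((18, 12), [(1, 1, 0)]), ((19, 13), [(-1, 1, 0)]), ((24, 16), [(-1, 1, 0)]), ((25, 20), [(-1, 1, 0)])]
theorem f4_root37 : rootFast 37 LX37 LF37 = true := by decide +kernel

/-- the root matrix -/
def LF38 : SMat := [((0, 0), [(1, 0, 0)]), ((1, 1), [(1, 0, 0)]), ((2, 2), [(1, 0, 0)]), ((3, 3), [(1, 0, 0)]), ((4, 4), [(1, 0, 0)]), ((5, 5), [(1, 0, 0)]), ((6, 6), [(1, 0, 0)]), ((7, 7), [(1, 0, 0)]), ((8, 8), [(1, 0, 0)]), ((9, 9), [(1, 0, 0)]), ((10, 10), [(1, 0, 0)]), ((11, 11), [(1, 0, 0)]), ((12, 12), [(1, 0, 0)]), ((13, 13), [(1, 0, 0)]), ((14, 14), [(1, 0, 0)]), ((15, 15), [(1, 0, 0)]), ((16, 16), [(1, 0, 0)]), ((17, 17), [(1, 0, 0)]), ((18, 18), [(1, 0, 0)]), ((19, 19), [(1, 0,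 0)]), ((20, 20), [(1, 0, 0)]), ((21, 21), [(1, 0, 0)]), ((22, 22), [(1, 0, 0)]), ((23, 23), [(1, 0, 0)]), ((24, 24), [(1, 0, 0)]), ((25, 25), [(1, 0, 0)]), ((26, 26), [(1, 0, 0)]), ((27, 27), [(1, 0, 0)]), ((28, 28), [(1, 0, 0)]), ((29, 29), [(1, 0, 0)]), ((30, 30), [(1, 0, 0)]), ((31, 31), [(1, 0, 0)]), ((32, 32), [(1, 0, 0)]), ((33, 33), [(1, 0, 0)]), ((34, 34), [(1, 0, 0)]), ((35, 35), [(1, 0, 0)]), ((36, 36), [(1, 0, 0)]), ((37, 37), [(1, 0, 0)]), ((38, 38), [(1, 0, 0)]), ((39, 39), [(1, 0, 0)]), ((40, 40), [(1, 0, 0)]), ((41, 41), [(1, 0, 0)]), ((42, 42), [(1, 0, 0)]), ((43, 43), [(1, 0, 0)]), ((44, 44), [(1, 0, 0)]), ((45, 45), [(1, 0, 0)]), ((46, 46), [(1, 0, 0)]), ((47, 47), [(1, 0, 0)]), ((48, 48), [(1, 0, 0)]), ((49, 49), [(1, 0, 0)]), ((50, 50), [(1, 0, 0)]), ((51,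 51), [(1, 0, 0)]), ((42, 0), [(0, 1, 0)]), ((42, 1), [(-1, 1, 0)]), ((42, 2), [(1, 1, 0)]), ((42, 3), [(-1, 1, 0)]), ((0, 13), [(1, 1, 0)]), ((1, 13), [(2, 1, 0)]), ((2, 13), [(2, 1, 0)]), ((3, 13), [(2, 1, 0)]), ((42, 13), [(-1, 2, 0)]), ((12, 4), [(1, 1, 0)]), ((26, 4), [(1, 2, 0)]), ((14, 6), [(-1, 1, 0)]), ((28, 6), [(-1, 2, 0)]), ((16, 7), [(-1, 1, 0)]), ((18, 9), [(1, 1, 0)]), ((35, 9), [(1, 2, 0)]), ((23, 11), [(-1, 1, 0)]), ((26, 12), [(2, 1, 0)]), ((28, 14), [(2, 1, 0)]), ((31, 15), [(1, 1, 0)]), ((33, 17), [(-1, 1, 0)]), ((35, 18), [(2, 1, 0)]), ((37, 20), [(-1, 1, 0)]), ((46, 20), [(1, 2, 0)]), ((38, 22), [(1, 1, 0)]), ((40, 24), [(-1, 1, 0)]), ((41, 27), [(-1, 1, 0)]), ((49, 27), [(-1, 2, 0)]), ((43, 29), [(-1, 1, 0)]), ((51, 29), [(1, 2, 0)]), ((44, 32), [(1, 1, 0)]),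 ((46, 37), [(-2, 1, 0)]), ((48, 39), [(1, 1, 0)]), ((49, 41), [(2, 1, 0)]), ((51, 43), [(-2, 1, 0)])]
/-- its block -/
def LX38 : SMat := [((0, 0), [(1, 0, 0)]), ((1, 1), [(1, 0, 0)]), ((2, 2), [(1, 0, 0)]), ((3, 3), [(1, 0, 0)]), ((4, 4), [(1, 0, 0)]), ((5, 5), [(1, 0, 0)]), ((6, 6), [(1, 0, 0)]), ((7, 7), [(1, 0, 0)]), ((8, 8), [(1, 0, 0)]), ((9, 9), [(1, 0, 0)]), ((10, 10), [(1, 0, 0)]), ((11, 11), [(1, 0, 0)]), ((12, 12), [(1, 0, 0)]), ((13, 13), [(1, 0, 0)]), ((14, 14), [(1, 0, 0)]), ((15, 15), [(1, 0, 0)]), ((16, 16), [(1, 0, 0)]), ((17, 17), [(1, 0, 0)]), ((18, 18), [(1, 0, 0)]), ((19, 19), [(1, 0, 0)]), ((20, 20), [(1, 0, 0)]), ((21, 21), [(1, 0, 0)]), ((22, 22), [(1, 0, 0)]), ((23, 23), [(1, 0, 0)]), ((24, 24), [(1, 0, 0)]), ((25, 25), [(1, 0, 0)]), ((22, 0), [(0, 1,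 0)]), ((22, 1), [(-1, 1, 0)]), ((0, 5), [(1, 1, 0)]), ((1, 5), [(2, 1, 0)]), ((22, 5), [(-1, 2, 0)]), ((8, 2), [(-1, 1, 0)]), ((12, 3), [(-1, 1, 0)]), ((14, 7), [(1, 1, 0)]), ((16, 9), [(-1, 1, 0)]), ((18, 11), [(1, 1, 0)]), ((20, 13), [(-1, 1, 0)]), ((24, 15), [(1, 1, 0)]), ((25, 19), [(1, 1, 0)])]
theorem f4_root38 : rootFast 38 LX38 LF38 = true := by decide +kernel

/-- the root matrix -/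
def LF39 : SMat := [((0, 0), [(1, 0, 0)]), ((1, 1), [(1, 0, 0)]), ((2, 2), [(1, 0, 0)]), ((3, 3), [(1, 0, 0)]), ((4, 4), [(1, 0, 0)]), ((5, 5), [(1, 0, 0)]), ((6, 6), [(1, 0, 0)]), ((7, 7), [(1, 0, 0)]), ((8, 8), [(1, 0, 0)]), ((9, 9), [(1, 0, 0)]), ((10, 10), [(1, 0, 0)]), ((11, 11), [(1, 0, 0)]), ((12, 12), [(1, 0, 0)]), ((13, 13), [(1, 0, 0)]), ((14, 14), [(1, 0, 0)]), ((15, 15), [(1, 0, 0)]), ((16, 16), [(1, 0, 0)]), ((17, 17), [(1, 0, 0)]), ((18, 18), [(1, 0, 0)]), ((19, 19), [(1, 0, 0)]), ((20, 20), [(1, 0, 0)]), ((21, 21), [(1, 0, 0)]), ((22, 22), [(1, 0, 0)]), ((23, 23), [(1, 0, 0)]), ((24, 24), [(1, 0, 0)]), ((25, 25), [(1, 0, 0)]), ((26, 26), [(1, 0, 0)]), ((27, 27), [(1, 0, 0)]), ((28, 28), [(1, 0, 0)]), ((29, 29), [(1, 0, 0)]), ((30, 30), [(1, 0, 0)]), ((31, 31), [(1,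 0, 0)]), ((32, 32), [(1, 0, 0)]), ((33, 33), [(1, 0, 0)]), ((34, 34), [(1, 0, 0)]), ((35, 35), [(1, 0, 0)]), ((36, 36), [(1, 0, 0)]), ((37, 37), [(1, 0, 0)]), ((38, 38), [(1, 0, 0)]), ((39, 39), [(1, 0, 0)]), ((40, 40), [(1, 0, 0)]), ((41, 41), [(1, 0, 0)]), ((42, 42), [(1, 0, 0)]), ((43, 43), [(1, 0, 0)]), ((44, 44), [(1, 0, 0)]), ((45, 45), [(1, 0, 0)]), ((46, 46), [(1, 0, 0)]), ((47, 47), [(1, 0, 0)]), ((48, 48), [(1, 0, 0)]), ((49, 49), [(1, 0, 0)]), ((50, 50), [(1, 0, 0)]), ((51, 51), [(1, 0, 0)]), ((43, 0), [(0, 1, 0)]), ((43, 1), [(1, 1, 0)]), ((43, 2), [(-1, 1, 0)]), ((43, 3), [(0, 1, 0)]), ((0, 12), [(1, 1, 0)]), ((1, 12), [(2, 1, 0)]), ((2, 12), [(4, 1, 0)]), ((3, 12), [(2, 1, 0)]), ((43, 12), [(-1, 2, 0)]), ((13, 4), [(-1, 1, 0)]), ((29, 4), [(-1, 2, 0)]), ((14, 5),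 [(-1, 1, 0)]), ((30, 5), [(1, 2, 0)]), ((17, 7), [(1, 1, 0)]), ((18, 8), [(1, 1, 0)]), ((36, 8), [(1, 2, 0)]), ((24, 11), [(1, 1, 0)]), ((29, 13), [(2, 1, 0)]), ((30, 14), [(-2, 1, 0)]), ((32, 15), [(1, 1, 0)]), ((33, 16), [(-1, 1, 0)]), ((36, 18), [(2, 1, 0)]), ((37, 19), [(-1, 1, 0)]), ((47, 19), [(1, 2, 0)]), ((39, 22), [(1, 1, 0)]), ((40, 23), [(-1, 1, 0)]), ((41, 25), [(1, 1, 0)]), ((50, 25), [(1, 2, 0)]), ((42, 26), [(-1, 1, 0)]), ((51, 26), [(-1, 2, 0)]), ((44, 31), [(-1, 1, 0)]), ((47, 37), [(-2, 1, 0)]), ((48, 38), [(-1, 1, 0)]), ((50, 41), [(2, 1, 0)]), ((51, 42), [(2, 1, 0)])]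
/-- its block -/
def LX39 : SMat := [((0, 0), [(1, 0, 0)]), ((1, 1), [(1, 0, 0)]), ((2, 2), [(1, 0, 0)]), ((3, 3), [(1, 0, 0)]), ((4, 4), [(1, 0, 0)]), ((5, 5), [(1, 0, 0)]), ((6, 6), [(1, 0, 0)]), ((7, 7), [(1, 0, 0)]), ((8, 8), [(1, 0, 0)]), ((9, 9), [(1, 0, 0)]), ((10, 10), [(1, 0, 0)]), ((11, 11), [(1, 0, 0)]), ((12, 12), [(1, 0, 0)]), ((13, 13), [(1, 0, 0)]), ((14, 14), [(1, 0, 0)]), ((15, 15), [(1, 0, 0)]), ((16, 16), [(1, 0, 0)]), ((17, 17), [(1, 0, 0)]), ((18, 18), [(1, 0, 0)]), ((19, 19), [(1, 0, 0)]), ((20, 20), [(1, 0, 0)]), ((21, 21), [(1, 0, 0)]), ((22, 22), [(1, 0, 0)]), ((23, 23), [(1, 0, 0)]), ((24, 24), [(1, 0, 0)]), ((25, 25), [(1, 0, 0)]), ((23, 0), [(0, 1, 0)]), ((23, 1), [(1, 1, 0)]), ((0, 4), [(1, 1, 0)]), ((1, 4), [(2, 1, 0)]), ((23, 4), [(-1, 2, 0)]), ((9,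 2), [(1, 1, 0)]), ((13, 3), [(1, 1, 0)]), ((15, 7), [(1, 1, 0)]), ((16, 8), [(-1, 1, 0)]), ((19, 11), [(1, 1, 0)]), ((20, 12), [(-1, 1, 0)]), ((24, 14), [(-1, 1, 0)]), ((25, 18), [(-1, 1, 0)])]
theorem f4_root39 : rootFast 39 LX39 LF39 = true := by decide +kernel

/-- the root matrix -/
def LF40 : SMat := [((0, 0), [(1, 0, 0)]), ((1, 1), [(1, 0, 0)]), ((2, 2), [(1, 0, 0)]), ((3, 3), [(1, 0, 0)]), ((4, 4), [(1, 0, 0)]), ((5, 5), [(1, 0, 0)]), ((6, 6), [(1, 0, 0)]), ((7, 7), [(1, 0, 0)]), ((8, 8), [(1, 0, 0)]), ((9, 9), [(1, 0, 0)]), ((10, 10), [(1, 0, 0)]), ((11, 11), [(1, 0, 0)]), ((12, 12), [(1, 0, 0)]), ((13, 13), [(1, 0, 0)]), ((14, 14), [(1, 0, 0)]), ((15, 15), [(1, 0, 0)]), ((16, 16), [(1, 0, 0)]), ((17, 17), [(1, 0, 0)]), ((18, 18), [(1, 0, 0)]), ((19, 19), [(1, 0, 0)]),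 ((20, 20), [(1, 0, 0)]), ((21, 21), [(1, 0, 0)]), ((22, 22), [(1, 0, 0)]), ((23, 23), [(1, 0, 0)]), ((24, 24), [(1, 0, 0)]), ((25, 25), [(1, 0, 0)]), ((26, 26), [(1, 0, 0)]), ((27, 27), [(1, 0, 0)]), ((28, 28), [(1, 0, 0)]), ((29, 29), [(1, 0, 0)]), ((30, 30), [(1, 0, 0)]), ((31, 31), [(1, 0, 0)]), ((32, 32), [(1, 0, 0)]), ((33, 33), [(1, 0, 0)]), ((34, 34), [(1, 0, 0)]), ((35, 35), [(1, 0, 0)]), ((36, 36), [(1, 0, 0)]), ((37, 37), [(1, 0, 0)]), ((38, 38), [(1, 0, 0)]), ((39, 39), [(1, 0, 0)]), ((40, 40), [(1, 0, 0)]), ((41, 41), [(1, 0, 0)]), ((42, 42), [(1, 0, 0)]), ((43, 43), [(1, 0, 0)]), ((44, 44), [(1, 0, 0)]), ((45, 45), [(1, 0, 0)]), ((46, 46), [(1, 0, 0)]), ((47, 47), [(1, 0, 0)]), ((48, 48), [(1, 0, 0)]), ((49, 49), [(1, 0, 0)]), ((50, 50), [(1, 0, 0)]), ((51, 51), [(1,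 0, 0)]), ((44, 0), [(1, 1, 0)]), ((44, 1), [(-1, 1, 0)]), ((44, 2), [(0, 1, 0)]), ((44, 3), [(0, 1, 0)]), ((0, 11), [(1, 1, 0)]), ((1, 11), [(3, 1, 0)]), ((2, 11), [(4, 1, 0)]), ((3, 11), [(2, 1, 0)]), ((44, 11), [(-1, 2, 0)]), ((15, 4), [(1, 1, 0)]), ((34, 4), [(1, 2, 0)]), ((16, 5), [(1, 1, 0)]), ((35, 5), [(-1, 2, 0)]), ((17, 6), [(1, 1, 0)]), ((36, 6), [(1, 2, 0)]), ((18, 7), [(1, 1, 0)]), ((31, 12), [(1, 1, 0)]), ((32, 13), [(-1, 1, 0)]), ((33, 14), [(1, 1, 0)]), ((34, 15), [(2, 1, 0)]), ((35, 16), [(-2, 1, 0)]), ((36, 17), [(2, 1, 0)]), ((38, 19), [(-1, 1, 0)]), ((49, 19), [(1, 2, 0)]), ((39, 20), [(1, 1, 0)]), ((50, 20), [(-1, 2, 0)]), ((40, 21), [(-1, 1, 0)]), ((51, 21), [(1, 2, 0)]), ((41, 22), [(-1, 1, 0)]), ((42, 23), [(1, 1, 0)]), ((43, 24), [(-1, 1, 0)]), ((48, 37),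 [(-1, 1, 0)]), ((49, 38), [(-2, 1, 0)]), ((50, 39), [(-2, 1, 0)]), ((51, 40), [(-2, 1, 0)])]
/-- its block -/
def LX40 : SMat := [((0, 0), [(1, 0, 0)]), ((1, 1), [(1, 0, 0)]), ((2, 2), [(1, 0, 0)]), ((3, 3), [(1, 0, 0)]), ((4, 4), [(1, 0, 0)]), ((5, 5), [(1, 0, 0)]), ((6, 6), [(1, 0, 0)]), ((7, 7), [(1, 0, 0)]), ((8, 8), [(1, 0, 0)]), ((9, 9), [(1, 0, 0)]), ((10, 10), [(1, 0, 0)]), ((11, 11), [(1, 0, 0)]), ((12, 12), [(1, 0, 0)]), ((13, 13), [(1, 0, 0)]), ((14, 14), [(1, 0, 0)]), ((15, 15), [(1, 0, 0)]), ((16, 16), [(1, 0, 0)]), ((17, 17), [(1, 0, 0)]), ((18, 18), [(1, 0, 0)]), ((19, 19), [(1, 0, 0)]), ((20, 20), [(1, 0, 0)]), ((21, 21), [(1, 0, 0)]), ((22, 22), [(1, 0, 0)]), ((23, 23), [(1, 0, 0)]), ((24, 24), [(1, 0, 0)]), ((25, 25), [(1, 0, 0)]), ((24, 0), [(1, 1, 0)]), ((24,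 1), [(-1, 1, 0)]), ((0, 3), [(1, 1, 0)]), ((1, 3), [(3, 1, 0)]), ((24, 3), [(-1, 2, 0)]), ((10, 2), [(1, 1, 0)]), ((14, 4), [(1, 1, 0)]), ((15, 5), [(-1, 1, 0)]), ((16, 6), [(1, 1, 0)]), ((21, 11), [(-1, 1, 0)]), ((22, 12), [(1, 1, 0)]), ((23, 13), [(-1, 1, 0)]), ((25, 17), [(-1, 1, 0)])]
theorem f4_root40 : rootFast 40 LX40 LF40 = true := by decide +kernel

/-- the root matrix -/
def LF41 : SMat := [((0, 0), [(1, 0, 0)]), ((1, 1), [(1, 0, 0)]), ((2, 2), [(1, 0, 0)]), ((3, 3), [(1, 0, 0)]), ((4, 4), [(1, 0, 0)]), ((5, 5), [(1, 0, 0)]), ((6, 6), [(1, 0, 0)]), ((7, 7), [(1, 0, 0)]), ((8, 8), [(1, 0, 0)]), ((9, 9), [(1, 0, 0)]), ((10, 10), [(1, 0, 0)]), ((11, 11), [(1, 0, 0)]), ((12, 12), [(1, 0, 0)]), ((13, 13), [(1, 0, 0)]), ((14, 14), [(1, 0, 0)]), ((15, 15), [(1, 0, 0)]), ((16,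 16), [(1, 0, 0)]), ((17, 17), [(1, 0, 0)]), ((18, 18), [(1, 0, 0)]), ((19, 19), [(1, 0, 0)]), ((20, 20), [(1, 0, 0)]), ((21, 21), [(1, 0, 0)]), ((22, 22), [(1, 0, 0)]), ((23, 23), [(1, 0, 0)]), ((24, 24), [(1, 0, 0)]), ((25, 25), [(1, 0, 0)]), ((26, 26), [(1, 0, 0)]), ((27, 27), [(1, 0, 0)]), ((28, 28), [(1, 0, 0)]), ((29, 29), [(1, 0, 0)]), ((30, 30), [(1, 0, 0)]), ((31, 31), [(1, 0, 0)]), ((32, 32), [(1, 0, 0)]), ((33, 33), [(1, 0, 0)]), ((34, 34), [(1, 0, 0)]), ((35, 35), [(1, 0, 0)]), ((36, 36), [(1, 0, 0)]), ((37, 37), [(1, 0, 0)]), ((38, 38), [(1, 0, 0)]), ((39, 39), [(1, 0, 0)]), ((40, 40), [(1, 0, 0)]), ((41, 41), [(1, 0, 0)]), ((42, 42), [(1, 0, 0)]), ((43, 43), [(1, 0, 0)]), ((44, 44), [(1, 0, 0)]), ((45, 45), [(1, 0, 0)]), ((46, 46), [(1, 0, 0)]), ((47, 47), [(1, 0,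 0)]), ((48, 48), [(1, 0, 0)]), ((49, 49), [(1, 0, 0)]), ((50, 50), [(1, 0, 0)]), ((51, 51), [(1, 0, 0)]), ((45, 0), [(-2, 1, 0)]), ((45, 1), [(0, 1, 0)]), ((45, 2), [(0, 1, 0)]), ((45, 3), [(1, 1, 0)]), ((0, 10), [(1, 1, 0)]), ((1, 10), [(1, 1, 0)]), ((2, 10), [(1, 1, 0)]), ((3, 10), [(0, 1, 0)]), ((45, 10), [(-1, 2, 0)]), ((19, 5), [(1, 1, 0)]), ((20, 6), [(1, 1, 0)]), ((22, 7), [(1, 1, 0)]), ((25, 8), [(-1, 1, 0)]), ((27, 9), [(1, 1, 0)]), ((37, 14), [(1, 1, 0)]), ((38, 16), [(-1, 1, 0)]), ((39, 17), [(1, 1, 0)]), ((41, 18), [(-1, 1, 0)]), ((46, 28), [(-1, 1, 0)]), ((47, 30), [(1, 1, 0)]), ((48, 33), [(-1, 1, 0)]), ((49, 35), [(-1, 1, 0)]), ((50, 36), [(-1, 1, 0)])]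
/-- its block -/
def LX41 : SMat := [((0, 0), [(1, 0, 0)]), ((1, 1), [(1, 0, 0)]), ((2, 2), [(1, 0, 0)]), ((3, 3), [(1, 0, 0)]), ((4, 4), [(1, 0, 0)]), ((5, 5), [(1, 0, 0)]), ((6, 6), [(1, 0, 0)]), ((7, 7), [(1, 0, 0)]), ((8, 8), [(1, 0, 0)]), ((9, 9), [(1, 0, 0)]), ((10, 10), [(1, 0, 0)]), ((11, 11), [(1, 0, 0)]), ((12, 12), [(1, 0, 0)]), ((13, 13), [(1, 0, 0)]), ((14, 14), [(1, 0, 0)]), ((15, 15), [(1, 0, 0)]), ((16, 16), [(1, 0, 0)]), ((17, 17), [(1, 0, 0)]), ((18, 18), [(1, 0, 0)]), ((19, 19), [(1, 0, 0)]), ((20, 20), [(1, 0, 0)]), ((21, 21), [(1, 0, 0)]), ((22, 22), [(1, 0, 0)]), ((23, 23), [(1, 0, 0)]), ((24, 24), [(1, 0, 0)]), ((25, 25), [(1, 0, 0)]), ((11, 2), [(1, 1, 0)]), ((17, 6), [(1, 1, 0)]), ((18, 8), [(-1, 1, 0)]), ((19, 9), [(1, 1, 0)]), ((21, 10), [(-1, 1, 0)]),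 ((25, 16), [(-1, 1, 0)])]
theorem f4_root41 : rootFast 41 LX41 LF41 = true := by decide +kernel

/-- the root matrix -/
def LF42 : SMat := [((0, 0), [(1, 0, 0)]), ((1, 1), [(1, 0, 0)]), ((2, 2), [(1, 0, 0)]), ((3, 3), [(1, 0, 0)]), ((4, 4), [(1, 0, 0)]), ((5, 5), [(1, 0, 0)]), ((6, 6), [(1, 0, 0)]), ((7, 7), [(1, 0, 0)]), ((8, 8), [(1, 0, 0)]), ((9, 9), [(1, 0, 0)]), ((10, 10), [(1, 0, 0)]), ((11, 11), [(1, 0, 0)]), ((12, 12), [(1, 0, 0)]), ((13, 13), [(1, 0, 0)]), ((14, 14), [(1, 0, 0)]), ((15, 15), [(1, 0, 0)]), ((16, 16), [(1, 0, 0)]), ((17, 17), [(1, 0, 0)]), ((18, 18), [(1, 0, 0)]), ((19, 19), [(1, 0, 0)]), ((20, 20), [(1, 0, 0)]), ((21, 21), [(1, 0, 0)]), ((22, 22), [(1, 0, 0)]), ((23, 23), [(1, 0, 0)]), ((24, 24), [(1, 0, 0)]), ((25, 25), [(1, 0, 0)]), ((26, 26), [(1, 0,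 0)]), ((27, 27), [(1, 0, 0)]), ((28, 28), [(1, 0, 0)]), ((29, 29), [(1, 0, 0)]), ((30, 30), [(1, 0, 0)]), ((31, 31), [(1, 0, 0)]), ((32, 32), [(1, 0, 0)]), ((33, 33), [(1, 0, 0)]), ((34, 34), [(1, 0, 0)]), ((35, 35), [(1, 0, 0)]), ((36, 36), [(1, 0, 0)]), ((37, 37), [(1, 0, 0)]), ((38, 38), [(1, 0, 0)]), ((39, 39), [(1, 0, 0)]), ((40, 40), [(1, 0, 0)]), ((41, 41), [(1, 0, 0)]), ((42, 42), [(1, 0, 0)]), ((43, 43), [(1, 0, 0)]), ((44, 44), [(1, 0, 0)]), ((45, 45), [(1, 0, 0)]), ((46, 46), [(1, 0, 0)]), ((47, 47), [(1, 0, 0)]), ((48, 48), [(1, 0, 0)]), ((49, 49), [(1, 0, 0)]), ((50, 50), [(1, 0, 0)]), ((51, 51), [(1, 0, 0)]), ((46, 0), [(-2, 1, 0)]), ((46, 1), [(0, 1, 0)]), ((46, 2), [(1, 1, 0)]), ((46, 3), [(-1, 1, 0)]), ((0, 9), [(1, 1, 0)]), ((1, 9), [(1, 1, 0)]), ((2, 9), [(1,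 1, 0)]), ((3, 9), [(1, 1, 0)]), ((46, 9), [(-1, 2, 0)]), ((19, 4), [(1, 1, 0)]), ((21, 6), [(-1, 1, 0)]), ((23, 7), [(-1, 1, 0)]), ((26, 8), [(1, 1, 0)]), ((28, 10), [(1, 1, 0)]), ((37, 13), [(1, 1, 0)]), ((38, 15), [(-1, 1, 0)]), ((40, 17), [(1, 1, 0)]), ((42, 18), [(-1, 1, 0)]), ((45, 27), [(-1, 1, 0)]), ((47, 29), [(-1, 1, 0)]), ((48, 32), [(1, 1, 0)]), ((49, 34), [(1, 1, 0)]), ((51, 36), [(-1, 1, 0)])]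
/-- its block -/
def LX42 : SMat := [((0, 0), [(1, 0, 0)]), ((1, 1), [(1, 0, 0)]), ((2, 2), [(1, 0, 0)]), ((3, 3), [(1, 0, 0)]), ((4, 4), [(1, 0, 0)]), ((5, 5), [(1, 0, 0)]), ((6, 6), [(1, 0, 0)]), ((7, 7), [(1, 0, 0)]), ((8, 8), [(1, 0, 0)]), ((9, 9), [(1, 0, 0)]), ((10, 10), [(1, 0, 0)]), ((11, 11), [(1, 0, 0)]), ((12, 12), [(1, 0, 0)]), ((13, 13), [(1, 0, 0)]), ((14, 14), [(1, 0, 0)]), ((15, 15), [(1, 0, 0)]), ((16, 16), [(1, 0, 0)]), ((17, 17), [(1, 0, 0)]), ((18, 18), [(1, 0, 0)]), ((19, 19), [(1, 0, 0)]), ((20, 20), [(1, 0, 0)]), ((21, 21), [(1, 0, 0)]), ((22, 22), [(1, 0, 0)]), ((23, 23), [(1, 0, 0)]), ((24, 24), [(1, 0, 0)]), ((25, 25), [(1, 0, 0)]), ((12, 2), [(-1, 1, 0)]), ((17, 5), [(1, 1, 0)]), ((18, 7), [(-1, 1, 0)]), ((20, 9), [(1, 1, 0)]), ((22, 10), [(-1, 1, 0)]),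 ((25, 15), [(1, 1, 0)])]
theorem f4_root42 : rootFast 42 LX42 LF42 = true := by decide +kernel

/-- the root matrix -/
def LF43 : SMat := [((0, 0), [(1, 0, 0)]), ((1, 1), [(1, 0, 0)]), ((2, 2), [(1, 0, 0)]), ((3, 3), [(1, 0, 0)]), ((4, 4), [(1, 0, 0)]), ((5, 5), [(1, 0, 0)]), ((6, 6), [(1, 0, 0)]), ((7, 7), [(1, 0, 0)]), ((8, 8), [(1, 0, 0)]), ((9, 9), [(1, 0, 0)]), ((10, 10), [(1, 0, 0)]), ((11, 11), [(1, 0, 0)]), ((12, 12), [(1, 0, 0)]), ((13, 13), [(1, 0, 0)]), ((14, 14), [(1, 0, 0)]), ((15, 15), [(1, 0, 0)]), ((16, 16), [(1, 0, 0)]), ((17, 17), [(1, 0, 0)]), ((18, 18), [(1, 0, 0)]), ((19, 19), [(1, 0, 0)]), ((20, 20), [(1, 0, 0)]), ((21, 21), [(1, 0, 0)]), ((22, 22), [(1, 0, 0)]), ((23, 23), [(1, 0, 0)]), ((24, 24), [(1, 0, 0)]), ((25, 25), [(1, 0, 0)]), ((26, 26), [(1, 0,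 0)]), ((27, 27), [(1, 0, 0)]), ((28, 28), [(1, 0, 0)]), ((29, 29), [(1, 0, 0)]), ((30, 30), [(1, 0, 0)]), ((31, 31), [(1, 0, 0)]), ((32, 32), [(1, 0, 0)]), ((33, 33), [(1, 0, 0)]), ((34, 34), [(1, 0, 0)]), ((35, 35), [(1, 0, 0)]), ((36, 36), [(1, 0, 0)]), ((37, 37), [(1, 0, 0)]), ((38, 38), [(1, 0, 0)]), ((39, 39), [(1, 0, 0)]), ((40, 40), [(1, 0, 0)]), ((41, 41), [(1, 0, 0)]), ((42, 42), [(1, 0, 0)]), ((43, 43), [(1, 0, 0)]), ((44, 44), [(1, 0, 0)]), ((45, 45), [(1, 0, 0)]), ((46, 46), [(1, 0, 0)]), ((47, 47), [(1, 0, 0)]), ((48, 48), [(1, 0, 0)]), ((49, 49), [(1, 0, 0)]), ((50, 50), [(1, 0, 0)]), ((51, 51), [(1, 0, 0)]), ((47, 0), [(-2, 1, 0)]), ((47, 1), [(2, 1, 0)]), ((47, 2), [(-1, 1, 0)]), ((47, 3), [(0, 1, 0)]), ((0, 8), [(1, 1, 0)]), ((1, 8), [(1, 1, 0)]), ((2, 8), [(2,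 1, 0)]), ((3, 8), [(1, 1, 0)]), ((47, 8), [(-1, 2, 0)]), ((20, 4), [(-1, 1, 0)]), ((21, 5), [(-1, 1, 0)]), ((24, 7), [(1, 1, 0)]), ((29, 9), [(1, 1, 0)]), ((30, 10), [(-1, 1, 0)]), ((37, 12), [(1, 1, 0)]), ((39, 15), [(-1, 1, 0)]), ((40, 16), [(1, 1, 0)]), ((43, 18), [(-1, 1, 0)]), ((45, 25), [(1, 1, 0)]), ((46, 26), [(-1, 1, 0)]), ((48, 31), [(-1, 1, 0)]), ((50, 34), [(1, 1, 0)]), ((51, 35), [(1, 1, 0)])]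
/-- its block -/
def LX43 : SMat := [((0, 0), [(1, 0, 0)]), ((1, 1), [(1, 0, 0)]), ((2, 2), [(1, 0, 0)]), ((3, 3), [(1, 0, 0)]), ((4, 4), [(1, 0, 0)]), ((5, 5), [(1, 0, 0)]), ((6, 6), [(1, 0, 0)]), ((7, 7), [(1, 0, 0)]), ((8, 8), [(1, 0, 0)]), ((9, 9), [(1, 0, 0)]), ((10, 10), [(1, 0, 0)]), ((11, 11), [(1, 0, 0)]), ((12, 12), [(1, 0, 0)]), ((13, 13), [(1, 0, 0)]), ((14, 14), [(1, 0, 0)]), ((15, 15), [(1, 0, 0)]), ((16, 16), [(1, 0, 0)]), ((17, 17), [(1, 0, 0)]), ((18, 18), [(1, 0, 0)]), ((19, 19), [(1, 0, 0)]), ((20, 20), [(1, 0, 0)]), ((21, 21), [(1, 0, 0)]), ((22, 22), [(1, 0, 0)]), ((23, 23), [(1, 0, 0)]), ((24, 24), [(1, 0, 0)]), ((25, 25), [(1, 0, 0)]), ((13, 2), [(1, 1, 0)]), ((17, 4), [(1, 1, 0)]), ((19, 7), [(-1, 1, 0)]), ((20, 8), [(1, 1, 0)]), ((23, 10), [(-1, 1, 0)]),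 ((25, 14), [(-1, 1, 0)])]
theorem f4_root43 : rootFast 43 LX43 LF43 = true := by decide +kernel

/-- the root matrix -/
def LF44 : SMat := [((0, 0), [(1, 0, 0)]), ((1, 1), [(1, 0, 0)]), ((2, 2), [(1, 0, 0)]), ((3, 3), [(1, 0, 0)]), ((4, 4), [(1, 0, 0)]), ((5, 5), [(1, 0, 0)]), ((6, 6), [(1, 0, 0)]), ((7, 7), [(1, 0, 0)]), ((8, 8), [(1, 0, 0)]), ((9, 9), [(1, 0, 0)]), ((10, 10), [(1, 0, 0)]), ((11, 11), [(1, 0, 0)]), ((12, 12), [(1, 0, 0)]), ((13, 13), [(1, 0, 0)]), ((14, 14), [(1, 0, 0)]), ((15, 15), [(1, 0, 0)]), ((16, 16), [(1, 0, 0)]), ((17, 17), [(1, 0, 0)]), ((18, 18), [(1, 0, 0)]), ((19, 19), [(1, 0, 0)]), ((20, 20), [(1, 0, 0)]), ((21, 21), [(1, 0, 0)]), ((22, 22), [(1, 0, 0)]), ((23, 23), [(1, 0, 0)]), ((24, 24), [(1, 0, 0)]), ((25, 25), [(1, 0, 0)]), ((26, 26), [(1, 0,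 0)]), ((27, 27), [(1, 0, 0)]), ((28, 28), [(1, 0, 0)]), ((29, 29), [(1, 0, 0)]), ((30, 30), [(1, 0, 0)]), ((31, 31), [(1, 0, 0)]), ((32, 32), [(1, 0, 0)]), ((33, 33), [(1, 0, 0)]), ((34, 34), [(1, 0, 0)]), ((35, 35), [(1, 0, 0)]), ((36, 36), [(1, 0, 0)]), ((37, 37), [(1, 0, 0)]), ((38, 38), [(1, 0, 0)]), ((39, 39), [(1, 0, 0)]), ((40, 40), [(1, 0, 0)]), ((41, 41), [(1, 0, 0)]), ((42, 42), [(1, 0, 0)]), ((43, 43), [(1, 0, 0)]), ((44, 44), [(1, 0, 0)]), ((45, 45), [(1, 0, 0)]), ((46, 46), [(1, 0, 0)]), ((47, 47), [(1, 0, 0)]), ((48, 48), [(1, 0, 0)]), ((49, 49), [(1, 0, 0)]), ((50, 50), [(1, 0, 0)]), ((51, 51), [(1, 0, 0)]), ((48, 0), [(-1, 1, 0)]), ((48, 1), [(0, 1, 0)]), ((48, 2), [(0, 1, 0)]), ((48, 3), [(0, 1, 0)]), ((0, 7), [(2, 1, 0)]), ((1, 7), [(3, 1, 0)]), ((2, 7), [(4,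 1, 0)]), ((3, 7), [(2, 1, 0)]), ((48, 7), [(-1, 2, 0)]), ((22, 4), [(1, 1, 0)]), ((45, 4), [(-1, 2, 0)]), ((23, 5), [(1, 1, 0)]), ((46, 5), [(1, 2, 0)]), ((24, 6), [(1, 1, 0)]), ((47, 6), [(-1, 2, 0)]), ((31, 8), [(1, 1, 0)]), ((49, 8), [(-1, 2, 0)]), ((32, 9), [(-1, 1, 0)]), ((50, 9), [(1, 2, 0)]), ((33, 10), [(1, 1, 0)]), ((51, 10), [(-1, 2, 0)]), ((37, 11), [(1, 1, 0)]), ((38, 12), [(1, 1, 0)]), ((39, 13), [(-1, 1, 0)]), ((40, 14), [(1, 1, 0)]), ((41, 15), [(-1, 1, 0)]), ((42, 16), [(1, 1, 0)]), ((43, 17), [(-1, 1, 0)]), ((44, 18), [(-1, 1, 0)]), ((45, 22), [(-2, 1, 0)]), ((46, 23), [(2, 1, 0)]), ((47, 24), [(-2, 1, 0)]), ((49, 31), [(-2, 1, 0)]), ((50, 32), [(-2, 1, 0)]), ((51, 33), [(-2, 1, 0)])]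
/-- its block -/
def LX44 : SMat := [((0, 0), [(1, 0, 0)]), ((1, 1), [(1, 0, 0)]), ((2, 2), [(1, 0, 0)]), ((3, 3), [(1, 0, 0)]), ((4, 4), [(1, 0, 0)]), ((5, 5), [(1, 0, 0)]), ((6, 6), [(1, 0, 0)]), ((7, 7), [(1, 0, 0)]), ((8, 8), [(1, 0, 0)]), ((9, 9), [(1, 0, 0)]), ((10, 10), [(1, 0, 0)]), ((11, 11), [(1, 0, 0)]), ((12, 12), [(1, 0, 0)]), ((13, 13), [(1, 0, 0)]), ((14, 14), [(1, 0, 0)]), ((15, 15), [(1, 0, 0)]), ((16, 16), [(1, 0, 0)]), ((17, 17), [(1, 0, 0)]), ((18, 18), [(1, 0, 0)]), ((19, 19), [(1, 0, 0)]), ((20, 20), [(1, 0, 0)]), ((21, 21), [(1, 0, 0)]), ((22, 22), [(1, 0, 0)]), ((23, 23), [(1, 0, 0)]), ((24, 24), [(1, 0, 0)]), ((25, 25), [(1, 0, 0)]), ((25, 0), [(-1, 1, 0)]), ((25, 1), [(0, 1, 0)]), ((0, 2), [(2, 1, 0)]), ((1, 2), [(3, 1, 0)]), ((25, 2), [(-1, 2, 0)]),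 ((17, 3), [(1, 1, 0)]), ((18, 4), [(1, 1, 0)]), ((19, 5), [(-1, 1, 0)]), ((20, 6), [(1, 1, 0)]), ((21, 7), [(-1, 1, 0)]), ((22, 8), [(1, 1, 0)]), ((23, 9), [(-1, 1, 0)]), ((24, 10), [(-1, 1, 0)])]
theorem f4_root44 : rootFast 44 LX44 LF44 = true := by decide +kernel

/-- the root matrix -/
def LF45 : SMat := [((0, 0), [(1, 0, 0)]), ((1, 1), [(1, 0, 0)]), ((2, 2), [(1, 0, 0)]), ((3, 3), [(1, 0, 0)]), ((4, 4), [(1, 0, 0)]), ((5, 5), [(1, 0, 0)]), ((6, 6), [(1, 0, 0)]), ((7, 7), [(1, 0, 0)]), ((8, 8), [(1, 0, 0)]), ((9, 9), [(1, 0, 0)]), ((10, 10), [(1, 0, 0)]), ((11, 11), [(1, 0, 0)]), ((12, 12), [(1, 0, 0)]), ((13, 13), [(1, 0, 0)]), ((14, 14), [(1, 0, 0)]), ((15, 15), [(1, 0, 0)]), ((16, 16), [(1, 0, 0)]), ((17, 17), [(1, 0, 0)]), ((18, 18), [(1, 0, 0)]), ((19, 19), [(1, 0, 0)]),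 ((20, 20), [(1, 0, 0)]), ((21, 21), [(1, 0, 0)]), ((22, 22), [(1, 0, 0)]), ((23, 23), [(1, 0, 0)]), ((24, 24), [(1, 0, 0)]), ((25, 25), [(1, 0, 0)]), ((26, 26), [(1, 0, 0)]), ((27, 27), [(1, 0, 0)]), ((28, 28), [(1, 0, 0)]), ((29, 29), [(1, 0, 0)]), ((30, 30), [(1, 0, 0)]), ((31, 31), [(1, 0, 0)]), ((32, 32), [(1, 0, 0)]), ((33, 33), [(1, 0, 0)]), ((34, 34), [(1, 0, 0)]), ((35, 35), [(1, 0, 0)]), ((36, 36), [(1, 0, 0)]), ((37, 37), [(1, 0, 0)]), ((38, 38), [(1, 0, 0)]), ((39, 39), [(1, 0, 0)]), ((40, 40), [(1, 0, 0)]), ((41, 41), [(1, 0, 0)]), ((42, 42), [(1, 0, 0)]), ((43, 43), [(1, 0, 0)]), ((44, 44), [(1, 0, 0)]), ((45, 45), [(1, 0, 0)]), ((46, 46), [(1, 0, 0)]), ((47, 47), [(1, 0, 0)]), ((48, 48), [(1, 0, 0)]), ((49, 49), [(1, 0, 0)]), ((50, 50), [(1, 0, 0)]), ((51, 51), [(1,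 0, 0)]), ((49, 0), [(0, 1, 0)]), ((49, 1), [(-2, 1, 0)]), ((49, 2), [(1, 1, 0)]), ((49, 3), [(0, 1, 0)]), ((0, 6), [(1, 1, 0)]), ((1, 6), [(2, 1, 0)]), ((2, 6), [(2, 1, 0)]), ((3, 6), [(1, 1, 0)]), ((49, 6), [(-1, 2, 0)]), ((25, 4), [(1, 1, 0)]), ((26, 5), [(1, 1, 0)]), ((31, 7), [(1, 1, 0)]), ((34, 9), [(-1, 1, 0)]), ((35, 10), [(1, 1, 0)]), ((38, 11), [(1, 1, 0)]), ((41, 13), [(-1, 1, 0)]), ((42, 14), [(1, 1, 0)]), ((44, 17), [(-1, 1, 0)]), ((45, 20), [(-1, 1, 0)]), ((46, 21), [(1, 1, 0)]), ((48, 24), [(-1, 1, 0)]), ((50, 29), [(-1, 1, 0)]), ((51, 30), [(-1, 1, 0)])]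
/-- its block -/
def LX45 : SMat := [((0, 0), [(1, 0, 0)]), ((1, 1), [(1, 0, 0)]), ((2, 2), [(1, 0, 0)]), ((3, 3), [(1, 0, 0)]), ((4, 4), [(1, 0, 0)]), ((5, 5), [(1, 0, 0)]), ((6, 6), [(1, 0, 0)]), ((7, 7), [(1, 0, 0)]), ((8, 8), [(1, 0, 0)]), ((9, 9), [(1, 0, 0)]), ((10, 10), [(1, 0, 0)]), ((11, 11), [(1, 0, 0)]), ((12, 12), [(1, 0, 0)]), ((13, 13), [(1, 0, 0)]), ((14, 14), [(1, 0, 0)]), ((15, 15), [(1, 0, 0)]), ((16, 16), [(1, 0, 0)]), ((17, 17), [(1, 0, 0)]), ((18, 18), [(1, 0, 0)]), ((19, 19), [(1, 0, 0)]), ((20, 20), [(1, 0, 0)]), ((21, 21), [(1, 0, 0)]), ((22, 22), [(1, 0, 0)]), ((23, 23), [(1, 0, 0)]), ((24, 24), [(1, 0, 0)]), ((25, 25), [(1, 0, 0)]), ((14, 2), [(1, 1, 0)]), ((18, 3), [(1, 1, 0)]), ((21, 5), [(-1, 1, 0)]), ((22, 6), [(1, 1, 0)]), ((24, 9), [(-1, 1, 0)]),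 ((25, 13), [(-1, 1, 0)])]
theorem f4_root45 : rootFast 45 LX45 LF45 = true := by decide +kernel

/-- the root matrix -/
def LF46 : SMat := [((0, 0), [(1, 0, 0)]), ((1, 1), [(1, 0, 0)]), ((2, 2), [(1, 0, 0)]), ((3, 3), [(1, 0, 0)]), ((4, 4), [(1, 0, 0)]), ((5, 5), [(1, 0, 0)]), ((6, 6), [(1, 0, 0)]), ((7, 7), [(1, 0, 0)]), ((8, 8), [(1, 0, 0)]), ((9, 9), [(1, 0, 0)]), ((10, 10), [(1, 0, 0)]), ((11, 11), [(1, 0, 0)]), ((12, 12), [(1, 0, 0)]), ((13, 13), [(1, 0, 0)]), ((14, 14), [(1, 0, 0)]), ((15, 15), [(1, 0, 0)]), ((16, 16), [(1, 0, 0)]), ((17, 17), [(1, 0, 0)]), ((18, 18), [(1, 0, 0)]), ((19, 19), [(1, 0, 0)]), ((20, 20), [(1, 0, 0)]), ((21, 21), [(1, 0, 0)]), ((22, 22), [(1, 0, 0)]), ((23, 23), [(1, 0, 0)]), ((24, 24), [(1, 0, 0)]), ((25, 25), [(1, 0, 0)]), ((26, 26), [(1, 0,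 0)]), ((27, 27), [(1, 0, 0)]), ((28, 28), [(1, 0, 0)]), ((29, 29), [(1, 0, 0)]), ((30, 30), [(1, 0, 0)]), ((31, 31), [(1, 0, 0)]), ((32, 32), [(1, 0, 0)]), ((33, 33), [(1, 0, 0)]), ((34, 34), [(1, 0, 0)]), ((35, 35), [(1, 0, 0)]), ((36, 36), [(1, 0, 0)]), ((37, 37), [(1, 0, 0)]), ((38, 38), [(1, 0, 0)]), ((39, 39), [(1, 0, 0)]), ((40, 40), [(1, 0, 0)]), ((41, 41), [(1, 0, 0)]), ((42, 42), [(1, 0, 0)]), ((43, 43), [(1, 0, 0)]), ((44, 44), [(1, 0, 0)]), ((45, 45), [(1, 0, 0)]), ((46, 46), [(1, 0, 0)]), ((47, 47), [(1, 0, 0)]), ((48, 48), [(1, 0, 0)]), ((49, 49), [(1, 0, 0)]), ((50, 50), [(1, 0, 0)]), ((51, 51), [(1, 0, 0)]), ((50, 0), [(0, 1, 0)]), ((50, 1), [(0, 1, 0)]), ((50, 2), [(-1, 1, 0)]), ((50, 3), [(1, 1, 0)]), ((0, 5), [(1, 1, 0)]), ((1, 5), [(2, 1, 0)]), ((2, 5), [(3,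 1, 0)]), ((3, 5), [(1, 1, 0)]), ((50, 5), [(-1, 2, 0)]), ((27, 4), [(1, 1, 0)]), ((29, 6), [(1, 1, 0)]), ((32, 7), [(1, 1, 0)]), ((34, 8), [(-1, 1, 0)]), ((36, 10), [(1, 1, 0)]), ((39, 11), [(1, 1, 0)]), ((41, 12), [(-1, 1, 0)]), ((43, 14), [(1, 1, 0)]), ((44, 16), [(-1, 1, 0)]), ((45, 19), [(-1, 1, 0)]), ((47, 21), [(1, 1, 0)]), ((48, 23), [(-1, 1, 0)]), ((49, 26), [(-1, 1, 0)]), ((51, 28), [(-1, 1, 0)])]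
/-- its block -/
def LX46 : SMat := [((0, 0), [(1, 0, 0)]), ((1, 1), [(1, 0, 0)]), ((2, 2), [(1, 0, 0)]), ((3, 3), [(1, 0, 0)]), ((4, 4), [(1, 0, 0)]), ((5, 5), [(1, 0, 0)]), ((6, 6), [(1, 0, 0)]), ((7, 7), [(1, 0, 0)]), ((8, 8), [(1, 0, 0)]), ((9, 9), [(1, 0, 0)]), ((10, 10), [(1, 0, 0)]), ((11, 11), [(1, 0, 0)]), ((12, 12), [(1, 0, 0)]), ((13, 13), [(1, 0, 0)]), ((14, 14), [(1, 0, 0)]), ((15, 15), [(1, 0, 0)]), ((16, 16), [(1, 0, 0)]), ((17, 17), [(1, 0, 0)]), ((18, 18), [(1, 0, 0)]), ((19, 19), [(1, 0, 0)]), ((20, 20), [(1, 0, 0)]), ((21, 21), [(1, 0, 0)]), ((22, 22), [(1, 0, 0)]), ((23, 23), [(1, 0, 0)]), ((24, 24), [(1, 0, 0)]), ((25, 25), [(1, 0, 0)]), ((15, 2), [(1, 1, 0)]), ((19, 3), [(1, 1, 0)]), ((21, 4), [(-1, 1, 0)]), ((23, 6), [(1, 1, 0)]), ((24, 8), [(-1, 1, 0)]),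 ((25, 12), [(-1, 1, 0)])]
theorem f4_root46 : rootFast 46 LX46 LF46 = true := by decide +kernel

/-- the root matrix -/
def LF47 : SMat := [((0, 0), [(1, 0, 0)]), ((1, 1), [(1, 0, 0)]), ((2, 2), [(1, 0, 0)]), ((3, 3), [(1, 0, 0)]), ((4, 4), [(1, 0, 0)]), ((5, 5), [(1, 0, 0)]), ((6, 6), [(1, 0, 0)]), ((7, 7), [(1, 0, 0)]), ((8, 8), [(1, 0, 0)]), ((9, 9), [(1, 0, 0)]), ((10, 10), [(1, 0, 0)]), ((11, 11), [(1, 0, 0)]), ((12, 12), [(1, 0, 0)]), ((13, 13), [(1, 0, 0)]), ((14, 14), [(1, 0, 0)]), ((15, 15), [(1, 0, 0)]), ((16, 16), [(1, 0, 0)]), ((17, 17), [(1, 0, 0)]), ((18, 18), [(1, 0, 0)]), ((19, 19), [(1, 0, 0)]), ((20, 20), [(1, 0, 0)]), ((21, 21), [(1, 0, 0)]), ((22, 22), [(1, 0, 0)]), ((23, 23), [(1, 0, 0)]), ((24, 24), [(1, 0, 0)]), ((25, 25), [(1, 0, 0)]), ((26, 26), [(1, 0,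 0)]), ((27, 27), [(1, 0, 0)]), ((28, 28), [(1, 0, 0)]), ((29, 29), [(1, 0, 0)]), ((30, 30), [(1, 0, 0)]), ((31, 31), [(1, 0, 0)]), ((32, 32), [(1, 0, 0)]), ((33, 33), [(1, 0, 0)]), ((34, 34), [(1, 0, 0)]), ((35, 35), [(1, 0, 0)]), ((36, 36), [(1, 0, 0)]), ((37, 37), [(1, 0, 0)]), ((38, 38), [(1, 0, 0)]), ((39, 39), [(1, 0, 0)]), ((40, 40), [(1, 0, 0)]), ((41, 41), [(1, 0, 0)]), ((42, 42), [(1, 0, 0)]), ((43, 43), [(1, 0, 0)]), ((44, 44), [(1, 0, 0)]), ((45, 45), [(1, 0, 0)]), ((46, 46), [(1, 0, 0)]), ((47, 47), [(1, 0, 0)]), ((48, 48), [(1, 0, 0)]), ((49, 49), [(1, 0, 0)]), ((50, 50), [(1, 0, 0)]), ((51, 51), [(1, 0, 0)]), ((51, 0), [(0, 1, 0)]), ((51, 1), [(0, 1, 0)]), ((51, 2), [(0, 1, 0)]), ((51, 3), [(-1, 1, 0)]), ((0, 4), [(1, 1, 0)]), ((1, 4), [(2, 1, 0)]), ((2, 4), [(3,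 1, 0)]), ((3, 4), [(2, 1, 0)]), ((51, 4), [(-1, 2, 0)]), ((28, 5), [(1, 1, 0)]), ((30, 6), [(1, 1, 0)]), ((33, 7), [(1, 1, 0)]), ((35, 8), [(-1, 1, 0)]), ((36, 9), [(1, 1, 0)]), ((40, 11), [(1, 1, 0)]), ((42, 12), [(-1, 1, 0)]), ((43, 13), [(1, 1, 0)]), ((44, 15), [(-1, 1, 0)]), ((46, 19), [(-1, 1, 0)]), ((47, 20), [(1, 1, 0)]), ((48, 22), [(-1, 1, 0)]), ((49, 25), [(-1, 1, 0)]), ((50, 27), [(-1, 1, 0)])]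
/-- its block -/
def LX47 : SMat := [((0, 0), [(1, 0, 0)]), ((1, 1), [(1, 0, 0)]), ((2, 2), [(1, 0, 0)]), ((3, 3), [(1, 0, 0)]), ((4, 4), [(1, 0, 0)]), ((5, 5), [(1, 0, 0)]), ((6, 6), [(1, 0, 0)]), ((7, 7), [(1, 0, 0)]), ((8, 8), [(1, 0, 0)]), ((9, 9), [(1, 0, 0)]), ((10, 10), [(1, 0, 0)]), ((11, 11), [(1, 0, 0)]), ((12, 12), [(1, 0, 0)]), ((13, 13), [(1, 0, 0)]), ((14, 14), [(1, 0, 0)]), ((15, 15), [(1, 0, 0)]), ((16, 16), [(1, 0, 0)]), ((17, 17), [(1, 0, 0)]), ((18, 18), [(1, 0, 0)]), ((19, 19), [(1, 0, 0)]), ((20, 20), [(1, 0, 0)]), ((21, 21), [(1, 0, 0)]), ((22, 22), [(1, 0, 0)]), ((23, 23), [(1, 0, 0)]), ((24, 24), [(1, 0, 0)]), ((25, 25), [(1, 0, 0)]), ((16, 2), [(1, 1, 0)]), ((20, 3), [(1, 1, 0)]), ((22, 4), [(-1, 1, 0)]), ((23, 5), [(1, 1, 0)]), ((24, 7), [(-1, 1, 0)]),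 ((25, 11), [(-1, 1, 0)])]
theorem f4_root47 : rootFast 47 LX47 LF47 = true := by decide +kernel

theorem f4_rootsD : ∀ r, 36 ≤ r → r < 48 → ∃ X XF, rootFast r X XF = true := by
  intro r h1 h2
  interval_cases r
  · exact ⟨_, _, f4_root36⟩
  · exact ⟨_, _, f4_root37⟩
  · exact ⟨_, _, f4_root38⟩
  · exact ⟨_, _, f4_root39⟩
  · exact ⟨_, _, f4_root40⟩
  · exact ⟨_, _, f4_root41⟩
  · exact ⟨_, _, f4_root42⟩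
  · exact ⟨_, _, f4_root43⟩
  · exact ⟨_, _, f4_root44⟩
  · exact ⟨_, _, f4_root45⟩
  · exact ⟨_, _, f4_root46⟩
  · exact ⟨_, _, f4_root47⟩

end Cfsg.Agent.Lib.LieTwisted.Isogeny
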