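import Cfsg.Agent.Lib.LieTwisted.IsogenyF4RootA
import Cfsg.Agent.Lib.LieTwisted.IsogenyF4RootB
import Cfsg.Agent.Lib.LieTwisted.IsogenyF4RootC
import Cfsg.Agent.Lib.LieTwisted.IsogenyF4RootD

/-!
The exceptional isogeny of F4 in characteristic 2: the short roots and two coroots span the ideal,
the long roots and the other two coroots the quotient.
-/

set_option autoImplicit false

namespace Cfsg.Agent.Lib.LieTwisted.Isogeny

open Cfsg.Lie Sparse SparseRoot

theorem testBit_parP (k : ℕ × ℕ) (P : Poly) (acc c : ℕ) :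
    (parP k P acc).testBit c =
      ((decide ((((P.filter fun m => decide (codeOf k m.2 = c)).map Prod.fst).sum) % 2 = 1)) ^^ acc.testBit c) := by
  induction P with
  | nil => simp [parP]
  | cons m P ih =>
    have h : parP k (m :: P) acc = cond (Nat.beq (m.1.natAbs % 2) 1)
        (Nat.xor (Nat.shiftLeft 1 (codeOf k m.2)) (parP k P acc)) (parP k P acc) := rfl
    have hb : Nat.beq (m.1.natAbs % 2) 1 = decide (m.1 % 2 = 1) := by
      rw [Bool.eq_iff_iff, Nat.beq_eq, decide_eq_true_eq]; omega
    rw [h, hb]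
    generalize hs : (((P.filter fun x => decide (codeOf k x.2 = c)).map Prod.fst).sum) = s at ih
    by_cases ho : m.1 % 2 = 1
    · simp only [ho, decide_true, cond_true]
      show ((1 <<< codeOf k m.2) ^^^ parP k P acc).testBit c = _
      rw [Nat.testBit_xor, ih, Nat.one_shiftLeft, Nat.testBit_two_pow]
      by_cases hc : codeOf k m.2 = c
      · have : decide ((m.1 + s) % 2 = 1) = !decide (s % 2 = 1) := by
          rw [← decide_not]; exact decide_eq_decide.2 (by omega)
        simp [hc, hs, this]
      · simp [hc, hs]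
    · simp only [ho, decide_false, cond_false]
      rw [ih]
      by_cases hc : codeOf k m.2 = c
      · have : decide ((m.1 + s) % 2 = 1) = decide (s % 2 = 1) := decide_eq_decide.2 (by omega)
        simp [hc, hs, this]
      · simp [hc, hs]

/-- The coefficient sum at a bit position. -/
def bitSum (A : SMat) (c : ℕ) : ℤ :=
  (A.map fun e => (((e.2.filter fun m => decide (codeOf e.1 m.2 = c)).map Prod.fst).sum)).sum

theorem testBit_par (A : SMat) (c : ℕ) : (par A).testBit c = decide (bitSum A c % 2 = 1) := by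
  induction A with
  | nil => simp [par, bitSum]
  | cons e A ih =>
    have h : par (e :: A) = parP e.1 e.2 (par A) := rfl
    rw [h, testBit_parP, ih]
    simp only [bitSum, List.map_cons, List.sum_cons]
    rw [Bool.eq_iff_iff]
    have key : ∀ a b : ℤ, (decide (a % 2 = 1) ^^ decide (b % 2 = 1)) = true ↔ decide ((a + b) % 2 = 1) = true := by
      intro a b
      by_cases ha : a % 2 = 1 <;> by_cases hb : b % 2 = 1 <;> simp [ha, hb] <;> omega
    exact key _ _

theorem bitSum_at {A : SMat} (hok : okS A = true) {k : ℕ × ℕ} (hk : k.1 < 64 ∧ k.2 < 64) {m : ℕ × ℕ} (hm : m.2 = 0) :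
    ((((A.at' k).filter fun n => decide (n.2 = m))).map Prod.fst).sum = bitSum A (codeOf k m) := by
  induction A with
  | nil => rfl
  | cons e A ih =>
    simp only [okS, List.all_cons, Bool.and_eq_true, List.all_eq_true, Nat.blt_eq, Nat.beq_eq] at hok
    obtain ⟨⟨⟨h1, h2⟩, h3⟩, hA⟩ := hok
    have ih' := ih (by simpa [okS] using hA)
    have key : ∀ n ∈ e.2, (codeOf e.1 n.2 = codeOf k m ↔ e.1 = k ∧ n.2 = m) := by
      intro n hn
      have := h3 n hn
      constructor
      · intro h
        simp only [codeOf] at h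
        obtain ⟨hk1, hk2⟩ := hk
        exact ⟨Prod.ext (by omega) (by omega), Prod.ext (by omega) (by omega)⟩
      · rintro ⟨rfl, rfl⟩; rfl
    simp only [bitSum, List.map_cons, List.sum_cons, SMat.at'] at ih' ⊢
    by_cases he : e.1 = k
    · rw [List.filter_cons_of_pos (by simpa using he), List.flatMap_cons, List.filter_append, List.map_append,
        List.sum_append, ih']
      congr 3
      refine List.filter_congr fun n hn => decide_eq_decide.2 ?_
      rw [key n hn]; simp [he]
    · rw [List.filter_cons_of_neg (by simpa using he), ih',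
        List.filter_eq_nil_iff.2 fun n hn => by simp [key n hn, he]]
      simp

theorem isZero2_sound {A : SMat} (h : isZero2 A = true) : A.isZero 2 = true := by
  simp only [isZero2, Bool.and_eq_true, Nat.beq_eq] at h
  obtain ⟨hok, hp⟩ := h
  simp only [SMat.isZero, Poly.isZero, List.all_eq_true, decide_eq_true_eq]
  intro e he m hm
  have hok' := hok
  simp only [okS, List.all_eq_true, Bool.and_eq_true, Nat.blt_eq, Nat.beq_eq] at hok'
  have hk := (hok' e he).1
  obtain ⟨e', he', hm'⟩ : ∃ e' ∈ A, m ∈ e'.2 := by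
    simp only [SMat.at', List.mem_flatMap, List.mem_filter] at hm
    obtain ⟨e', ⟨he', -⟩, hm'⟩ := hm
    exact ⟨e', he', hm'⟩
  rw [bitSum_at hok hk ((hok' e' he').2 m hm')]
  have := testBit_par A (codeOf e.1 m.2)
  rw [hp, Nat.zero_testBit] at this
  have := (decide_eq_false_iff_not).1 this.symm
  omega

theorem beqMod_of_fast {A B : SMat} (h : isZero2 (A ++ B.neg) = true) : A.beqMod 2 B = true := isZero2_sound h

theorem mulFast_eq (A B : SMat) : mulFast A B = A.mul B := by
  simp only [mulFast, SMat.mul]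
  congr 1
  funext a
  congr 1
  exact List.filter_congr fun b _ => by rw [Bool.eq_iff_iff, Nat.beq_eq, decide_eq_true_eq]

theorem pushFast_eq {X : SMat} (hX : X.inRange (dim chevF4) = true) (z : ℕ) :
    pushFast LA X z = pushS chevF4 dataF4.I X z := by
  simp only [SMat.inRange, List.all_eq_true, decide_eq_true_eq] at hX
  simp only [pushFast, pushS]
  rw [List.filter_congr fun e _ => show Nat.beq e.1.2 z = decide (e.1.2 = z) by
    rw [Bool.eq_iff_iff, Nat.beq_eq, decide_eq_true_eq]]
  simp only [List.flatMap]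
  congr 1
  refine List.map_congr_left fun e he => ?_
  rw [LA_eq _ (hX e (List.mem_filter.1 he).1).1]

theorem f4_roots : ∀ r < chevF4.nroots, ∃ X XF, rootFast r X XF = true := by
  intro r hr
  have hr' : r < 48 := hr
  rcases Nat.lt_or_ge r 12 with h | h
  · exact f4_rootsA r (Nat.zero_le r) h
  rcases Nat.lt_or_ge r 24 with h' | h'
  · exact f4_rootsB r h h'
  rcases Nat.lt_or_ge r 36 with h'' | h''
  · exact f4_rootsC r h' h''
  exact f4_rootsD r h'' hr'

theorem f4_cert : ((List.range (dim chevF4)).all fun w => (List.range (dim chevF4)).all fun z =>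
    decide ((funS (dataF4.cert.getD w []) (LA.getD z []) - (if w = z then 1 else 0)) % (2 : ℤ) = 0)) = true := by
  decide +kernel

theorem dataF4_good : Good chevF4 dataF4 where
  ndI := by decide
  ndQ := by decide
  len := rfl
  ltI := by decide
  ltQ := by decide
  cover := by decide
  root r hr := by
    obtain ⟨X, XF, h⟩ := f4_roots r hr
    simp only [rootFast, Bool.and_eq_true, decide_eq_true_eq] at h
    exact h.1.1.1.1.1.1.1
  wf r hr := by
    obtain ⟨X, XF, h⟩ := f4_roots r hr
    simp only [rootFast, Bool.and_eq_true] at h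
    exact h.1.1.1.1.1.1.2
  inv r hr := by
    obtain ⟨X, XF, h⟩ := f4_roots r hr
    simp only [rootFast, Bool.and_eq_true, decide_eq_true_eq] at h
    obtain ⟨⟨⟨⟨⟨⟨⟨-, hw⟩, hF⟩, -⟩, hi⟩, -⟩, -⟩, -⟩ := h
    subst hF
    rw [mulFast_eq] at hi
    simp only [sameWord, List.all_cons, List.all_nil, hw, Bool.true_and, Bool.and_true, wordS]
    exact beqMod_of_fast hi
  tri r hr e he := by
    obtain ⟨X, XF, h⟩ := f4_roots r hr
    simp only [rootFast, Bool.and_eq_true, decide_eq_true_eq] at h
    obtain ⟨⟨⟨⟨⟨⟨⟨-, -⟩, hF⟩, -⟩, -⟩, ht⟩, -⟩, -⟩ := h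
    subst hF
    have := List.all_eq_true.1 ht e he
    simpa [or_assoc, show dataF4.p = 2 from rfl] using this
  iso r hr := by
    obtain ⟨X, XF, h⟩ := f4_roots r hr
    simp only [rootFast, Bool.and_eq_true, decide_eq_true_eq] at h
    obtain ⟨⟨⟨⟨⟨⟨⟨-, -⟩, hF⟩, -⟩, -⟩, -⟩, hi⟩, -⟩ := h
    subst hF
    exact beqMod_of_fast hi
  aut r hr z hz := by
    obtain ⟨X, XF, h⟩ := f4_roots r hr
    simp only [rootFast, Bool.and_eq_true, decide_eq_true_eq] at h
    obtain ⟨⟨⟨⟨⟨⟨⟨-, hw⟩, hF⟩, hX⟩, -⟩, -⟩, -⟩, ha⟩ := h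
    subst hX
    subst hF
    have := List.all_eq_true.1 ha z (List.mem_range.2 hz)
    rw [mulFast_eq, mulFast_eq, pushFast_eq (xS_inRange chevF4 hw _), ← LA_eq z hz] at this
    exact beqMod_of_fast this
  cert w hw z hz := by
    have h := List.all_eq_true.1 (List.all_eq_true.1 f4_cert w (List.mem_range.2 hw)) z (List.mem_range.2 hz)
    rw [decide_eq_true_eq, ← LA_eq z hz] at h
    exact h

theorem dataF4_disj : ∀ k ∈ dataF4.Q, k ∉ dataF4.I := by decide

end Cfsg.Agent.Lib.LieTwisted.Isogeny
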