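import Cfsg.Agent.Lib.LieTwisted.Isogeny
import Cfsg.Prelude.Def_LieTypes

/-!
Data and fast checks for the exceptional isogeny of F4 in characteristic 2: the short roots and two coroots span the ideal,
the long roots and the other two coroots the quotient.
-/

set_option autoImplicit false
set_option maxRecDepth 100000

namespace Cfsg.Agent.Lib.LieTwisted.Isogeny

open Cfsg.Lie Sparse SparseRoot

/-- The isogeny data of F4 in characteristic 2. -/
def dataF4 : Data where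
  p := 2
  I := [0, 1, 7, 11, 12, 13, 14, 15, 16, 17, 18, 22, 23, 24, 31, 32, 33, 37, 38, 39, 40, 41, 42, 43, 44, 48]
  Q := [3, 2, 4, 5, 6, 8, 19, 9, 20, 25, 27, 10, 21, 26, 29, 34, 45, 28, 30, 35, 46, 36, 47, 49, 50, 51]
  rho := [3, 7, 8, 0, 9, 11, 18, 1, 2, 4, 15, 5, 16, 21, 23, 10, 12, 19, 6, 17, 22, 13, 20, 14, 33, 27, 34, 25, 30, 41, 28, 35, 37, 24, 26, 31, 42, 32, 43, 45, 46, 29, 36, 38, 47, 39, 40, 44]
  lam := [1, 1, 1, 2, 1, 1, 1, 2, 2, 2, 2, 2, 2, 2, 2, 1, 1, 1, 2, 2, 2, 1, 1, 1, 1, 1, 1, 2, 2, 2, 1, 1, 1, 2, 2, 2, 2, 2, 2, 2, 2, 1, 1, 1, 2, 1, 1, 1]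
  cert := [[((2, 2), 1)],
    [((2, 2), 1), ((3, 3), 1)],
    [((2, 2), 1), ((3, 3), 1), ((4, 4), 1)],
    [((4, 4), 1), ((5, 5), 1)],
    [((2, 16), 1)],
    [((2, 15), 1)],
    [((2, 14), 1)],
    [((1, 25), 1)],
    [((2, 13), 1)],
    [((2, 12), 1)],
    [((2, 11), 1)],
    [((0, 24), 1)],
    [((0, 23), 1)],
    [((0, 22), 1)],
    [((0, 21), 1)],
    [((0, 20), 1)],
    [((0, 19), 1)],
    [((0, 18), 1)],
    [((0, 17), 1)],
    [((3, 9), 1)],
    [((3, 8), 1)],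
    [((3, 7), 1)],
    [((1, 16), 1)],
    [((1, 15), 1)],
    [((1, 14), 1)],
    [((4, 6), 1)],
    [((4, 5), 1)],
    [((5, 6), 1)],
    [((6, 5), 1)],
    [((5, 4), 1)],
    [((6, 4), 1)],
    [((1, 13), 1)],
    [((1, 12), 1)],
    [((1, 11), 1)],
    [((7, 3), 1)],
    [((8, 3), 1)],
    [((9, 3), 1)],
    [((0, 10), 1)],
    [((0, 9), 1)],
    [((0, 8), 1)],
    [((0, 7), 1)],
    [((0, 6), 1)],
    [((0, 5), 1)],
    [((0, 4), 1)],
    [((0, 3), 1)],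
    [((11, 2), 1)],
    [((12, 2), 1)],
    [((13, 2), 1)],
    [((1, 2), 1)],
    [((14, 2), 1)],
    [((15, 2), 1)],
    [((16, 2), 1)]]

/-- The bit position of a monomial at a position. -/
def codeOf (k : ℕ × ℕ) (e : ℕ × ℕ) : ℕ := (e.1 * 64 + k.1) * 64 + k.2

/-- The parities of the coefficients, one bit for each monomial. -/
def parP (k : ℕ × ℕ) (P : Poly) (acc : ℕ) : ℕ :=
  P.foldr (fun m acc =>
    cond (Nat.beq (m.1.natAbs % 2) 1) (Nat.xor (Nat.shiftLeft 1 (codeOf k m.2)) acc) acc) acc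

/-- The parities of all entries. -/
def par (A : SMat) : ℕ := A.foldr (fun e acc => parP e.1 e.2 acc) 0

/-- All indices are small enough for `codeOf` to be injective. -/
def okS (A : SMat) : Bool :=
  A.all fun e => Nat.blt e.1.1 64 && Nat.blt e.1.2 64 && e.2.all fun m => Nat.beq m.2.2 0

/-- A fast test for vanishing modulo two. -/
def isZero2 (A : SMat) : Bool := okS A && Nat.beq (par A) 0

/-- Multiplication with accelerated comparisons. -/
def mulFast (A B : SMat) : SMat :=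
  A.flatMap fun a => (B.filter fun b => Nat.beq a.1.2 b.1.1).map fun b => ((a.1.1, b.1.2), a.2.mul b.2)

/-- The right-hand side read from a table. -/
def pushFast (T : List SMat) (X : SMat) (z : ℕ) : SMat :=
  (X.filter fun e => Nat.beq e.1.2 z).flatMap fun e => scaleS e.2 (T.getD e.1.1 [])

/-- ad of basis vector 0 on the ideal -/
def LA0 : SMat := [((2, 2), [(-1, 0, 0)]), ((3, 3), [(1, 0, 0)]), ((4, 4), [(0, 0, 0)]), ((5, 5), [(0, 0, 0)]), ((6, 6), [(0, 0, 0)]), ((7, 7), [(-1, 0, 0)]), ((8, 8), [(-1, 0, 0)]), ((9, 9), [(-1, 0, 0)]), ((10, 10), [(-2, 0, 0)]), ((11, 11), [(1, 0, 0)]), ((12, 12), [(1, 0, 0)]), ((13, 13), [(1, 0, 0)]), ((14, 14), [(-1, 0, 0)]), ((15, 15), [(-1, 0, 0)]), ((16, 16), [(-1, 0, 0)]), ((17, 17), [(2, 0, 0)]), ((18, 18), [(1, 0, 0)]), ((19, 19), [(1, 0, 0)]), ((20, 20), [(1, 0, 0)]), ((21, 21), [(0, 0, 0)]), ((22, 22), [(0, 0, 0)]), ((23, 23), [(0, 0, 0)]), ((24, 24), [(-1, 0, 0)]),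 ((25, 25), [(1, 0, 0)])]
/-- ad of basis vector 1 on the ideal -/
def LA1 : SMat := [((2, 2), [(0, 0, 0)]), ((3, 3), [(-1, 0, 0)]), ((4, 4), [(1, 0, 0)]), ((5, 5), [(-1, 0, 0)]), ((6, 6), [(-1, 0, 0)]), ((7, 7), [(1, 0, 0)]), ((8, 8), [(1, 0, 0)]), ((9, 9), [(-1, 0, 0)]), ((10, 10), [(1, 0, 0)]), ((11, 11), [(0, 0, 0)]), ((12, 12), [(0, 0, 0)]), ((13, 13), [(-2, 0, 0)]), ((14, 14), [(2, 0, 0)]), ((15, 15), [(0, 0, 0)]), ((16, 16), [(0, 0, 0)]), ((17, 17), [(-1, 0, 0)]), ((18, 18), [(1, 0, 0)]), ((19, 19), [(-1, 0, 0)]), ((20, 20), [(-1, 0, 0)]), ((21, 21), [(1, 0, 0)]), ((22, 22), [(1, 0, 0)]), ((23, 23), [(-1, 0, 0)]), ((24, 24), [(1, 0, 0)]), ((25, 25), [(0, 0, 0)])]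
/-- ad of basis vector 2 on the ideal -/
def LA2 : SMat := [((2, 2), [(0, 0, 0)]), ((3, 3), [(0, 0, 0)]), ((4, 4), [(-1, 0, 0)]), ((5, 5), [(1, 0, 0)]), ((6, 6), [(0, 0, 0)]), ((7, 7), [(0, 0, 0)]), ((8, 8), [(-1, 0, 0)]), ((9, 9), [(1, 0, 0)]), ((10, 10), [(0, 0, 0)]), ((11, 11), [(0, 0, 0)]), ((12, 12), [(-1, 0, 0)]), ((13, 13), [(1, 0, 0)]), ((14, 14), [(-1, 0, 0)]), ((15, 15), [(1, 0, 0)]), ((16, 16), [(0, 0, 0)]), ((17, 17), [(0, 0, 0)]), ((18, 18), [(-1, 0, 0)]), ((19, 19), [(1, 0, 0)]), ((20, 20), [(0, 0, 0)]), ((21, 21), [(0, 0, 0)]), ((22, 22), [(-1, 0, 0)]), ((23, 23), [(1, 0, 0)]), ((24, 24), [(0, 0, 0)]), ((25, 25), [(0, 0, 0)])]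
/-- ad of basis vector 3 on the ideal -/
def LA3 : SMat := [((2, 2), [(0, 0, 0)]), ((3, 3), [(0, 0, 0)]), ((4, 4), [(0, 0, 0)]), ((5, 5), [(-1, 0, 0)]), ((6, 6), [(1, 0, 0)]), ((7, 7), [(-1, 0, 0)]), ((8, 8), [(1, 0, 0)]), ((9, 9), [(0, 0, 0)]), ((10, 10), [(0, 0, 0)]), ((11, 11), [(-1, 0, 0)]), ((12, 12), [(1, 0, 0)]), ((13, 13), [(0, 0, 0)]), ((14, 14), [(0, 0, 0)]), ((15, 15), [(-1, 0, 0)]), ((16, 16), [(1, 0, 0)]), ((17, 17), [(0, 0, 0)]), ((18, 18), [(0, 0, 0)]), ((19, 19), [(-1, 0, 0)]), ((20, 20), [(1, 0, 0)]), ((21, 21), [(-1, 0, 0)]), ((22, 22), [(1, 0, 0)]), ((23, 23), [(0, 0, 0)]), ((24, 24), [(0, 0, 0)]), ((25, 25), [(0, 0, 0)])]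
/-- ad of basis vector 4 on the ideal -/
def LA4 : SMat := [((0, 0), []), ((1, 1), []), ((2, 2), []), ((3, 3), []), ((4, 4), []), ((5, 5), []), ((6, 6), []), ((7, 7), []), ((8, 8), []), ((9, 9), []), ((10, 10), []), ((11, 11), []), ((12, 12), []), ((13, 13), []), ((14, 14), []), ((15, 15), []), ((16, 16), []), ((17, 17), []), ((18, 18), []), ((19, 19), []), ((20, 20), []), ((21, 21), []), ((22, 22), []), ((23, 23), []), ((24, 24), []), ((25, 25), []), ((2, 16), [(1, 0, 0)]), ((3, 20), [(1, 0, 0)]), ((4, 22), [(-1, 0, 0)]), ((5, 23), [(1, 0, 0)]), ((7, 24), [(-1, 0, 0)]), ((11, 25), [(-1, 0, 0)])]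
/-- ad of basis vector 5 on the ideal -/
def LA5 : SMat := [((0, 0), []), ((1, 1), []), ((2, 2), []), ((3, 3), []), ((4, 4), []), ((5, 5), []), ((6, 6), []), ((7, 7), []), ((8, 8), []), ((9, 9), []), ((10, 10), []), ((11, 11), []), ((12, 12), []), ((13, 13), []), ((14, 14), []), ((15, 15), []), ((16, 16), []), ((17, 17), []), ((18, 18), []), ((19, 19), []), ((20, 20), []), ((21, 21), []), ((22, 22), []), ((23, 23), []), ((24, 24), []), ((25, 25), []), ((2, 15), [(1, 0, 0)]), ((3, 19), [(1, 0, 0)]), ((4, 21), [(-1, 0, 0)]), ((6, 23), [(1, 0, 0)]), ((8, 24), [(-1, 0, 0)]), ((12, 25), [(-1, 0, 0)])]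
/-- ad of basis vector 6 on the ideal -/
def LA6 : SMat := [((0, 0), []), ((1, 1), []), ((2, 2), []), ((3, 3), []), ((4, 4), []), ((5, 5), []), ((6, 6), []), ((7, 7), []), ((8, 8), []), ((9, 9), []), ((10, 10), []), ((11, 11), []), ((12, 12), []), ((13, 13), []), ((14, 14), []), ((15, 15), []), ((16, 16), []), ((17, 17), []), ((18, 18), []), ((19, 19), []), ((20, 20), []), ((21, 21), []), ((22, 22), []), ((23, 23), []), ((24, 24), []), ((25, 25), []), ((2, 14), [(1, 0, 0)]), ((3, 18), [(1, 0, 0)]), ((5, 21), [(-1, 0, 0)]), ((6, 22), [(1, 0, 0)]), ((9, 24), [(-1, 0, 0)]), ((13, 25), [(-1, 0, 0)])]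
/-- ad of basis vector 7 on the ideal -/
def LA7 : SMat := [((0, 0), []), ((1, 1), []), ((2, 2), []), ((3, 3), []), ((4, 4), []), ((5, 5), []), ((6, 6), []), ((7, 7), []), ((8, 8), []), ((9, 9), []), ((10, 10), []), ((11, 11), []), ((12, 12), []), ((13, 13), []), ((14, 14), []), ((15, 15), []), ((16, 16), []), ((17, 17), []), ((18, 18), []), ((19, 19), []), ((20, 20), []), ((21, 21), []), ((22, 22), []), ((23, 23), []), ((24, 24), []), ((25, 25), []), ((2, 0), [(1, 0, 0)]), ((2, 1), [(0, 0, 0)]), ((0, 25), [(-2, 0, 0)]), ((1, 25), [(-3, 0, 0)]), ((2, 25), []), ((3, 17), [(1, 0, 0)]), ((4, 18), [(1, 0, 0)]), ((5, 19), [(-1, 0, 0)]), ((6, 20), [(1, 0, 0)]), ((7, 21), [(-1, 0, 0)]), ((8, 22), [(1, 0, 0)]), ((9, 23), [(-1, 0, 0)]), ((10, 24), [(-1, 0, 0)])]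
/-- ad of basis vector 8 on the ideal -/
def LA8 : SMat := [((0, 0), []), ((1, 1), []), ((2, 2), []), ((3, 3), []), ((4, 4), []), ((5, 5), []), ((6, 6), []), ((7, 7), []), ((8, 8), []), ((9, 9), []), ((10, 10), []), ((11, 11), []), ((12, 12), []), ((13, 13), []), ((14, 14), []), ((15, 15), []), ((16, 16), []), ((17, 17), []), ((18, 18), []), ((19, 19), []), ((20, 20), []), ((21, 21), []), ((22, 22), []), ((23, 23), []), ((24, 24), []), ((25, 25), []), ((2, 13), [(1, 0, 0)]), ((4, 17), [(1, 0, 0)]), ((7, 19), [(-1, 0, 0)]), ((8, 20), [(1, 0, 0)]), ((10, 23), [(-1, 0, 0)]), ((14, 25), [(-1, 0, 0)])]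
/-- ad of basis vector 9 on the ideal -/
def LA9 : SMat := [((0, 0), []), ((1, 1), []), ((2, 2), []), ((3, 3), []), ((4, 4), []), ((5, 5), []), ((6, 6), []), ((7, 7), []), ((8, 8), []), ((9, 9), []), ((10, 10), []), ((11, 11), []), ((12, 12), []), ((13, 13), []), ((14, 14), []), ((15, 15), []), ((16, 16), []), ((17, 17), []), ((18, 18), []), ((19, 19), []), ((20, 20), []), ((21, 21), []), ((22, 22), []), ((23, 23), []), ((24, 24), []), ((25, 25), []), ((2, 12), [(-1, 0, 0)]), ((5, 17), [(1, 0, 0)]), ((7, 18), [(-1, 0, 0)]), ((9, 20), [(1, 0, 0)]), ((10, 22), [(-1, 0, 0)]), ((15, 25), [(1, 0, 0)])]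
/-- ad of basis vector 10 on the ideal -/
def LA10 : SMat := [((0, 0), []), ((1, 1), []), ((2, 2), []), ((3, 3), []), ((4, 4), []), ((5, 5), []), ((6, 6), []), ((7, 7), []), ((8, 8), []), ((9, 9), []), ((10, 10), []), ((11, 11), []), ((12, 12), []), ((13, 13), []), ((14, 14), []), ((15, 15), []), ((16, 16), []), ((17, 17), []), ((18, 18), []), ((19, 19), []), ((20, 20), []), ((21, 21), []), ((22, 22), []), ((23, 23), []), ((24, 24), []), ((25, 25), []), ((2, 11), [(1, 0, 0)]), ((6, 17), [(1, 0, 0)]), ((8, 18), [(-1, 0, 0)]), ((9, 19), [(1, 0, 0)]), ((10, 21), [(-1, 0, 0)]), ((16, 25), [(-1, 0, 0)])]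
/-- ad of basis vector 11 on the ideal -/
def LA11 : SMat := [((0, 0), []), ((1, 1), []), ((2, 2), []), ((3, 3), []), ((4, 4), []), ((5, 5), []), ((6, 6), []), ((7, 7), []), ((8, 8), []), ((9, 9), []), ((10, 10), []), ((11, 11), []), ((12, 12), []), ((13, 13), []), ((14, 14), []), ((15, 15), []), ((16, 16), []), ((17, 17), []), ((18, 18), []), ((19, 19), []), ((20, 20), []), ((21, 21), []), ((22, 22), []), ((23, 23), []), ((24, 24), []), ((25, 25), []), ((3, 0), [(-1, 0, 0)]), ((3, 1), [(1, 0, 0)]), ((0, 24), [(-1, 0, 0)]), ((1, 24), [(-3, 0, 0)]), ((3, 24), []), ((2, 10), [(1, 0, 0)]), ((4, 14), [(1, 0, 0)]), ((5, 15), [(-1, 0, 0)]), ((6, 16), [(1, 0, 0)]), ((11, 21), [(-1, 0, 0)]), ((12, 22), [(1, 0, 0)]), ((13, 23), [(-1, 0, 0)]), ((17, 25), [(-1, 0, 0)])]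
/-- ad of basis vector 12 on the ideal -/
def LA12 : SMat := [((0, 0), []), ((1, 1), []), ((2, 2), []), ((3, 3), []), ((4, 4), []), ((5, 5), []), ((6, 6), []), ((7, 7), []), ((8, 8), []), ((9, 9), []), ((10, 10), []), ((11, 11), []), ((12, 12), []), ((13, 13), []), ((14, 14), []), ((15, 15), []), ((16, 16), []), ((17, 17), []), ((18, 18), []), ((19, 19), []), ((20, 20), []), ((21, 21), []), ((22, 22), []), ((23, 23), []), ((24, 24), []), ((25, 25), []), ((4, 0), [(0, 0, 0)]), ((4, 1), [(-1, 0, 0)]), ((0, 23), [(-1, 0, 0)]), ((1, 23), [(-2, 0, 0)]), ((4, 23), []), ((2, 9), [(1, 0, 0)]), ((3, 13), [(1, 0, 0)]), ((7, 15), [(1, 0, 0)]), ((8, 16), [(-1, 0, 0)]), ((11, 19), [(1, 0, 0)]), ((12, 20), [(-1, 0, 0)]), ((14, 24), [(-1, 0, 0)]), ((18, 25), [(-1, 0, 0)])]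
/-- ad of basis vector 13 on the ideal -/
def LA13 : SMat := [((0, 0), []), ((1, 1), []), ((2, 2), []), ((3, 3), []), ((4, 4), []), ((5, 5), []), ((6, 6), []), ((7, 7), []), ((8, 8), []), ((9, 9), []), ((10, 10), []), ((11, 11), []), ((12, 12), []), ((13, 13), []), ((14, 14), []), ((15, 15), []), ((16, 16), []), ((17, 17), []), ((18, 18), []), ((19, 19), []), ((20, 20), []), ((21, 21), []), ((22, 22), []), ((23, 23), []), ((24, 24), []), ((25, 25), []), ((5, 0), [(0, 0, 0)]), ((5, 1), [(1, 0, 0)]), ((0, 22), [(-1, 0, 0)]), ((1, 22), [(-2, 0, 0)]), ((5, 22), []), ((2, 8), [(-1, 0, 0)]), ((3, 12), [(-1, 0, 0)]), ((7, 14), [(1, 0, 0)]), ((9, 16), [(-1, 0, 0)]), ((11, 18), [(1, 0, 0)]), ((13, 20), [(-1, 0, 0)]), ((15, 24), [(1, 0, 0)]), ((19, 25), [(1, 0, 0)])]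
/-- ad of basis vector 14 on the ideal -/
def LA14 : SMat := [((0, 0), []), ((1, 1), []), ((2, 2), []), ((3, 3), []), ((4, 4), []), ((5, 5), []), ((6, 6), []), ((7, 7), []), ((8, 8), []), ((9, 9), []), ((10, 10), []), ((11, 11), []), ((12, 12), []), ((13, 13), []), ((14, 14), []), ((15, 15), []), ((16, 16), []), ((17, 17), []), ((18, 18), []), ((19, 19), []), ((20, 20), []), ((21, 21), []), ((22, 22), []), ((23, 23), []), ((24, 24), []), ((25, 25), []), ((6, 0), [(0, 0, 0)]), ((6, 1), [(1, 0, 0)]), ((0, 21), [(-1, 0, 0)]), ((1, 21), [(-2, 0, 0)]), ((6, 21), []), ((2, 7), [(1, 0, 0)]), ((3, 11), [(1, 0, 0)]), ((8, 14), [(1, 0, 0)]), ((9, 15), [(-1, 0, 0)]), ((12, 18), [(1, 0, 0)]), ((13, 19), [(-1, 0, 0)]), ((16, 24), [(-1, 0, 0)]), ((20, 25), [(-1, 0, 0)])]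
/-- ad of basis vector 15 on the ideal -/
def LA15 : SMat := [((0, 0), []), ((1, 1), []), ((2, 2), []), ((3, 3), []), ((4, 4), []), ((5, 5), []), ((6, 6), []), ((7, 7), []), ((8, 8), []), ((9, 9), []), ((10, 10), []), ((11, 11), []), ((12, 12), []), ((13, 13), []), ((14, 14), []), ((15, 15), []), ((16, 16), []), ((17, 17), []), ((18, 18), []), ((19, 19), []), ((20, 20), []), ((21, 21), []), ((22, 22), []), ((23, 23), []), ((24, 24), []), ((25, 25), []), ((7, 0), [(1, 0, 0)]), ((7, 1), [(-1, 0, 0)]), ((0, 20), [(-1, 0, 0)]), ((1, 20), [(-1, 0, 0)]), ((7, 20), []), ((2, 6), [(-1, 0, 0)]), ((4, 12), [(1, 0, 0)]), ((5, 13), [(1, 0, 0)]), ((10, 16), [(1, 0, 0)]), ((11, 17), [(-1, 0, 0)]), ((14, 22), [(-1, 0, 0)]), ((15, 23), [(-1, 0, 0)]), ((21, 25), [(1, 0, 0)])]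
/-- ad of basis vector 16 on the ideal -/
def LA16 : SMat := [((0, 0), []), ((1, 1), []), ((2, 2), []), ((3, 3), []), ((4, 4), []), ((5, 5), []), ((6, 6), []), ((7, 7), []), ((8, 8), []), ((9, 9), []), ((10, 10), []), ((11, 11), []), ((12, 12), []), ((13, 13), []), ((14, 14), []), ((15, 15), []), ((16, 16), []), ((17, 17), []), ((18, 18), []), ((19, 19), []), ((20, 20), []), ((21, 21), []), ((22, 22), []), ((23, 23), []), ((24, 24), []), ((25, 25), []), ((8, 0), [(1, 0, 0)]), ((8, 1), [(-1, 0, 0)]), ((0, 19), [(-1, 0, 0)]), ((1, 19), [(-1, 0, 0)]), ((8, 19), []), ((2, 5), [(1, 0, 0)]), ((4, 11), [(-1, 0, 0)]), ((6, 13), [(1, 0, 0)]), ((10, 15), [(1, 0, 0)]), ((12, 17), [(-1, 0, 0)]), ((14, 21), [(-1, 0, 0)]), ((16, 23), [(1, 0, 0)]), ((22, 25), [(-1, 0, 0)])]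
/-- ad of basis vector 17 on the ideal -/
def LA17 : SMat := [((0, 0), []), ((1, 1), []), ((2, 2), []), ((3, 3), []), ((4, 4), []), ((5, 5), []), ((6, 6), []), ((7, 7), []), ((8, 8), []), ((9, 9), []), ((10, 10), []), ((11, 11), []), ((12, 12), []), ((13, 13), []), ((14, 14), []), ((15, 15), []), ((16, 16), []), ((17, 17), []), ((18, 18), []), ((19, 19), []), ((20, 20), []), ((21, 21), []), ((22, 22), []), ((23, 23), []), ((24, 24), []), ((25, 25), []), ((9, 0), [(1, 0, 0)]), ((9, 1), [(1, 0, 0)]), ((0, 18), [(-1, 0, 0)]), ((1, 18), [(-1, 0, 0)]), ((9, 18), []), ((2, 4), [(-1, 0, 0)]), ((5, 11), [(-1, 0, 0)]), ((6, 12), [(-1, 0, 0)]), ((10, 14), [(1, 0, 0)]), ((13, 17), [(-1, 0, 0)]), ((15, 21), [(1, 0, 0)]), ((16, 22), [(1, 0, 0)]), ((23, 25), [(1, 0, 0)])]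
/-- ad of basis vector 18 on the ideal -/
def LA18 : SMat := [((0, 0), []), ((1, 1), []), ((2, 2), []), ((3, 3), []), ((4, 4), []), ((5, 5), []), ((6, 6), []), ((7, 7), []), ((8, 8), []), ((9, 9), []), ((10, 10), []), ((11, 11), []), ((12, 12), []), ((13, 13), []), ((14, 14), []), ((15, 15), []), ((16, 16), []), ((17, 17), []), ((18, 18), []), ((19, 19), []), ((20, 20), []), ((21, 21), []), ((22, 22), []), ((23, 23), []), ((24, 24), []), ((25, 25), []), ((10, 0), [(2, 0, 0)]), ((10, 1), [(-1, 0, 0)]), ((0, 17), [(-1, 0, 0)]), ((1, 17), [(0, 0, 0)]), ((10, 17), []), ((2, 3), [(-1, 0, 0)]), ((7, 11), [(1, 0, 0)]), ((8, 12), [(1, 0, 0)]), ((9, 13), [(1, 0, 0)]), ((14, 18), [(-1, 0, 0)]), ((15, 19), [(-1, 0, 0)]), ((16, 20), [(-1, 0, 0)]), ((24, 25), [(1, 0, 0)])]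
/-- ad of basis vector 19 on the ideal -/
def LA19 : SMat := [((0, 0), []), ((1, 1), []), ((2, 2), []), ((3, 3), []), ((4, 4), []), ((5, 5), []), ((6, 6), []), ((7, 7), []), ((8, 8), []), ((9, 9), []), ((10, 10), []), ((11, 11), []), ((12, 12), []), ((13, 13), []), ((14, 14), []), ((15, 15), []), ((16, 16), []), ((17, 17), []), ((18, 18), []), ((19, 19), []), ((20, 20), []), ((21, 21), []), ((22, 22), []), ((23, 23), []), ((24, 24), []), ((25, 25), []), ((3, 9), [(-1, 0, 0)]), ((4, 10), [(-1, 0, 0)]), ((11, 15), [(1, 0, 0)]), ((12, 16), [(-1, 0, 0)]), ((17, 23), [(1, 0, 0)]), ((18, 24), [(1, 0, 0)])]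
/-- ad of basis vector 20 on the ideal -/
def LA20 : SMat := [((0, 0), []), ((1, 1), []), ((2, 2), []), ((3, 3), []), ((4, 4), []), ((5, 5), []), ((6, 6), []), ((7, 7), []), ((8, 8), []), ((9, 9), []), ((10, 10), []), ((11, 11), []), ((12, 12), []), ((13, 13), []), ((14, 14), []), ((15, 15), []), ((16, 16), []), ((17, 17), []), ((18, 18), []), ((19, 19), []), ((20, 20), []), ((21, 21), []), ((22, 22), []), ((23, 23), []), ((24, 24), []), ((25, 25), []), ((3, 8), [(1, 0, 0)]), ((5, 10), [(-1, 0, 0)]), ((11, 14), [(1, 0, 0)]), ((13, 16), [(-1, 0, 0)]), ((17, 22), [(1, 0, 0)]), ((19, 24), [(-1, 0, 0)])]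
/-- ad of basis vector 21 on the ideal -/
def LA21 : SMat := [((0, 0), []), ((1, 1), []), ((2, 2), []), ((3, 3), []), ((4, 4), []), ((5, 5), []), ((6, 6), []), ((7, 7), []), ((8, 8), []), ((9, 9), []), ((10, 10), []), ((11, 11), []), ((12, 12), []), ((13, 13), []), ((14, 14), []), ((15, 15), []), ((16, 16), []), ((17, 17), []), ((18, 18), []), ((19, 19), []), ((20, 20), []), ((21, 21), []), ((22, 22), []), ((23, 23), []), ((24, 24), []), ((25, 25), []), ((3, 7), [(-1, 0, 0)]), ((6, 10), [(-1, 0, 0)]), ((12, 14), [(1, 0, 0)]), ((13, 15), [(-1, 0, 0)]), ((17, 21), [(1, 0, 0)]), ((20, 24), [(1, 0, 0)])]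
/-- ad of basis vector 22 on the ideal -/
def LA22 : SMat := [((0, 0), []), ((1, 1), []), ((2, 2), []), ((3, 3), []), ((4, 4), []), ((5, 5), []), ((6, 6), []), ((7, 7), []), ((8, 8), []), ((9, 9), []), ((10, 10), []), ((11, 11), []), ((12, 12), []), ((13, 13), []), ((14, 14), []), ((15, 15), []), ((16, 16), []), ((17, 17), []), ((18, 18), []), ((19, 19), []), ((20, 20), []), ((21, 21), []), ((22, 22), []), ((23, 23), []), ((24, 24), []), ((25, 25), []), ((11, 0), [(-1, 0, 0)]), ((11, 1), [(0, 0, 0)]), ((0, 16), [(0, 0, 0)]), ((1, 16), [(-1, 0, 0)]), ((11, 16), []), ((3, 6), [(-1, 0, 0)]), ((4, 8), [(1, 0, 0)]), ((5, 9), [(1, 0, 0)]), ((7, 10), [(-1, 0, 0)]), ((17, 20), [(1, 0, 0)]), ((18, 22), [(-1, 0, 0)]), ((19, 23), [(-1, 0, 0)]), ((21, 24), [(1, 0, 0)])]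
/-- ad of basis vector 23 on the ideal -/
def LA23 : SMat := [((0, 0), []), ((1, 1), []), ((2, 2), []), ((3, 3), []), ((4, 4), []), ((5, 5), []), ((6, 6), []), ((7, 7), []), ((8, 8), []), ((9, 9), []), ((10, 10), []), ((11, 11), []), ((12, 12), []), ((13, 13), []), ((14, 14), []), ((15, 15), []), ((16, 16), []), ((17, 17), []), ((18, 18), []), ((19, 19), []), ((20, 20), []), ((21, 21), []), ((22, 22), []), ((23, 23), []), ((24, 24), []), ((25, 25), []), ((12, 0), [(-1, 0, 0)]), ((12, 1), [(0, 0, 0)]), ((0, 15), [(0, 0, 0)]), ((1, 15), [(-1, 0, 0)]), ((12, 15), []), ((3, 5), [(1, 0, 0)]), ((4, 7), [(-1, 0, 0)]), ((6, 9), [(1, 0, 0)]), ((8, 10), [(-1, 0, 0)]), ((17, 19), [(1, 0, 0)]), ((18, 21), [(-1, 0, 0)]), ((20, 23), [(1, 0, 0)]), ((22, 24), [(-1, 0, 0)])]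
/-- ad of basis vector 24 on the ideal -/
def LA24 : SMat := [((0, 0), []), ((1, 1), []), ((2, 2), []), ((3, 3), []), ((4, 4), []), ((5, 5), []), ((6, 6), []), ((7, 7), []), ((8, 8), []), ((9, 9), []), ((10, 10), []), ((11, 11), []), ((12, 12), []), ((13, 13), []), ((14, 14), []), ((15, 15), []), ((16, 16), []), ((17, 17), []), ((18, 18), []), ((19, 19), []), ((20, 20), []), ((21, 21), []), ((22, 22), []), ((23, 23), []), ((24, 24), []), ((25, 25), []), ((13, 0), [(-1, 0, 0)]), ((13, 1), [(2, 0, 0)]), ((0, 14), [(0, 0, 0)]), ((1, 14), [(-1, 0, 0)]), ((13, 14), []), ((3, 4), [(-1, 0, 0)]), ((5, 7), [(-1, 0, 0)]), ((6, 8), [(-1, 0, 0)]), ((9, 10), [(-1, 0, 0)]), ((17, 18), [(1, 0, 0)]), ((19, 21), [(1, 0, 0)]), ((20, 22), [(1, 0, 0)]), ((23, 24), [(1, 0, 0)])]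
/-- ad of basis vector 25 on the ideal -/
def LA25 : SMat := [((0, 0), []), ((1, 1), []), ((2, 2), []), ((3, 3), []), ((4, 4), []), ((5, 5), []), ((6, 6), []), ((7, 7), []), ((8, 8), []), ((9, 9), []), ((10, 10), []), ((11, 11), []), ((12, 12), []), ((13, 13), []), ((14, 14), []), ((15, 15), []), ((16, 16), []), ((17, 17), []), ((18, 18), []), ((19, 19), []), ((20, 20), []), ((21, 21), []), ((22, 22), []), ((23, 23), []), ((24, 24), []), ((25, 25), []), ((4, 6), [(1, 0, 0)]), ((7, 9), [(-1, 0, 0)]), ((11, 13), [(-1, 0, 0)]), ((14, 16), [(1, 0, 0)]), ((18, 20), [(1, 0, 0)]), ((21, 23), [(-1, 0, 0)])]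
/-- ad of basis vector 26 on the ideal -/
def LA26 : SMat := [((0, 0), []), ((1, 1), []), ((2, 2), []), ((3, 3), []), ((4, 4), []), ((5, 5), []), ((6, 6), []), ((7, 7), []), ((8, 8), []), ((9, 9), []), ((10, 10), []), ((11, 11), []), ((12, 12), []), ((13, 13), []), ((14, 14), []), ((15, 15), []), ((16, 16), []), ((17, 17), []), ((18, 18), []), ((19, 19), []), ((20, 20), []), ((21, 21), []), ((22, 22), []), ((23, 23), []), ((24, 24), []), ((25, 25), []), ((4, 5), [(-1, 0, 0)]), ((8, 9), [(-1, 0, 0)]), ((12, 13), [(-1, 0, 0)]), ((14, 15), [(1, 0, 0)]), ((18, 19), [(1, 0, 0)]), ((22, 23), [(1, 0, 0)])]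
/-- ad of basis vector 27 on the ideal -/
def LA27 : SMat := [((0, 0), []), ((1, 1), []), ((2, 2), []), ((3, 3), []), ((4, 4), []), ((5, 5), []), ((6, 6), []), ((7, 7), []), ((8, 8), []), ((9, 9), []), ((10, 10), []), ((11, 11), []), ((12, 12), []), ((13, 13), []), ((14, 14), []), ((15, 15), []), ((16, 16), []), ((17, 17), []), ((18, 18), []), ((19, 19), []), ((20, 20), []), ((21, 21), []), ((22, 22), []), ((23, 23), []), ((24, 24), []), ((25, 25), []), ((5, 6), [(-1, 0, 0)]), ((7, 8), [(-1, 0, 0)]), ((11, 12), [(-1, 0, 0)]), ((15, 16), [(1, 0, 0)]), ((19, 20), [(1, 0, 0)]), ((21, 22), [(1, 0, 0)])]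
/-- ad of basis vector 28 on the ideal -/
def LA28 : SMat := [((0, 0), []), ((1, 1), []), ((2, 2), []), ((3, 3), []), ((4, 4), []), ((5, 5), []), ((6, 6), []), ((7, 7), []), ((8, 8), []), ((9, 9), []), ((10, 10), []), ((11, 11), []), ((12, 12), []), ((13, 13), []), ((14, 14), []), ((15, 15), []), ((16, 16), []), ((17, 17), []), ((18, 18), []), ((19, 19), []), ((20, 20), []), ((21, 21), []), ((22, 22), []), ((23, 23), []), ((24, 24), []), ((25, 25), []), ((6, 5), [(-1, 0, 0)]), ((8, 7), [(-1, 0, 0)]), ((12, 11), [(-1, 0, 0)]), ((16, 15), [(1, 0, 0)]), ((20, 19), [(1, 0, 0)]), ((22, 21), [(1, 0, 0)])]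
/-- ad of basis vector 29 on the ideal -/
def LA29 : SMat := [((0, 0), []), ((1, 1), []), ((2, 2), []), ((3, 3), []), ((4, 4), []), ((5, 5), []), ((6, 6), []), ((7, 7), []), ((8, 8), []), ((9, 9), []), ((10, 10), []), ((11, 11), []), ((12, 12), []), ((13, 13), []), ((14, 14), []), ((15, 15), []), ((16, 16), []), ((17, 17), []), ((18, 18), []), ((19, 19), []), ((20, 20), []), ((21, 21), []), ((22, 22), []), ((23, 23), []), ((24, 24), []), ((25, 25), []), ((5, 4), [(-1, 0, 0)]), ((9, 8), [(-1, 0, 0)]), ((13, 12), [(-1, 0, 0)]), ((15, 14), [(1, 0, 0)]), ((19, 18), [(1, 0, 0)]), ((23, 22), [(1, 0, 0)])]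
/-- ad of basis vector 30 on the ideal -/
def LA30 : SMat := [((0, 0), []), ((1, 1), []), ((2, 2), []), ((3, 3), []), ((4, 4), []), ((5, 5), []), ((6, 6), []), ((7, 7), []), ((8, 8), []), ((9, 9), []), ((10, 10), []), ((11, 11), []), ((12, 12), []), ((13, 13), []), ((14, 14), []), ((15, 15), []), ((16, 16), []), ((17, 17), []), ((18, 18), []), ((19, 19), []), ((20, 20), []), ((21, 21), []), ((22, 22), []), ((23, 23), []), ((24, 24), []), ((25, 25), []), ((6, 4), [(1, 0, 0)]), ((9, 7), [(-1, 0, 0)]), ((13, 11), [(-1, 0, 0)]), ((16, 14), [(1, 0, 0)]), ((20, 18), [(1, 0, 0)]), ((23, 21), [(-1, 0, 0)])]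
/-- ad of basis vector 31 on the ideal -/
def LA31 : SMat := [((0, 0), []), ((1, 1), []), ((2, 2), []), ((3, 3), []), ((4, 4), []), ((5, 5), []), ((6, 6), []), ((7, 7), []), ((8, 8), []), ((9, 9), []), ((10, 10), []), ((11, 11), []), ((12, 12), []), ((13, 13), []), ((14, 14), []), ((15, 15), []), ((16, 16), []), ((17, 17), []), ((18, 18), []), ((19, 19), []), ((20, 20), []), ((21, 21), []), ((22, 22), []), ((23, 23), []), ((24, 24), []), ((25, 25), []), ((14, 0), [(1, 0, 0)]), ((14, 1), [(-2, 0, 0)]), ((0, 13), [(0, 0, 0)]), ((1, 13), [(1, 0, 0)]), ((14, 13), []), ((4, 3), [(-1, 0, 0)]), ((7, 5), [(-1, 0, 0)]), ((8, 6), [(-1, 0, 0)]), ((10, 9), [(-1, 0, 0)]), ((18, 17), [(1, 0, 0)]), ((21, 19), [(1, 0, 0)]), ((22, 20), [(1, 0, 0)]), ((24, 23), [(1, 0, 0)])]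
/-- ad of basis vector 32 on the ideal -/
def LA32 : SMat := [((0, 0), []), ((1, 1), []), ((2, 2), []), ((3, 3), []), ((4, 4), []), ((5, 5), []), ((6, 6), []), ((7, 7), []), ((8, 8), []), ((9, 9), []), ((10, 10), []), ((11, 11), []), ((12, 12), []), ((13, 13), []), ((14, 14), []), ((15, 15), []), ((16, 16), []), ((17, 17), []), ((18, 18), []), ((19, 19), []), ((20, 20), []), ((21, 21), []), ((22, 22), []), ((23, 23), []), ((24, 24), []), ((25, 25), []), ((15, 0), [(1, 0, 0)]), ((15, 1), [(0, 0, 0)]), ((0, 12), [(0, 0, 0)]), ((1, 12), [(1, 0, 0)]), ((15, 12), []), ((5, 3), [(1, 0, 0)]), ((7, 4), [(-1, 0, 0)]), ((9, 6), [(1, 0, 0)]), ((10, 8), [(-1, 0, 0)]), ((19, 17), [(1, 0, 0)]), ((21, 18), [(-1, 0, 0)]), ((23, 20), [(1, 0, 0)]), ((24, 22), [(-1, 0, 0)])]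
/-- ad of basis vector 33 on the ideal -/
def LA33 : SMat := [((0, 0), []), ((1, 1), []), ((2, 2), []), ((3, 3), []), ((4, 4), []), ((5, 5), []), ((6, 6), []), ((7, 7), []), ((8, 8), []), ((9, 9), []), ((10, 10), []), ((11, 11), []), ((12, 12), []), ((13, 13), []), ((14, 14), []), ((15, 15), []), ((16, 16), []), ((17, 17), []), ((18, 18), []), ((19, 19), []), ((20, 20), []), ((21, 21), []), ((22, 22), []), ((23, 23), []), ((24, 24), []), ((25, 25), []), ((16, 0), [(1, 0, 0)]), ((16, 1), [(0, 0, 0)]), ((0, 11), [(0, 0, 0)]), ((1, 11), [(1, 0, 0)]), ((16, 11), []), ((6, 3), [(-1, 0, 0)]), ((8, 4), [(1, 0, 0)]), ((9, 5), [(1, 0, 0)]), ((10, 7), [(-1, 0, 0)]), ((20, 17), [(1, 0, 0)]), ((22, 18), [(-1, 0, 0)]), ((23, 19), [(-1, 0, 0)]), ((24, 21), [(1, 0, 0)])]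
/-- ad of basis vector 34 on the ideal -/
def LA34 : SMat := [((0, 0), []), ((1, 1), []), ((2, 2), []), ((3, 3), []), ((4, 4), []), ((5, 5), []), ((6, 6), []), ((7, 7), []), ((8, 8), []), ((9, 9), []), ((10, 10), []), ((11, 11), []), ((12, 12), []), ((13, 13), []), ((14, 14), []), ((15, 15), []), ((16, 16), []), ((17, 17), []), ((18, 18), []), ((19, 19), []), ((20, 20), []), ((21, 21), []), ((22, 22), []), ((23, 23), []), ((24, 24), []), ((25, 25), []), ((7, 3), [(-1, 0, 0)]), ((10, 6), [(-1, 0, 0)]), ((14, 12), [(1, 0, 0)]), ((15, 13), [(-1, 0, 0)]), ((21, 17), [(1, 0, 0)]), ((24, 20), [(1, 0, 0)])]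
/-- ad of basis vector 35 on the ideal -/
def LA35 : SMat := [((0, 0), []), ((1, 1), []), ((2, 2), []), ((3, 3), []), ((4, 4), []), ((5, 5), []), ((6, 6), []), ((7, 7), []), ((8, 8), []), ((9, 9), []), ((10, 10), []), ((11, 11), []), ((12, 12), []), ((13, 13), []), ((14, 14), []), ((15, 15), []), ((16, 16), []), ((17, 17), []), ((18, 18), []), ((19, 19), []), ((20, 20), []), ((21, 21), []), ((22, 22), []), ((23, 23), []), ((24, 24), []), ((25, 25), []), ((8, 3), [(1, 0, 0)]), ((10, 5), [(-1, 0, 0)]), ((14, 11), [(1, 0, 0)]), ((16, 13), [(-1, 0, 0)]), ((22, 17), [(1, 0, 0)]), ((24, 19), [(-1, 0, 0)])]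
/-- ad of basis vector 36 on the ideal -/
def LA36 : SMat := [((0, 0), []), ((1, 1), []), ((2, 2), []), ((3, 3), []), ((4, 4), []), ((5, 5), []), ((6, 6), []), ((7, 7), []), ((8, 8), []), ((9, 9), []), ((10, 10), []), ((11, 11), []), ((12, 12), []), ((13, 13), []), ((14, 14), []), ((15, 15), []), ((16, 16), []), ((17, 17), []), ((18, 18), []), ((19, 19), []), ((20, 20), []), ((21, 21), []), ((22, 22), []), ((23, 23), []), ((24, 24), []), ((25, 25), []), ((9, 3), [(-1, 0, 0)]), ((10, 4), [(-1, 0, 0)]), ((15, 11), [(1, 0, 0)]), ((16, 12), [(-1, 0, 0)]), ((23, 17), [(1, 0, 0)]), ((24, 18), [(1, 0, 0)])]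
/-- ad of basis vector 37 on the ideal -/
def LA37 : SMat := [((0, 0), []), ((1, 1), []), ((2, 2), []), ((3, 3), []), ((4, 4), []), ((5, 5), []), ((6, 6), []), ((7, 7), []), ((8, 8), []), ((9, 9), []), ((10, 10), []), ((11, 11), []), ((12, 12), []), ((13, 13), []), ((14, 14), []), ((15, 15), []), ((16, 16), []), ((17, 17), []), ((18, 18), []), ((19, 19), []), ((20, 20), []), ((21, 21), []), ((22, 22), []), ((23, 23), []), ((24, 24), []), ((25, 25), []), ((17, 0), [(-2, 0, 0)]), ((17, 1), [(1, 0, 0)]), ((0, 10), [(1, 0, 0)]), ((1, 10), [(0, 0, 0)]), ((17, 10), []), ((3, 2), [(-1, 0, 0)]), ((11, 7), [(1, 0, 0)]), ((12, 8), [(1, 0, 0)]), ((13, 9), [(1, 0, 0)]), ((18, 14), [(-1, 0, 0)]), ((19, 15), [(-1, 0, 0)]), ((20, 16), [(-1, 0, 0)]), ((25, 24), [(1, 0, 0)])]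
/-- ad of basis vector 38 on the ideal -/
def LA38 : SMat := [((0, 0), []), ((1, 1), []), ((2, 2), []), ((3, 3), []), ((4, 4), []), ((5, 5), []), ((6, 6), []), ((7, 7), []), ((8, 8), []), ((9, 9), []), ((10, 10), []), ((11, 11), []), ((12, 12), []), ((13, 13), []), ((14, 14), []), ((15, 15), []), ((16, 16), []), ((17, 17), []), ((18, 18), []), ((19, 19), []), ((20, 20), []), ((21, 21), []), ((22, 22), []), ((23, 23), []), ((24, 24), []), ((25, 25), []), ((18, 0), [(-1, 0, 0)]), ((18, 1), [(-1, 0, 0)]), ((0, 9), [(1, 0, 0)]), ((1, 9), [(1, 0, 0)]), ((18, 9), []), ((4, 2), [(-1, 0, 0)]), ((11, 5), [(-1, 0, 0)]), ((12, 6), [(-1, 0, 0)]), ((14, 10), [(1, 0, 0)]), ((17, 13), [(-1, 0, 0)]), ((21, 15), [(1, 0, 0)]), ((22, 16), [(1, 0, 0)]), ((25, 23), [(1, 0, 0)])]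
/-- ad of basis vector 39 on the ideal -/
def LA39 : SMat := [((0, 0), []), ((1, 1), []), ((2, 2), []), ((3, 3), []), ((4, 4), []), ((5, 5), []), ((6, 6), []), ((7, 7), []), ((8, 8), []), ((9, 9), []), ((10, 10), []), ((11, 11), []), ((12, 12), []), ((13, 13), []), ((14, 14), []), ((15, 15), []), ((16, 16), []), ((17, 17), []), ((18, 18), []), ((19, 19), []), ((20, 20), []), ((21, 21), []), ((22, 22), []), ((23, 23), []), ((24, 24), []), ((25, 25), []), ((19, 0), [(-1, 0, 0)]), ((19, 1), [(1, 0, 0)]), ((0, 8), [(1, 0, 0)]), ((1, 8), [(1, 0, 0)]), ((19, 8), []), ((5, 2), [(1, 0, 0)]), ((11, 4), [(-1, 0, 0)]), ((13, 6), [(1, 0, 0)]), ((15, 10), [(1, 0, 0)]), ((17, 12), [(-1, 0, 0)]), ((21, 14), [(-1, 0, 0)]), ((23, 16), [(1, 0, 0)]), ((25, 22), [(-1, 0, 0)])]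
/-- ad of basis vector 40 on the ideal -/
def LA40 : SMat := [((0, 0), []), ((1, 1), []), ((2, 2), []), ((3, 3), []), ((4, 4), []), ((5, 5), []), ((6, 6), []), ((7, 7), []), ((8, 8), []), ((9, 9), []), ((10, 10), []), ((11, 11), []), ((12, 12), []), ((13, 13), []), ((14, 14), []), ((15, 15), []), ((16, 16), []), ((17, 17), []), ((18, 18), []), ((19, 19), []), ((20, 20), []), ((21, 21), []), ((22, 22), []), ((23, 23), []), ((24, 24), []), ((25, 25), []), ((20, 0), [(-1, 0, 0)]), ((20, 1), [(1, 0, 0)]), ((0, 7), [(1, 0, 0)]), ((1, 7), [(1, 0, 0)]), ((20, 7), []), ((6, 2), [(-1, 0, 0)]), ((12, 4), [(1, 0, 0)]), ((13, 5), [(1, 0, 0)]), ((16, 10), [(1, 0, 0)]), ((17, 11), [(-1, 0, 0)]), ((22, 14), [(-1, 0, 0)]), ((23, 15), [(-1, 0, 0)]), ((25, 21), [(1, 0, 0)])]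
/-- ad of basis vector 41 on the ideal -/
def LA41 : SMat := [((0, 0), []), ((1, 1), []), ((2, 2), []), ((3, 3), []), ((4, 4), []), ((5, 5), []), ((6, 6), []), ((7, 7), []), ((8, 8), []), ((9, 9), []), ((10, 10), []), ((11, 11), []), ((12, 12), []), ((13, 13), []), ((14, 14), []), ((15, 15), []), ((16, 16), []), ((17, 17), []), ((18, 18), []), ((19, 19), []), ((20, 20), []), ((21, 21), []), ((22, 22), []), ((23, 23), []), ((24, 24), []), ((25, 25), []), ((21, 0), [(0, 0, 0)]), ((21, 1), [(-1, 0, 0)]), ((0, 6), [(1, 0, 0)]), ((1, 6), [(2, 0, 0)]), ((21, 6), []), ((7, 2), [(1, 0, 0)]), ((11, 3), [(1, 0, 0)]), ((14, 8), [(1, 0, 0)]), ((15, 9), [(-1, 0, 0)]), ((18, 12), [(1, 0, 0)]), ((19, 13), [(-1, 0, 0)]), ((24, 16), [(-1, 0, 0)]), ((25, 20), [(-1, 0, 0)])]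
/-- ad of basis vector 42 on the ideal -/
def LA42 : SMat := [((0, 0), []), ((1, 1), []), ((2, 2), []), ((3, 3), []), ((4, 4), []), ((5, 5), []), ((6, 6), []), ((7, 7), []), ((8, 8), []), ((9, 9), []), ((10, 10), []), ((11, 11), []), ((12, 12), []), ((13, 13), []), ((14, 14), []), ((15, 15), []), ((16, 16), []), ((17, 17), []), ((18, 18), []), ((19, 19), []), ((20, 20), []), ((21, 21), []), ((22, 22), []), ((23, 23), []), ((24, 24), []), ((25, 25), []), ((22, 0), [(0, 0, 0)]), ((22, 1), [(-1, 0, 0)]), ((0, 5), [(1, 0, 0)]), ((1, 5), [(2, 0, 0)]), ((22, 5), []), ((8, 2), [(-1, 0, 0)]), ((12, 3), [(-1, 0, 0)]), ((14, 7), [(1, 0, 0)]), ((16, 9), [(-1, 0, 0)]), ((18, 11), [(1, 0, 0)]), ((20, 13), [(-1, 0, 0)]), ((24, 15), [(1, 0, 0)]), ((25, 19), [(1, 0, 0)])]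
/-- ad of basis vector 43 on the ideal -/
def LA43 : SMat := [((0, 0), []), ((1, 1), []), ((2, 2), []), ((3, 3), []), ((4, 4), []), ((5, 5), []), ((6, 6), []), ((7, 7), []), ((8, 8), []), ((9, 9), []), ((10, 10), []), ((11, 11), []), ((12, 12), []), ((13, 13), []), ((14, 14), []), ((15, 15), []), ((16, 16), []), ((17, 17), []), ((18, 18), []), ((19, 19), []), ((20, 20), []), ((21, 21), []), ((22, 22), []), ((23, 23), []), ((24, 24), []), ((25, 25), []), ((23, 0), [(0, 0, 0)]), ((23, 1), [(1, 0, 0)]), ((0, 4), [(1, 0, 0)]), ((1, 4), [(2, 0, 0)]), ((23, 4), []), ((9, 2), [(1, 0, 0)]), ((13, 3), [(1, 0, 0)]), ((15, 7), [(1, 0, 0)]), ((16, 8), [(-1, 0, 0)]), ((19, 11), [(1, 0, 0)]), ((20, 12), [(-1, 0, 0)]), ((24, 14), [(-1, 0, 0)]), ((25, 18), [(-1, 0, 0)])]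
/-- ad of basis vector 44 on the ideal -/
def LA44 : SMat := [((0, 0), []), ((1, 1), []), ((2, 2), []), ((3, 3), []), ((4, 4), []), ((5, 5), []), ((6, 6), []), ((7, 7), []), ((8, 8), []), ((9, 9), []), ((10, 10), []), ((11, 11), []), ((12, 12), []), ((13, 13), []), ((14, 14), []), ((15, 15), []), ((16, 16), []), ((17, 17), []), ((18, 18), []), ((19, 19), []), ((20, 20), []), ((21, 21), []), ((22, 22), []), ((23, 23), []), ((24, 24), []), ((25, 25), []), ((24, 0), [(1, 0, 0)]), ((24, 1), [(-1, 0, 0)]), ((0, 3), [(1, 0, 0)]), ((1, 3), [(3, 0, 0)]), ((24, 3), []), ((10, 2), [(1, 0, 0)]), ((14, 4), [(1, 0, 0)]), ((15, 5), [(-1, 0, 0)]), ((16, 6), [(1, 0, 0)]), ((21, 11), [(-1, 0, 0)]), ((22, 12), [(1, 0, 0)]), ((23, 13), [(-1, 0, 0)]), ((25, 17), [(-1, 0, 0)])]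
/-- ad of basis vector 45 on the ideal -/
def LA45 : SMat := [((0, 0), []), ((1, 1), []), ((2, 2), []), ((3, 3), []), ((4, 4), []), ((5, 5), []), ((6, 6), []), ((7, 7), []), ((8, 8), []), ((9, 9), []), ((10, 10), []), ((11, 11), []), ((12, 12), []), ((13, 13), []), ((14, 14), []), ((15, 15), []), ((16, 16), []), ((17, 17), []), ((18, 18), []), ((19, 19), []), ((20, 20), []), ((21, 21), []), ((22, 22), []), ((23, 23), []), ((24, 24), []), ((25, 25), []), ((11, 2), [(1, 0, 0)]), ((17, 6), [(1, 0, 0)]), ((18, 8), [(-1, 0, 0)]), ((19, 9), [(1, 0, 0)]), ((21, 10), [(-1, 0, 0)]), ((25, 16), [(-1, 0, 0)])]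
/-- ad of basis vector 46 on the ideal -/
def LA46 : SMat := [((0, 0), []), ((1, 1), []), ((2, 2), []), ((3, 3), []), ((4, 4), []), ((5, 5), []), ((6, 6), []), ((7, 7), []), ((8, 8), []), ((9, 9), []), ((10, 10), []), ((11, 11), []), ((12, 12), []), ((13, 13), []), ((14, 14), []), ((15, 15), []), ((16, 16), []), ((17, 17), []), ((18, 18), []), ((19, 19), []), ((20, 20), []), ((21, 21), []), ((22, 22), []), ((23, 23), []), ((24, 24), []), ((25, 25), []), ((12, 2), [(-1, 0, 0)]), ((17, 5), [(1, 0, 0)]), ((18, 7), [(-1, 0, 0)]), ((20, 9), [(1, 0, 0)]), ((22, 10), [(-1, 0, 0)]), ((25, 15), [(1, 0, 0)])]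
/-- ad of basis vector 47 on the ideal -/
def LA47 : SMat := [((0, 0), []), ((1, 1), []), ((2, 2), []), ((3, 3), []), ((4, 4), []), ((5, 5), []), ((6, 6), []), ((7, 7), []), ((8, 8), []), ((9, 9), []), ((10, 10), []), ((11, 11), []), ((12, 12), []), ((13, 13), []), ((14, 14), []), ((15, 15), []), ((16, 16), []), ((17, 17), []), ((18, 18), []), ((19, 19), []), ((20, 20), []), ((21, 21), []), ((22, 22), []), ((23, 23), []), ((24, 24), []), ((25, 25), []), ((13, 2), [(1, 0, 0)]), ((17, 4), [(1, 0, 0)]), ((19, 7), [(-1, 0, 0)]), ((20, 8), [(1, 0, 0)]), ((23, 10), [(-1, 0, 0)]), ((25, 14), [(-1, 0, 0)])]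
/-- ad of basis vector 48 on the ideal -/
def LA48 : SMat := [((0, 0), []), ((1, 1), []), ((2, 2), []), ((3, 3), []), ((4, 4), []), ((5, 5), []), ((6, 6), []), ((7, 7), []), ((8, 8), []), ((9, 9), []), ((10, 10), []), ((11, 11), []), ((12, 12), []), ((13, 13), []), ((14, 14), []), ((15, 15), []), ((16, 16), []), ((17, 17), []), ((18, 18), []), ((19, 19), []), ((20, 20), []), ((21, 21), []), ((22, 22), []), ((23, 23), []), ((24, 24), []), ((25, 25), []), ((25, 0), [(-1, 0, 0)]), ((25, 1), [(0, 0, 0)]), ((0, 2), [(2, 0, 0)]), ((1, 2), [(3, 0, 0)]), ((25, 2), []), ((17, 3), [(1, 0, 0)]), ((18, 4), [(1, 0, 0)]), ((19, 5), [(-1, 0, 0)]), ((20, 6), [(1, 0, 0)]), ((21, 7), [(-1, 0, 0)]), ((22, 8), [(1, 0, 0)]), ((23, 9), [(-1, 0, 0)]), ((24, 10), [(-1, 0, 0)])]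
/-- ad of basis vector 49 on the ideal -/
def LA49 : SMat := [((0, 0), []), ((1, 1), []), ((2, 2), []), ((3, 3), []), ((4, 4), []), ((5, 5), []), ((6, 6), []), ((7, 7), []), ((8, 8), []), ((9, 9), []), ((10, 10), []), ((11, 11), []), ((12, 12), []), ((13, 13), []), ((14, 14), []), ((15, 15), []), ((16, 16), []), ((17, 17), []), ((18, 18), []), ((19, 19), []), ((20, 20), []), ((21, 21), []), ((22, 22), []), ((23, 23), []), ((24, 24), []), ((25, 25), []), ((14, 2), [(1, 0, 0)]), ((18, 3), [(1, 0, 0)]), ((21, 5), [(-1, 0, 0)]), ((22, 6), [(1, 0, 0)]), ((24, 9), [(-1, 0, 0)]), ((25, 13), [(-1, 0, 0)])]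
/-- ad of basis vector 50 on the ideal -/
def LA50 : SMat := [((0, 0), []), ((1, 1), []), ((2, 2), []), ((3, 3), []), ((4, 4), []), ((5, 5), []), ((6, 6), []), ((7, 7), []), ((8, 8), []), ((9, 9), []), ((10, 10), []), ((11, 11), []), ((12, 12), []), ((13, 13), []), ((14, 14), []), ((15, 15), []), ((16, 16), []), ((17, 17), []), ((18, 18), []), ((19, 19), []), ((20, 20), []), ((21, 21), []), ((22, 22), []), ((23, 23), []), ((24, 24), []), ((25, 25), []), ((15, 2), [(1, 0, 0)]), ((19, 3), [(1, 0, 0)]), ((21, 4), [(-1, 0, 0)]), ((23, 6), [(1, 0, 0)]), ((24, 8), [(-1, 0, 0)]), ((25, 12), [(-1, 0, 0)])]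
/-- ad of basis vector 51 on the ideal -/
def LA51 : SMat := [((0, 0), []), ((1, 1), []), ((2, 2), []), ((3, 3), []), ((4, 4), []), ((5, 5), []), ((6, 6), []), ((7, 7), []), ((8, 8), []), ((9, 9), []), ((10, 10), []), ((11, 11), []), ((12, 12), []), ((13, 13), []), ((14, 14), []), ((15, 15), []), ((16, 16), []), ((17, 17), []), ((18, 18), []), ((19, 19), []), ((20, 20), []), ((21, 21), []), ((22, 22), []), ((23, 23), []), ((24, 24), []), ((25, 25), []), ((16, 2), [(1, 0, 0)]), ((20, 3), [(1, 0, 0)]), ((22, 4), [(-1, 0, 0)]), ((23, 5), [(1, 0, 0)]), ((24, 7), [(-1, 0, 0)]), ((25, 11), [(-1, 0, 0)])]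
/-- the table of ad -/
def LA : List SMat := [LA0, LA1, LA2, LA3, LA4, LA5, LA6, LA7, LA8, LA9, LA10, LA11, LA12, LA13, LA14, LA15, LA16, LA17, LA18, LA19, LA20, LA21, LA22, LA23, LA24, LA25, LA26, LA27, LA28, LA29, LA30, LA31, LA32, LA33, LA34, LA35, LA36, LA37, LA38, LA39, LA40, LA41, LA42, LA43, LA44, LA45, LA46, LA47, LA48, LA49, LA50, LA51]

theorem LA_eq : ∀ z < dim chevF4, blkS dataF4.I (adS chevF4 z) = LA.getD z [] := by
  have h : ((List.range (dim chevF4)).all fun z => decide (blkS dataF4.I (adS chevF4 z) = LA.getD z [])) = true := by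
    decide +kernel
  intro z hz
  simpa using List.all_eq_true.1 h z (List.mem_range.2 hz)

/-- The fast check at one root, with tables of the root matrix. -/
def rootFast (r : ℕ) (X XF : SMat) : Bool :=
  decide (dataF4.r' r < chevF4.nroots ∧ dataF4.r' (dataF4.r' r) = r ∧
    dataF4.lm r * dataF4.lm (dataF4.r' r) = dataF4.p) &&
  wfRoot chevF4 r &&
  decide (xS chevF4 r (1, 1, 0) = XF) &&
  decide (blkS dataF4.I XF = X) &&
  isZero2 (mulFast XF (xS chevF4 r (-1, 1, 0)) ++ (oneS chevF4).neg) &&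
  (XF.all fun e => decide (e.1.1 ∈ dataF4.I ∨ e.1.2 ∉ dataF4.I) || e.2.isZero 2) &&
  isZero2 (blkS dataF4.Q XF ++ (blkS dataF4.I (xS chevF4 (dataF4.r' r) (1, dataF4.lm r, 0))).neg) &&
  (List.range (dim chevF4)).all fun z =>
    isZero2 (mulFast X (LA.getD z []) ++ (mulFast (pushFast LA XF z) X).neg)

end Cfsg.Agent.Lib.LieTwisted.Isogeny
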