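import Cfsg.Agent.Lib.LieTwisted.IsogenyF4Data

/-! Kernel checks for the roots 0..11 of the exceptional isogeny of F4. -/

set_option autoImplicit false
set_option maxRecDepth 100000
set_option Elab.async false

namespace Cfsg.Agent.Lib.LieTwisted.Isogeny

open Cfsg.Lie Sparse SparseRoot

/-- the root matrix -/
def LF0 : SMat := [((0, 0), [(1, 0, 0)]), ((1, 1), [(1, 0, 0)]), ((2, 2), [(1, 0, 0)]), ((3, 3), [(1, 0, 0)]), ((4, 4), [(1, 0, 0)]), ((5, 5), [(1, 0, 0)]), ((6, 6), [(1, 0, 0)]), ((7, 7), [(1, 0, 0)]), ((8, 8), [(1, 0, 0)]), ((9, 9), [(1, 0, 0)]), ((10, 10), [(1, 0, 0)]), ((11, 11), [(1, 0, 0)]), ((12, 12), [(1, 0, 0)]), ((13, 13), [(1, 0, 0)]), ((14, 14), [(1, 0, 0)]), ((15, 15), [(1, 0, 0)]), ((16, 16), [(1, 0, 0)]), ((17, 17), [(1, 0, 0)]), ((18, 18), [(1, 0, 0)]),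 ((19, 19), [(1, 0, 0)]), ((20, 20), [(1, 0, 0)]), ((21, 21), [(1, 0, 0)]), ((22, 22), [(1, 0, 0)]), ((23, 23), [(1, 0, 0)]), ((24, 24), [(1, 0, 0)]), ((25, 25), [(1, 0, 0)]), ((26, 26), [(1, 0, 0)]), ((27, 27), [(1, 0, 0)]), ((28, 28), [(1, 0, 0)]), ((29, 29), [(1, 0, 0)]), ((30, 30), [(1, 0, 0)]), ((31, 31), [(1, 0, 0)]), ((32, 32), [(1, 0, 0)]), ((33, 33), [(1, 0, 0)]), ((34, 34), [(1, 0, 0)]), ((35, 35), [(1, 0, 0)]), ((36, 36), [(1, 0, 0)]), ((37, 37), [(1, 0, 0)]), ((38, 38), [(1, 0, 0)]), ((39, 39), [(1, 0, 0)]), ((40, 40), [(1, 0, 0)]), ((41, 41), [(1, 0, 0)]), ((42, 42), [(1, 0, 0)]), ((43, 43), [(1, 0, 0)]), ((44, 44), [(1, 0, 0)]), ((45, 45), [(1, 0, 0)]), ((46, 46), [(1, 0, 0)]), ((47, 47), [(1, 0, 0)]), ((48, 48), [(1, 0, 0)]), ((49, 49), [(1, 0, 0)]), ((50, 50),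 [(1, 0, 0)]), ((51, 51), [(1, 0, 0)]), ((4, 0), [(0, 1, 0)]), ((4, 1), [(0, 1, 0)]), ((4, 2), [(0, 1, 0)]), ((4, 3), [(1, 1, 0)]), ((0, 51), [(-1, 1, 0)]), ((1, 51), [(-2, 1, 0)]), ((2, 51), [(-3, 1, 0)]), ((3, 51), [(-2, 1, 0)]), ((4, 51), [(-1, 2, 0)]), ((5, 28), [(1, 1, 0)]), ((6, 30), [(1, 1, 0)]), ((7, 33), [(1, 1, 0)]), ((8, 35), [(-1, 1, 0)]), ((9, 36), [(1, 1, 0)]), ((11, 40), [(1, 1, 0)]), ((12, 42), [(-1, 1, 0)]), ((13, 43), [(1, 1, 0)]), ((15, 44), [(-1, 1, 0)]), ((19, 46), [(-1, 1, 0)]), ((20, 47), [(1, 1, 0)]), ((22, 48), [(-1, 1, 0)]), ((25, 49), [(-1, 1, 0)]), ((27, 50), [(-1, 1, 0)])]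
/-- its block -/
def LX0 : SMat := [((0, 0), [(1, 0, 0)]), ((1, 1), [(1, 0, 0)]), ((2, 2), [(1, 0, 0)]), ((3, 3), [(1, 0, 0)]), ((4, 4), [(1, 0, 0)]), ((5, 5), [(1, 0, 0)]), ((6, 6), [(1, 0, 0)]), ((7, 7), [(1, 0, 0)]), ((8, 8), [(1, 0, 0)]), ((9, 9), [(1, 0, 0)]), ((10, 10), [(1, 0, 0)]), ((11, 11), [(1, 0, 0)]), ((12, 12), [(1, 0, 0)]), ((13, 13), [(1, 0, 0)]), ((14, 14), [(1, 0, 0)]), ((15, 15), [(1, 0, 0)]), ((16, 16), [(1, 0, 0)]), ((17, 17), [(1, 0, 0)]), ((18, 18), [(1, 0, 0)]), ((19, 19), [(1, 0, 0)]), ((20, 20), [(1, 0, 0)]), ((21, 21), [(1, 0, 0)]), ((22, 22), [(1, 0, 0)]), ((23, 23), [(1, 0, 0)]), ((24, 24), [(1, 0, 0)]), ((25, 25), [(1, 0, 0)]), ((2, 16), [(1, 1, 0)]), ((3, 20), [(1, 1, 0)]), ((4, 22), [(-1, 1, 0)]), ((5, 23), [(1, 1, 0)]), ((7, 24), [(-1, 1, 0)]),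 ((11, 25), [(-1, 1, 0)])]
theorem f4_root0 : rootFast 0 LX0 LF0 = true := by decide +kernel

/-- the root matrix -/
def LF1 : SMat := [((0, 0), [(1, 0, 0)]), ((1, 1), [(1, 0, 0)]), ((2, 2), [(1, 0, 0)]), ((3, 3), [(1, 0, 0)]), ((4, 4), [(1, 0, 0)]), ((5, 5), [(1, 0, 0)]), ((6, 6), [(1, 0, 0)]), ((7, 7), [(1, 0, 0)]), ((8, 8), [(1, 0, 0)]), ((9, 9), [(1, 0, 0)]), ((10, 10), [(1, 0, 0)]), ((11, 11), [(1, 0, 0)]), ((12, 12), [(1, 0, 0)]), ((13, 13), [(1, 0, 0)]), ((14, 14), [(1, 0, 0)]), ((15, 15), [(1, 0, 0)]), ((16, 16), [(1, 0, 0)]), ((17, 17), [(1, 0, 0)]), ((18, 18), [(1, 0, 0)]), ((19, 19), [(1, 0, 0)]), ((20, 20), [(1, 0, 0)]), ((21, 21), [(1, 0, 0)]), ((22, 22), [(1, 0, 0)]), ((23, 23), [(1, 0, 0)]), ((24, 24), [(1, 0, 0)]), ((25, 25), [(1, 0, 0)]), ((26, 26), [(1, 0, 0)]),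 ((27, 27), [(1, 0, 0)]), ((28, 28), [(1, 0, 0)]), ((29, 29), [(1, 0, 0)]), ((30, 30), [(1, 0, 0)]), ((31, 31), [(1, 0, 0)]), ((32, 32), [(1, 0, 0)]), ((33, 33), [(1, 0, 0)]), ((34, 34), [(1, 0, 0)]), ((35, 35), [(1, 0, 0)]), ((36, 36), [(1, 0, 0)]), ((37, 37), [(1, 0, 0)]), ((38, 38), [(1, 0, 0)]), ((39, 39), [(1, 0, 0)]), ((40, 40), [(1, 0, 0)]), ((41, 41), [(1, 0, 0)]), ((42, 42), [(1, 0, 0)]), ((43, 43), [(1, 0, 0)]), ((44, 44), [(1, 0, 0)]), ((45, 45), [(1, 0, 0)]), ((46, 46), [(1, 0, 0)]), ((47, 47), [(1, 0, 0)]), ((48, 48), [(1, 0, 0)]), ((49, 49), [(1, 0, 0)]), ((50, 50), [(1, 0, 0)]), ((51, 51), [(1, 0, 0)]), ((5, 0), [(0, 1, 0)]), ((5, 1), [(0, 1, 0)]), ((5, 2), [(1, 1, 0)]), ((5, 3), [(-1, 1, 0)]), ((0, 50), [(-1, 1, 0)]), ((1, 50), [(-2, 1, 0)]), ((2, 50), [(-3, 1,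 0)]), ((3, 50), [(-1, 1, 0)]), ((5, 50), [(-1, 2, 0)]), ((4, 27), [(1, 1, 0)]), ((6, 29), [(1, 1, 0)]), ((7, 32), [(1, 1, 0)]), ((8, 34), [(-1, 1, 0)]), ((10, 36), [(1, 1, 0)]), ((11, 39), [(1, 1, 0)]), ((12, 41), [(-1, 1, 0)]), ((14, 43), [(1, 1, 0)]), ((16, 44), [(-1, 1, 0)]), ((19, 45), [(-1, 1, 0)]), ((21, 47), [(1, 1, 0)]), ((23, 48), [(-1, 1, 0)]), ((26, 49), [(-1, 1, 0)]), ((28, 51), [(-1, 1, 0)])]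
/-- its block -/
def LX1 : SMat := [((0, 0), [(1, 0, 0)]), ((1, 1), [(1, 0, 0)]), ((2, 2), [(1, 0, 0)]), ((3, 3), [(1, 0, 0)]), ((4, 4), [(1, 0, 0)]), ((5, 5), [(1, 0, 0)]), ((6, 6), [(1, 0, 0)]), ((7, 7), [(1, 0, 0)]), ((8, 8), [(1, 0, 0)]), ((9, 9), [(1, 0, 0)]), ((10, 10), [(1, 0, 0)]), ((11, 11), [(1, 0, 0)]), ((12, 12), [(1, 0, 0)]), ((13, 13), [(1, 0, 0)]), ((14, 14), [(1, 0, 0)]), ((15, 15), [(1, 0, 0)]), ((16, 16), [(1, 0, 0)]), ((17, 17), [(1, 0, 0)]), ((18, 18), [(1, 0, 0)]), ((19, 19), [(1, 0, 0)]), ((20, 20), [(1, 0, 0)]), ((21, 21), [(1, 0, 0)]), ((22, 22), [(1, 0, 0)]), ((23, 23), [(1, 0, 0)]), ((24, 24), [(1, 0, 0)]), ((25, 25), [(1, 0, 0)]), ((2, 15), [(1, 1, 0)]), ((3, 19), [(1, 1, 0)]), ((4, 21), [(-1, 1, 0)]), ((6, 23), [(1, 1, 0)]), ((8, 24), [(-1, 1, 0)]),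 ((12, 25), [(-1, 1, 0)])]
theorem f4_root1 : rootFast 1 LX1 LF1 = true := by decide +kernel

/-- the root matrix -/
def LF2 : SMat := [((0, 0), [(1, 0, 0)]), ((1, 1), [(1, 0, 0)]), ((2, 2), [(1, 0, 0)]), ((3, 3), [(1, 0, 0)]), ((4, 4), [(1, 0, 0)]), ((5, 5), [(1, 0, 0)]), ((6, 6), [(1, 0, 0)]), ((7, 7), [(1, 0, 0)]), ((8, 8), [(1, 0, 0)]), ((9, 9), [(1, 0, 0)]), ((10, 10), [(1, 0, 0)]), ((11, 11), [(1, 0, 0)]), ((12, 12), [(1, 0, 0)]), ((13, 13), [(1, 0, 0)]), ((14, 14), [(1, 0, 0)]), ((15, 15), [(1, 0, 0)]), ((16, 16), [(1, 0, 0)]), ((17, 17), [(1, 0, 0)]), ((18, 18), [(1, 0, 0)]), ((19, 19), [(1, 0, 0)]), ((20, 20), [(1, 0, 0)]), ((21, 21), [(1, 0, 0)]), ((22, 22), [(1, 0, 0)]), ((23, 23), [(1, 0, 0)]), ((24, 24), [(1, 0, 0)]), ((25, 25), [(1, 0, 0)]), ((26, 26), [(1, 0, 0)]),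 ((27, 27), [(1, 0, 0)]), ((28, 28), [(1, 0, 0)]), ((29, 29), [(1, 0, 0)]), ((30, 30), [(1, 0, 0)]), ((31, 31), [(1, 0, 0)]), ((32, 32), [(1, 0, 0)]), ((33, 33), [(1, 0, 0)]), ((34, 34), [(1, 0, 0)]), ((35, 35), [(1, 0, 0)]), ((36, 36), [(1, 0, 0)]), ((37, 37), [(1, 0, 0)]), ((38, 38), [(1, 0, 0)]), ((39, 39), [(1, 0, 0)]), ((40, 40), [(1, 0, 0)]), ((41, 41), [(1, 0, 0)]), ((42, 42), [(1, 0, 0)]), ((43, 43), [(1, 0, 0)]), ((44, 44), [(1, 0, 0)]), ((45, 45), [(1, 0, 0)]), ((46, 46), [(1, 0, 0)]), ((47, 47), [(1, 0, 0)]), ((48, 48), [(1, 0, 0)]), ((49, 49), [(1, 0, 0)]), ((50, 50), [(1, 0, 0)]), ((51, 51), [(1, 0, 0)]), ((6, 0), [(0, 1, 0)]), ((6, 1), [(2, 1, 0)]), ((6, 2), [(-1, 1, 0)]), ((6, 3), [(0, 1, 0)]), ((0, 49), [(-1, 1, 0)]), ((1, 49), [(-2, 1, 0)]), ((2, 49), [(-2, 1,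 0)]), ((3, 49), [(-1, 1, 0)]), ((6, 49), [(-1, 2, 0)]), ((4, 25), [(1, 1, 0)]), ((5, 26), [(1, 1, 0)]), ((7, 31), [(1, 1, 0)]), ((9, 34), [(-1, 1, 0)]), ((10, 35), [(1, 1, 0)]), ((11, 38), [(1, 1, 0)]), ((13, 41), [(-1, 1, 0)]), ((14, 42), [(1, 1, 0)]), ((17, 44), [(-1, 1, 0)]), ((20, 45), [(-1, 1, 0)]), ((21, 46), [(1, 1, 0)]), ((24, 48), [(-1, 1, 0)]), ((29, 50), [(-1, 1, 0)]), ((30, 51), [(-1, 1, 0)])]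
/-- its block -/
def LX2 : SMat := [((0, 0), [(1, 0, 0)]), ((1, 1), [(1, 0, 0)]), ((2, 2), [(1, 0, 0)]), ((3, 3), [(1, 0, 0)]), ((4, 4), [(1, 0, 0)]), ((5, 5), [(1, 0, 0)]), ((6, 6), [(1, 0, 0)]), ((7, 7), [(1, 0, 0)]), ((8, 8), [(1, 0, 0)]), ((9, 9), [(1, 0, 0)]), ((10, 10), [(1, 0, 0)]), ((11, 11), [(1, 0, 0)]), ((12, 12), [(1, 0, 0)]), ((13, 13), [(1, 0, 0)]), ((14, 14), [(1, 0, 0)]), ((15, 15), [(1, 0, 0)]), ((16, 16), [(1, 0, 0)]), ((17, 17), [(1, 0, 0)]), ((18, 18), [(1, 0, 0)]), ((19, 19), [(1, 0, 0)]), ((20, 20), [(1, 0, 0)]), ((21, 21), [(1, 0, 0)]), ((22, 22), [(1, 0, 0)]), ((23, 23), [(1, 0, 0)]), ((24, 24), [(1, 0, 0)]), ((25, 25), [(1, 0, 0)]), ((2, 14), [(1, 1, 0)]), ((3, 18), [(1, 1, 0)]), ((5, 21), [(-1, 1, 0)]), ((6, 22), [(1, 1, 0)]), ((9, 24), [(-1, 1, 0)]),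 ((13, 25), [(-1, 1, 0)])]
theorem f4_root2 : rootFast 2 LX2 LF2 = true := by decide +kernel

/-- the root matrix -/
def LF3 : SMat := [((0, 0), [(1, 0, 0)]), ((1, 1), [(1, 0, 0)]), ((2, 2), [(1, 0, 0)]), ((3, 3), [(1, 0, 0)]), ((4, 4), [(1, 0, 0)]), ((5, 5), [(1, 0, 0)]), ((6, 6), [(1, 0, 0)]), ((7, 7), [(1, 0, 0)]), ((8, 8), [(1, 0, 0)]), ((9, 9), [(1, 0, 0)]), ((10, 10), [(1, 0, 0)]), ((11, 11), [(1, 0, 0)]), ((12, 12), [(1, 0, 0)]), ((13, 13), [(1, 0, 0)]), ((14, 14), [(1, 0, 0)]), ((15, 15), [(1, 0, 0)]), ((16, 16), [(1, 0, 0)]), ((17, 17), [(1, 0, 0)]), ((18, 18), [(1, 0, 0)]), ((19, 19), [(1, 0, 0)]), ((20, 20), [(1, 0, 0)]), ((21, 21), [(1, 0, 0)]), ((22, 22), [(1, 0, 0)]), ((23, 23), [(1, 0, 0)]), ((24, 24), [(1, 0, 0)]), ((25, 25), [(1, 0, 0)]), ((26, 26), [(1, 0, 0)]),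 ((27, 27), [(1, 0, 0)]), ((28, 28), [(1, 0, 0)]), ((29, 29), [(1, 0, 0)]), ((30, 30), [(1, 0, 0)]), ((31, 31), [(1, 0, 0)]), ((32, 32), [(1, 0, 0)]), ((33, 33), [(1, 0, 0)]), ((34, 34), [(1, 0, 0)]), ((35, 35), [(1, 0, 0)]), ((36, 36), [(1, 0, 0)]), ((37, 37), [(1, 0, 0)]), ((38, 38), [(1, 0, 0)]), ((39, 39), [(1, 0, 0)]), ((40, 40), [(1, 0, 0)]), ((41, 41), [(1, 0, 0)]), ((42, 42), [(1, 0, 0)]), ((43, 43), [(1, 0, 0)]), ((44, 44), [(1, 0, 0)]), ((45, 45), [(1, 0, 0)]), ((46, 46), [(1, 0, 0)]), ((47, 47), [(1, 0, 0)]), ((48, 48), [(1, 0, 0)]), ((49, 49), [(1, 0, 0)]), ((50, 50), [(1, 0, 0)]), ((51, 51), [(1, 0, 0)]), ((7, 0), [(1, 1, 0)]), ((7, 1), [(0, 1, 0)]), ((7, 2), [(0, 1, 0)]), ((7, 3), [(0, 1, 0)]), ((0, 48), [(-2, 1, 0)]), ((1, 48), [(-3, 1, 0)]), ((2, 48), [(-4, 1,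 0)]), ((3, 48), [(-2, 1, 0)]), ((7, 48), [(-1, 2, 0)]), ((4, 22), [(2, 1, 0)]), ((5, 23), [(2, 1, 0)]), ((6, 24), [(2, 1, 0)]), ((8, 31), [(2, 1, 0)]), ((9, 32), [(-2, 1, 0)]), ((10, 33), [(2, 1, 0)]), ((11, 37), [(1, 1, 0)]), ((12, 38), [(1, 1, 0)]), ((13, 39), [(-1, 1, 0)]), ((14, 40), [(1, 1, 0)]), ((15, 41), [(-1, 1, 0)]), ((16, 42), [(1, 1, 0)]), ((17, 43), [(-1, 1, 0)]), ((18, 44), [(-1, 1, 0)]), ((22, 45), [(-1, 1, 0)]), ((4, 45), [(-1, 2, 0)]), ((23, 46), [(1, 1, 0)]), ((5, 46), [(1, 2, 0)]), ((24, 47), [(-1, 1, 0)]), ((6, 47), [(-1, 2, 0)]), ((31, 49), [(-1, 1, 0)]), ((8, 49), [(-1, 2, 0)]), ((32, 50), [(-1, 1, 0)]), ((9, 50), [(1, 2, 0)]), ((33, 51), [(-1, 1, 0)]), ((10, 51), [(-1, 2, 0)])]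
/-- its block -/
def LX3 : SMat := [((0, 0), [(1, 0, 0)]), ((1, 1), [(1, 0, 0)]), ((2, 2), [(1, 0, 0)]), ((3, 3), [(1, 0, 0)]), ((4, 4), [(1, 0, 0)]), ((5, 5), [(1, 0, 0)]), ((6, 6), [(1, 0, 0)]), ((7, 7), [(1, 0, 0)]), ((8, 8), [(1, 0, 0)]), ((9, 9), [(1, 0, 0)]), ((10, 10), [(1, 0, 0)]), ((11, 11), [(1, 0, 0)]), ((12, 12), [(1, 0, 0)]), ((13, 13), [(1, 0, 0)]), ((14, 14), [(1, 0, 0)]), ((15, 15), [(1, 0, 0)]), ((16, 16), [(1, 0, 0)]), ((17, 17), [(1, 0, 0)]), ((18, 18), [(1, 0, 0)]), ((19, 19), [(1, 0, 0)]), ((20, 20), [(1, 0, 0)]), ((21, 21), [(1, 0, 0)]), ((22, 22), [(1, 0, 0)]), ((23, 23), [(1, 0, 0)]), ((24, 24), [(1, 0, 0)]), ((25, 25), [(1, 0, 0)]), ((2, 0), [(1, 1, 0)]), ((2, 1), [(0, 1, 0)]), ((0, 25), [(-2, 1, 0)]), ((1, 25), [(-3, 1, 0)]), ((2, 25), [(-1, 2, 0)]),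 ((3, 17), [(1, 1, 0)]), ((4, 18), [(1, 1, 0)]), ((5, 19), [(-1, 1, 0)]), ((6, 20), [(1, 1, 0)]), ((7, 21), [(-1, 1, 0)]), ((8, 22), [(1, 1, 0)]), ((9, 23), [(-1, 1, 0)]), ((10, 24), [(-1, 1, 0)])]
theorem f4_root3 : rootFast 3 LX3 LF3 = true := by decide +kernel

/-- the root matrix -/
def LF4 : SMat := [((0, 0), [(1, 0, 0)]), ((1, 1), [(1, 0, 0)]), ((2, 2), [(1, 0, 0)]), ((3, 3), [(1, 0, 0)]), ((4, 4), [(1, 0, 0)]), ((5, 5), [(1, 0, 0)]), ((6, 6), [(1, 0, 0)]), ((7, 7), [(1, 0, 0)]), ((8, 8), [(1, 0, 0)]), ((9, 9), [(1, 0, 0)]), ((10, 10), [(1, 0, 0)]), ((11, 11), [(1, 0, 0)]), ((12, 12), [(1, 0, 0)]), ((13, 13), [(1, 0, 0)]), ((14, 14), [(1, 0, 0)]), ((15, 15), [(1, 0, 0)]), ((16, 16), [(1, 0, 0)]), ((17, 17), [(1, 0, 0)]), ((18, 18), [(1, 0, 0)]), ((19, 19), [(1, 0, 0)]),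 ((20, 20), [(1, 0, 0)]), ((21, 21), [(1, 0, 0)]), ((22, 22), [(1, 0, 0)]), ((23, 23), [(1, 0, 0)]), ((24, 24), [(1, 0, 0)]), ((25, 25), [(1, 0, 0)]), ((26, 26), [(1, 0, 0)]), ((27, 27), [(1, 0, 0)]), ((28, 28), [(1, 0, 0)]), ((29, 29), [(1, 0, 0)]), ((30, 30), [(1, 0, 0)]), ((31, 31), [(1, 0, 0)]), ((32, 32), [(1, 0, 0)]), ((33, 33), [(1, 0, 0)]), ((34, 34), [(1, 0, 0)]), ((35, 35), [(1, 0, 0)]), ((36, 36), [(1, 0, 0)]), ((37, 37), [(1, 0, 0)]), ((38, 38), [(1, 0, 0)]), ((39, 39), [(1, 0, 0)]), ((40, 40), [(1, 0, 0)]), ((41, 41), [(1, 0, 0)]), ((42, 42), [(1, 0, 0)]), ((43, 43), [(1, 0, 0)]), ((44, 44), [(1, 0, 0)]), ((45, 45), [(1, 0, 0)]), ((46, 46), [(1, 0, 0)]), ((47, 47), [(1, 0, 0)]), ((48, 48), [(1, 0, 0)]), ((49, 49), [(1, 0, 0)]), ((50, 50), [(1, 0, 0)]), ((51, 51),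 [(1, 0, 0)]), ((8, 0), [(2, 1, 0)]), ((8, 1), [(-2, 1, 0)]), ((8, 2), [(1, 1, 0)]), ((8, 3), [(0, 1, 0)]), ((0, 47), [(-1, 1, 0)]), ((1, 47), [(-1, 1, 0)]), ((2, 47), [(-2, 1, 0)]), ((3, 47), [(-1, 1, 0)]), ((8, 47), [(-1, 2, 0)]), ((4, 20), [(-1, 1, 0)]), ((5, 21), [(-1, 1, 0)]), ((7, 24), [(1, 1, 0)]), ((9, 29), [(1, 1, 0)]), ((10, 30), [(-1, 1, 0)]), ((12, 37), [(1, 1, 0)]), ((15, 39), [(-1, 1, 0)]), ((16, 40), [(1, 1, 0)]), ((18, 43), [(-1, 1, 0)]), ((25, 45), [(1, 1, 0)]), ((26, 46), [(-1, 1, 0)]), ((31, 48), [(-1, 1, 0)]), ((34, 50), [(1, 1, 0)]), ((35, 51), [(1, 1, 0)])]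
/-- its block -/
def LX4 : SMat := [((0, 0), [(1, 0, 0)]), ((1, 1), [(1, 0, 0)]), ((2, 2), [(1, 0, 0)]), ((3, 3), [(1, 0, 0)]), ((4, 4), [(1, 0, 0)]), ((5, 5), [(1, 0, 0)]), ((6, 6), [(1, 0, 0)]), ((7, 7), [(1, 0, 0)]), ((8, 8), [(1, 0, 0)]), ((9, 9), [(1, 0, 0)]), ((10, 10), [(1, 0, 0)]), ((11, 11), [(1, 0, 0)]), ((12, 12), [(1, 0, 0)]), ((13, 13), [(1, 0, 0)]), ((14, 14), [(1, 0, 0)]), ((15, 15), [(1, 0, 0)]), ((16, 16), [(1, 0, 0)]), ((17, 17), [(1, 0, 0)]), ((18, 18), [(1, 0, 0)]), ((19, 19), [(1, 0, 0)]), ((20, 20), [(1, 0, 0)]), ((21, 21), [(1, 0, 0)]), ((22, 22), [(1, 0, 0)]), ((23, 23), [(1, 0, 0)]), ((24, 24), [(1, 0, 0)]), ((25, 25), [(1, 0, 0)]), ((2, 13), [(1, 1, 0)]), ((4, 17), [(1, 1, 0)]), ((7, 19), [(-1, 1, 0)]), ((8, 20), [(1, 1, 0)]), ((10, 23), [(-1, 1, 0)]),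 ((14, 25), [(-1, 1, 0)])]
theorem f4_root4 : rootFast 4 LX4 LF4 = true := by decide +kernel

/-- the root matrix -/
def LF5 : SMat := [((0, 0), [(1, 0, 0)]), ((1, 1), [(1, 0, 0)]), ((2, 2), [(1, 0, 0)]), ((3, 3), [(1, 0, 0)]), ((4, 4), [(1, 0, 0)]), ((5, 5), [(1, 0, 0)]), ((6, 6), [(1, 0, 0)]), ((7, 7), [(1, 0, 0)]), ((8, 8), [(1, 0, 0)]), ((9, 9), [(1, 0, 0)]), ((10, 10), [(1, 0, 0)]), ((11, 11), [(1, 0, 0)]), ((12, 12), [(1, 0, 0)]), ((13, 13), [(1, 0, 0)]), ((14, 14), [(1, 0, 0)]), ((15, 15), [(1, 0, 0)]), ((16, 16), [(1, 0, 0)]), ((17, 17), [(1, 0, 0)]), ((18, 18), [(1, 0, 0)]), ((19, 19), [(1, 0, 0)]), ((20, 20), [(1, 0, 0)]), ((21, 21), [(1, 0, 0)]), ((22, 22), [(1, 0, 0)]), ((23, 23), [(1, 0, 0)]), ((24, 24), [(1, 0, 0)]), ((25, 25), [(1, 0, 0)]), ((26, 26), [(1, 0, 0)]),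 ((27, 27), [(1, 0, 0)]), ((28, 28), [(1, 0, 0)]), ((29, 29), [(1, 0, 0)]), ((30, 30), [(1, 0, 0)]), ((31, 31), [(1, 0, 0)]), ((32, 32), [(1, 0, 0)]), ((33, 33), [(1, 0, 0)]), ((34, 34), [(1, 0, 0)]), ((35, 35), [(1, 0, 0)]), ((36, 36), [(1, 0, 0)]), ((37, 37), [(1, 0, 0)]), ((38, 38), [(1, 0, 0)]), ((39, 39), [(1, 0, 0)]), ((40, 40), [(1, 0, 0)]), ((41, 41), [(1, 0, 0)]), ((42, 42), [(1, 0, 0)]), ((43, 43), [(1, 0, 0)]), ((44, 44), [(1, 0, 0)]), ((45, 45), [(1, 0, 0)]), ((46, 46), [(1, 0, 0)]), ((47, 47), [(1, 0, 0)]), ((48, 48), [(1, 0, 0)]), ((49, 49), [(1, 0, 0)]), ((50, 50), [(1, 0, 0)]), ((51, 51), [(1, 0, 0)]), ((9, 0), [(2, 1, 0)]), ((9, 1), [(0, 1, 0)]), ((9, 2), [(-1, 1, 0)]), ((9, 3), [(1, 1, 0)]), ((0, 46), [(-1, 1, 0)]), ((1, 46), [(-1, 1, 0)]), ((2, 46), [(-1, 1,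 0)]), ((3, 46), [(-1, 1, 0)]), ((9, 46), [(-1, 2, 0)]), ((4, 19), [(1, 1, 0)]), ((6, 21), [(-1, 1, 0)]), ((7, 23), [(-1, 1, 0)]), ((8, 26), [(1, 1, 0)]), ((10, 28), [(1, 1, 0)]), ((13, 37), [(1, 1, 0)]), ((15, 38), [(-1, 1, 0)]), ((17, 40), [(1, 1, 0)]), ((18, 42), [(-1, 1, 0)]), ((27, 45), [(-1, 1, 0)]), ((29, 47), [(-1, 1, 0)]), ((32, 48), [(1, 1, 0)]), ((34, 49), [(1, 1, 0)]), ((36, 51), [(-1, 1, 0)])]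
/-- its block -/
def LX5 : SMat := [((0, 0), [(1, 0, 0)]), ((1, 1), [(1, 0, 0)]), ((2, 2), [(1, 0, 0)]), ((3, 3), [(1, 0, 0)]), ((4, 4), [(1, 0, 0)]), ((5, 5), [(1, 0, 0)]), ((6, 6), [(1, 0, 0)]), ((7, 7), [(1, 0, 0)]), ((8, 8), [(1, 0, 0)]), ((9, 9), [(1, 0, 0)]), ((10, 10), [(1, 0, 0)]), ((11, 11), [(1, 0, 0)]), ((12, 12), [(1, 0, 0)]), ((13, 13), [(1, 0, 0)]), ((14, 14), [(1, 0, 0)]), ((15, 15), [(1, 0, 0)]), ((16, 16), [(1, 0, 0)]), ((17, 17), [(1, 0, 0)]), ((18, 18), [(1, 0, 0)]), ((19, 19), [(1, 0, 0)]), ((20, 20), [(1, 0, 0)]), ((21, 21), [(1, 0, 0)]), ((22, 22), [(1, 0, 0)]), ((23, 23), [(1, 0, 0)]), ((24, 24), [(1, 0, 0)]), ((25, 25), [(1, 0, 0)]), ((2, 12), [(-1, 1, 0)]), ((5, 17), [(1, 1, 0)]), ((7, 18), [(-1, 1, 0)]), ((9, 20), [(1, 1, 0)]), ((10, 22), [(-1, 1, 0)]),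 ((15, 25), [(1, 1, 0)])]
theorem f4_root5 : rootFast 5 LX5 LF5 = true := by decide +kernel

/-- the root matrix -/
def LF6 : SMat := [((0, 0), [(1, 0, 0)]), ((1, 1), [(1, 0, 0)]), ((2, 2), [(1, 0, 0)]), ((3, 3), [(1, 0, 0)]), ((4, 4), [(1, 0, 0)]), ((5, 5), [(1, 0, 0)]), ((6, 6), [(1, 0, 0)]), ((7, 7), [(1, 0, 0)]), ((8, 8), [(1, 0, 0)]), ((9, 9), [(1, 0, 0)]), ((10, 10), [(1, 0, 0)]), ((11, 11), [(1, 0, 0)]), ((12, 12), [(1, 0, 0)]), ((13, 13), [(1, 0, 0)]), ((14, 14), [(1, 0, 0)]), ((15, 15), [(1, 0, 0)]), ((16, 16), [(1, 0, 0)]), ((17, 17), [(1, 0, 0)]), ((18, 18), [(1, 0, 0)]), ((19, 19), [(1, 0, 0)]), ((20, 20), [(1, 0, 0)]), ((21, 21), [(1, 0, 0)]), ((22, 22), [(1, 0, 0)]), ((23, 23), [(1, 0, 0)]), ((24, 24), [(1, 0, 0)]), ((25, 25), [(1, 0, 0)]), ((26, 26), [(1, 0, 0)]),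 ((27, 27), [(1, 0, 0)]), ((28, 28), [(1, 0, 0)]), ((29, 29), [(1, 0, 0)]), ((30, 30), [(1, 0, 0)]), ((31, 31), [(1, 0, 0)]), ((32, 32), [(1, 0, 0)]), ((33, 33), [(1, 0, 0)]), ((34, 34), [(1, 0, 0)]), ((35, 35), [(1, 0, 0)]), ((36, 36), [(1, 0, 0)]), ((37, 37), [(1, 0, 0)]), ((38, 38), [(1, 0, 0)]), ((39, 39), [(1, 0, 0)]), ((40, 40), [(1, 0, 0)]), ((41, 41), [(1, 0, 0)]), ((42, 42), [(1, 0, 0)]), ((43, 43), [(1, 0, 0)]), ((44, 44), [(1, 0, 0)]), ((45, 45), [(1, 0, 0)]), ((46, 46), [(1, 0, 0)]), ((47, 47), [(1, 0, 0)]), ((48, 48), [(1, 0, 0)]), ((49, 49), [(1, 0, 0)]), ((50, 50), [(1, 0, 0)]), ((51, 51), [(1, 0, 0)]), ((10, 0), [(2, 1, 0)]), ((10, 1), [(0, 1, 0)]), ((10, 2), [(0, 1, 0)]), ((10, 3), [(-1, 1, 0)]), ((0, 45), [(-1, 1, 0)]), ((1, 45), [(-1, 1, 0)]), ((2, 45), [(-1,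 1, 0)]), ((3, 45), [(0, 1, 0)]), ((10, 45), [(-1, 2, 0)]), ((5, 19), [(1, 1, 0)]), ((6, 20), [(1, 1, 0)]), ((7, 22), [(1, 1, 0)]), ((8, 25), [(-1, 1, 0)]), ((9, 27), [(1, 1, 0)]), ((14, 37), [(1, 1, 0)]), ((16, 38), [(-1, 1, 0)]), ((17, 39), [(1, 1, 0)]), ((18, 41), [(-1, 1, 0)]), ((28, 46), [(-1, 1, 0)]), ((30, 47), [(1, 1, 0)]), ((33, 48), [(-1, 1, 0)]), ((35, 49), [(-1, 1, 0)]), ((36, 50), [(-1, 1, 0)])]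
/-- its block -/
def LX6 : SMat := [((0, 0), [(1, 0, 0)]), ((1, 1), [(1, 0, 0)]), ((2, 2), [(1, 0, 0)]), ((3, 3), [(1, 0, 0)]), ((4, 4), [(1, 0, 0)]), ((5, 5), [(1, 0, 0)]), ((6, 6), [(1, 0, 0)]), ((7, 7), [(1, 0, 0)]), ((8, 8), [(1, 0, 0)]), ((9, 9), [(1, 0, 0)]), ((10, 10), [(1, 0, 0)]), ((11, 11), [(1, 0, 0)]), ((12, 12), [(1, 0, 0)]), ((13, 13), [(1, 0, 0)]), ((14, 14), [(1, 0, 0)]), ((15, 15), [(1, 0, 0)]), ((16, 16), [(1, 0, 0)]), ((17, 17), [(1, 0, 0)]), ((18, 18), [(1, 0, 0)]), ((19, 19), [(1, 0, 0)]), ((20, 20), [(1, 0, 0)]), ((21, 21), [(1, 0, 0)]), ((22, 22), [(1, 0, 0)]), ((23, 23), [(1, 0, 0)]), ((24, 24), [(1, 0, 0)]), ((25, 25), [(1, 0, 0)]), ((2, 11), [(1, 1, 0)]), ((6, 17), [(1, 1, 0)]), ((8, 18), [(-1, 1, 0)]), ((9, 19), [(1, 1, 0)]), ((10, 21), [(-1, 1, 0)]),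 ((16, 25), [(-1, 1, 0)])]
theorem f4_root6 : rootFast 6 LX6 LF6 = true := by decide +kernel

/-- the root matrix -/
def LF7 : SMat := [((0, 0), [(1, 0, 0)]), ((1, 1), [(1, 0, 0)]), ((2, 2), [(1, 0, 0)]), ((3, 3), [(1, 0, 0)]), ((4, 4), [(1, 0, 0)]), ((5, 5), [(1, 0, 0)]), ((6, 6), [(1, 0, 0)]), ((7, 7), [(1, 0, 0)]), ((8, 8), [(1, 0, 0)]), ((9, 9), [(1, 0, 0)]), ((10, 10), [(1, 0, 0)]), ((11, 11), [(1, 0, 0)]), ((12, 12), [(1, 0, 0)]), ((13, 13), [(1, 0, 0)]), ((14, 14), [(1, 0, 0)]), ((15, 15), [(1, 0, 0)]), ((16, 16), [(1, 0, 0)]), ((17, 17), [(1, 0, 0)]), ((18, 18), [(1, 0, 0)]), ((19, 19), [(1, 0, 0)]), ((20, 20), [(1, 0, 0)]), ((21, 21), [(1, 0, 0)]), ((22, 22), [(1, 0, 0)]), ((23, 23), [(1, 0, 0)]), ((24, 24), [(1, 0, 0)]), ((25, 25), [(1, 0, 0)]), ((26, 26), [(1, 0, 0)]),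 ((27, 27), [(1, 0, 0)]), ((28, 28), [(1, 0, 0)]), ((29, 29), [(1, 0, 0)]), ((30, 30), [(1, 0, 0)]), ((31, 31), [(1, 0, 0)]), ((32, 32), [(1, 0, 0)]), ((33, 33), [(1, 0, 0)]), ((34, 34), [(1, 0, 0)]), ((35, 35), [(1, 0, 0)]), ((36, 36), [(1, 0, 0)]), ((37, 37), [(1, 0, 0)]), ((38, 38), [(1, 0, 0)]), ((39, 39), [(1, 0, 0)]), ((40, 40), [(1, 0, 0)]), ((41, 41), [(1, 0, 0)]), ((42, 42), [(1, 0, 0)]), ((43, 43), [(1, 0, 0)]), ((44, 44), [(1, 0, 0)]), ((45, 45), [(1, 0, 0)]), ((46, 46), [(1, 0, 0)]), ((47, 47), [(1, 0, 0)]), ((48, 48), [(1, 0, 0)]), ((49, 49), [(1, 0, 0)]), ((50, 50), [(1, 0, 0)]), ((51, 51), [(1, 0, 0)]), ((11, 0), [(-1, 1, 0)]), ((11, 1), [(1, 1, 0)]), ((11, 2), [(0, 1, 0)]), ((11, 3), [(0, 1, 0)]), ((0, 44), [(-1, 1, 0)]), ((1, 44), [(-3, 1, 0)]), ((2, 44), [(-4,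 1, 0)]), ((3, 44), [(-2, 1, 0)]), ((11, 44), [(-1, 2, 0)]), ((4, 15), [(2, 1, 0)]), ((5, 16), [(2, 1, 0)]), ((6, 17), [(2, 1, 0)]), ((7, 18), [(1, 1, 0)]), ((12, 31), [(1, 1, 0)]), ((13, 32), [(-1, 1, 0)]), ((14, 33), [(1, 1, 0)]), ((15, 34), [(1, 1, 0)]), ((4, 34), [(1, 2, 0)]), ((16, 35), [(-1, 1, 0)]), ((5, 35), [(-1, 2, 0)]), ((17, 36), [(1, 1, 0)]), ((6, 36), [(1, 2, 0)]), ((19, 38), [(-2, 1, 0)]), ((20, 39), [(2, 1, 0)]), ((21, 40), [(-2, 1, 0)]), ((22, 41), [(-1, 1, 0)]), ((23, 42), [(1, 1, 0)]), ((24, 43), [(-1, 1, 0)]), ((37, 48), [(-1, 1, 0)]), ((38, 49), [(-1, 1, 0)]), ((19, 49), [(1, 2, 0)]), ((39, 50), [(-1, 1, 0)]), ((20, 50), [(-1, 2, 0)]), ((40, 51), [(-1, 1, 0)]), ((21, 51), [(1, 2, 0)])]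
/-- its block -/
def LX7 : SMat := [((0, 0), [(1, 0, 0)]), ((1, 1), [(1, 0, 0)]), ((2, 2), [(1, 0, 0)]), ((3, 3), [(1, 0, 0)]), ((4, 4), [(1, 0, 0)]), ((5, 5), [(1, 0, 0)]), ((6, 6), [(1, 0, 0)]), ((7, 7), [(1, 0, 0)]), ((8, 8), [(1, 0, 0)]), ((9, 9), [(1, 0, 0)]), ((10, 10), [(1, 0, 0)]), ((11, 11), [(1, 0, 0)]), ((12, 12), [(1, 0, 0)]), ((13, 13), [(1, 0, 0)]), ((14, 14), [(1, 0, 0)]), ((15, 15), [(1, 0, 0)]), ((16, 16), [(1, 0, 0)]), ((17, 17), [(1, 0, 0)]), ((18, 18), [(1, 0, 0)]), ((19, 19), [(1, 0, 0)]), ((20, 20), [(1, 0, 0)]), ((21, 21), [(1, 0, 0)]), ((22, 22), [(1, 0, 0)]), ((23, 23), [(1, 0, 0)]), ((24, 24), [(1, 0, 0)]), ((25, 25), [(1, 0, 0)]), ((3, 0), [(-1, 1, 0)]), ((3, 1), [(1, 1, 0)]), ((0, 24), [(-1, 1, 0)]), ((1, 24), [(-3, 1, 0)]), ((3, 24), [(-1, 2, 0)]),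 ((2, 10), [(1, 1, 0)]), ((4, 14), [(1, 1, 0)]), ((5, 15), [(-1, 1, 0)]), ((6, 16), [(1, 1, 0)]), ((11, 21), [(-1, 1, 0)]), ((12, 22), [(1, 1, 0)]), ((13, 23), [(-1, 1, 0)]), ((17, 25), [(-1, 1, 0)])]
theorem f4_root7 : rootFast 7 LX7 LF7 = true := by decide +kernel

/-- the root matrix -/
def LF8 : SMat := [((0, 0), [(1, 0, 0)]), ((1, 1), [(1, 0, 0)]), ((2, 2), [(1, 0, 0)]), ((3, 3), [(1, 0, 0)]), ((4, 4), [(1, 0, 0)]), ((5, 5), [(1, 0, 0)]), ((6, 6), [(1, 0, 0)]), ((7, 7), [(1, 0, 0)]), ((8, 8), [(1, 0, 0)]), ((9, 9), [(1, 0, 0)]), ((10, 10), [(1, 0, 0)]), ((11, 11), [(1, 0, 0)]), ((12, 12), [(1, 0, 0)]), ((13, 13), [(1, 0, 0)]), ((14, 14), [(1, 0, 0)]), ((15, 15), [(1, 0, 0)]), ((16, 16), [(1, 0, 0)]), ((17, 17), [(1, 0, 0)]), ((18, 18), [(1, 0, 0)]), ((19, 19), [(1, 0, 0)]),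 ((20, 20), [(1, 0, 0)]), ((21, 21), [(1, 0, 0)]), ((22, 22), [(1, 0, 0)]), ((23, 23), [(1, 0, 0)]), ((24, 24), [(1, 0, 0)]), ((25, 25), [(1, 0, 0)]), ((26, 26), [(1, 0, 0)]), ((27, 27), [(1, 0, 0)]), ((28, 28), [(1, 0, 0)]), ((29, 29), [(1, 0, 0)]), ((30, 30), [(1, 0, 0)]), ((31, 31), [(1, 0, 0)]), ((32, 32), [(1, 0, 0)]), ((33, 33), [(1, 0, 0)]), ((34, 34), [(1, 0, 0)]), ((35, 35), [(1, 0, 0)]), ((36, 36), [(1, 0, 0)]), ((37, 37), [(1, 0, 0)]), ((38, 38), [(1, 0, 0)]), ((39, 39), [(1, 0, 0)]), ((40, 40), [(1, 0, 0)]), ((41, 41), [(1, 0, 0)]), ((42, 42), [(1, 0, 0)]), ((43, 43), [(1, 0, 0)]), ((44, 44), [(1, 0, 0)]), ((45, 45), [(1, 0, 0)]), ((46, 46), [(1, 0, 0)]), ((47, 47), [(1, 0, 0)]), ((48, 48), [(1, 0, 0)]), ((49, 49), [(1, 0, 0)]), ((50, 50), [(1, 0, 0)]), ((51, 51),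 [(1, 0, 0)]), ((12, 0), [(0, 1, 0)]), ((12, 1), [(-1, 1, 0)]), ((12, 2), [(1, 1, 0)]), ((12, 3), [(0, 1, 0)]), ((0, 43), [(-1, 1, 0)]), ((1, 43), [(-2, 1, 0)]), ((2, 43), [(-4, 1, 0)]), ((3, 43), [(-2, 1, 0)]), ((12, 43), [(-1, 2, 0)]), ((4, 13), [(-2, 1, 0)]), ((5, 14), [(-2, 1, 0)]), ((7, 17), [(1, 1, 0)]), ((8, 18), [(2, 1, 0)]), ((11, 24), [(1, 1, 0)]), ((13, 29), [(1, 1, 0)]), ((4, 29), [(-1, 2, 0)]), ((14, 30), [(-1, 1, 0)]), ((5, 30), [(1, 2, 0)]), ((15, 32), [(1, 1, 0)]), ((16, 33), [(-1, 1, 0)]), ((18, 36), [(1, 1, 0)]), ((8, 36), [(1, 2, 0)]), ((19, 37), [(-2, 1, 0)]), ((22, 39), [(1, 1, 0)]), ((23, 40), [(-1, 1, 0)]), ((25, 41), [(2, 1, 0)]), ((26, 42), [(-2, 1, 0)]), ((31, 44), [(-1, 1, 0)]), ((37, 47), [(-1, 1, 0)]), ((19, 47), [(1, 2, 0)]), ((38, 48), [(-1, 1, 0)]),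 ((41, 50), [(1, 1, 0)]), ((25, 50), [(1, 2, 0)]), ((42, 51), [(1, 1, 0)]), ((26, 51), [(-1, 2, 0)])]
/-- its block -/
def LX8 : SMat := [((0, 0), [(1, 0, 0)]), ((1, 1), [(1, 0, 0)]), ((2, 2), [(1, 0, 0)]), ((3, 3), [(1, 0, 0)]), ((4, 4), [(1, 0, 0)]), ((5, 5), [(1, 0, 0)]), ((6, 6), [(1, 0, 0)]), ((7, 7), [(1, 0, 0)]), ((8, 8), [(1, 0, 0)]), ((9, 9), [(1, 0, 0)]), ((10, 10), [(1, 0, 0)]), ((11, 11), [(1, 0, 0)]), ((12, 12), [(1, 0, 0)]), ((13, 13), [(1, 0, 0)]), ((14, 14), [(1, 0, 0)]), ((15, 15), [(1, 0, 0)]), ((16, 16), [(1, 0, 0)]), ((17, 17), [(1, 0, 0)]), ((18, 18), [(1, 0, 0)]), ((19, 19), [(1, 0, 0)]), ((20, 20), [(1, 0, 0)]), ((21, 21), [(1, 0, 0)]), ((22, 22), [(1, 0, 0)]), ((23, 23), [(1, 0, 0)]), ((24, 24), [(1, 0, 0)]), ((25, 25), [(1, 0, 0)]), ((4, 0), [(0, 1, 0)]),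 ((4, 1), [(-1, 1, 0)]), ((0, 23), [(-1, 1, 0)]), ((1, 23), [(-2, 1, 0)]), ((4, 23), [(-1, 2, 0)]), ((2, 9), [(1, 1, 0)]), ((3, 13), [(1, 1, 0)]), ((7, 15), [(1, 1, 0)]), ((8, 16), [(-1, 1, 0)]), ((11, 19), [(1, 1, 0)]), ((12, 20), [(-1, 1, 0)]), ((14, 24), [(-1, 1, 0)]), ((18, 25), [(-1, 1, 0)])]
theorem f4_root8 : rootFast 8 LX8 LF8 = true := by decide +kernel

/-- the root matrix -/
def LF9 : SMat := [((0, 0), [(1, 0, 0)]), ((1, 1), [(1, 0, 0)]), ((2, 2), [(1, 0, 0)]), ((3, 3), [(1, 0, 0)]), ((4, 4), [(1, 0, 0)]), ((5, 5), [(1, 0, 0)]), ((6, 6), [(1, 0, 0)]), ((7, 7), [(1, 0, 0)]), ((8, 8), [(1, 0, 0)]), ((9, 9), [(1, 0, 0)]), ((10, 10), [(1, 0, 0)]), ((11, 11), [(1, 0, 0)]), ((12, 12), [(1, 0, 0)]), ((13, 13), [(1, 0, 0)]), ((14, 14), [(1, 0, 0)]), ((15, 15), [(1, 0, 0)]),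 ((16, 16), [(1, 0, 0)]), ((17, 17), [(1, 0, 0)]), ((18, 18), [(1, 0, 0)]), ((19, 19), [(1, 0, 0)]), ((20, 20), [(1, 0, 0)]), ((21, 21), [(1, 0, 0)]), ((22, 22), [(1, 0, 0)]), ((23, 23), [(1, 0, 0)]), ((24, 24), [(1, 0, 0)]), ((25, 25), [(1, 0, 0)]), ((26, 26), [(1, 0, 0)]), ((27, 27), [(1, 0, 0)]), ((28, 28), [(1, 0, 0)]), ((29, 29), [(1, 0, 0)]), ((30, 30), [(1, 0, 0)]), ((31, 31), [(1, 0, 0)]), ((32, 32), [(1, 0, 0)]), ((33, 33), [(1, 0, 0)]), ((34, 34), [(1, 0, 0)]), ((35, 35), [(1, 0, 0)]), ((36, 36), [(1, 0, 0)]), ((37, 37), [(1, 0, 0)]), ((38, 38), [(1, 0, 0)]), ((39, 39), [(1, 0, 0)]), ((40, 40), [(1, 0, 0)]), ((41, 41), [(1, 0, 0)]), ((42, 42), [(1, 0, 0)]), ((43, 43), [(1, 0, 0)]), ((44, 44), [(1, 0, 0)]), ((45, 45), [(1, 0, 0)]), ((46, 46), [(1, 0, 0)]), ((47, 47),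 [(1, 0, 0)]), ((48, 48), [(1, 0, 0)]), ((49, 49), [(1, 0, 0)]), ((50, 50), [(1, 0, 0)]), ((51, 51), [(1, 0, 0)]), ((13, 0), [(0, 1, 0)]), ((13, 1), [(1, 1, 0)]), ((13, 2), [(-1, 1, 0)]), ((13, 3), [(1, 1, 0)]), ((0, 42), [(-1, 1, 0)]), ((1, 42), [(-2, 1, 0)]), ((2, 42), [(-2, 1, 0)]), ((3, 42), [(-2, 1, 0)]), ((13, 42), [(-1, 2, 0)]), ((4, 12), [(2, 1, 0)]), ((6, 14), [(-2, 1, 0)]), ((7, 16), [(-1, 1, 0)]), ((9, 18), [(2, 1, 0)]), ((11, 23), [(-1, 1, 0)]), ((12, 26), [(1, 1, 0)]), ((4, 26), [(1, 2, 0)]), ((14, 28), [(1, 1, 0)]), ((6, 28), [(-1, 2, 0)]), ((15, 31), [(1, 1, 0)]), ((17, 33), [(-1, 1, 0)]), ((18, 35), [(1, 1, 0)]), ((9, 35), [(1, 2, 0)]), ((20, 37), [(-2, 1, 0)]), ((22, 38), [(1, 1, 0)]), ((24, 40), [(-1, 1, 0)]), ((27, 41), [(-2, 1, 0)]), ((29, 43), [(-2, 1, 0)]),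 ((32, 44), [(1, 1, 0)]), ((37, 46), [(-1, 1, 0)]), ((20, 46), [(1, 2, 0)]), ((39, 48), [(1, 1, 0)]), ((41, 49), [(1, 1, 0)]), ((27, 49), [(-1, 2, 0)]), ((43, 51), [(-1, 1, 0)]), ((29, 51), [(1, 2, 0)])]
/-- its block -/
def LX9 : SMat := [((0, 0), [(1, 0, 0)]), ((1, 1), [(1, 0, 0)]), ((2, 2), [(1, 0, 0)]), ((3, 3), [(1, 0, 0)]), ((4, 4), [(1, 0, 0)]), ((5, 5), [(1, 0, 0)]), ((6, 6), [(1, 0, 0)]), ((7, 7), [(1, 0, 0)]), ((8, 8), [(1, 0, 0)]), ((9, 9), [(1, 0, 0)]), ((10, 10), [(1, 0, 0)]), ((11, 11), [(1, 0, 0)]), ((12, 12), [(1, 0, 0)]), ((13, 13), [(1, 0, 0)]), ((14, 14), [(1, 0, 0)]), ((15, 15), [(1, 0, 0)]), ((16, 16), [(1, 0, 0)]), ((17, 17), [(1, 0, 0)]), ((18, 18), [(1, 0, 0)]), ((19, 19), [(1, 0, 0)]), ((20, 20), [(1, 0, 0)]), ((21, 21), [(1, 0, 0)]), ((22, 22), [(1, 0,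 0)]), ((23, 23), [(1, 0, 0)]), ((24, 24), [(1, 0, 0)]), ((25, 25), [(1, 0, 0)]), ((5, 0), [(0, 1, 0)]), ((5, 1), [(1, 1, 0)]), ((0, 22), [(-1, 1, 0)]), ((1, 22), [(-2, 1, 0)]), ((5, 22), [(-1, 2, 0)]), ((2, 8), [(-1, 1, 0)]), ((3, 12), [(-1, 1, 0)]), ((7, 14), [(1, 1, 0)]), ((9, 16), [(-1, 1, 0)]), ((11, 18), [(1, 1, 0)]), ((13, 20), [(-1, 1, 0)]), ((15, 24), [(1, 1, 0)]), ((19, 25), [(1, 1, 0)])]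
theorem f4_root9 : rootFast 9 LX9 LF9 = true := by decide +kernel

/-- the root matrix -/
def LF10 : SMat := [((0, 0), [(1, 0, 0)]), ((1, 1), [(1, 0, 0)]), ((2, 2), [(1, 0, 0)]), ((3, 3), [(1, 0, 0)]), ((4, 4), [(1, 0, 0)]), ((5, 5), [(1, 0, 0)]), ((6, 6), [(1, 0, 0)]), ((7, 7), [(1, 0, 0)]), ((8, 8), [(1, 0, 0)]), ((9, 9), [(1, 0, 0)]), ((10, 10), [(1, 0, 0)]), ((11, 11), [(1, 0, 0)]), ((12, 12), [(1, 0, 0)]), ((13, 13), [(1, 0, 0)]), ((14, 14), [(1, 0, 0)]), ((15, 15), [(1, 0, 0)]), ((16, 16), [(1, 0, 0)]), ((17, 17), [(1, 0, 0)]), ((18, 18), [(1, 0, 0)]), ((19, 19), [(1, 0, 0)]), ((20, 20), [(1, 0, 0)]), ((21, 21), [(1, 0, 0)]), ((22, 22), [(1, 0, 0)]), ((23, 23), [(1, 0, 0)]), ((24, 24), [(1, 0, 0)]), ((25, 25), [(1, 0, 0)]), ((26, 26), [(1, 0, 0)]), ((27, 27), [(1, 0, 0)]),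 ((28, 28), [(1, 0, 0)]), ((29, 29), [(1, 0, 0)]), ((30, 30), [(1, 0, 0)]), ((31, 31), [(1, 0, 0)]), ((32, 32), [(1, 0, 0)]), ((33, 33), [(1, 0, 0)]), ((34, 34), [(1, 0, 0)]), ((35, 35), [(1, 0, 0)]), ((36, 36), [(1, 0, 0)]), ((37, 37), [(1, 0, 0)]), ((38, 38), [(1, 0, 0)]), ((39, 39), [(1, 0, 0)]), ((40, 40), [(1, 0, 0)]), ((41, 41), [(1, 0, 0)]), ((42, 42), [(1, 0, 0)]), ((43, 43), [(1, 0, 0)]), ((44, 44), [(1, 0, 0)]), ((45, 45), [(1, 0, 0)]), ((46, 46), [(1, 0, 0)]), ((47, 47), [(1, 0, 0)]), ((48, 48), [(1, 0, 0)]), ((49, 49), [(1, 0, 0)]), ((50, 50), [(1, 0, 0)]), ((51, 51), [(1, 0, 0)]), ((14, 0), [(0, 1, 0)]), ((14, 1), [(1, 1, 0)]), ((14, 2), [(0, 1, 0)]), ((14, 3), [(-1, 1, 0)]), ((0, 41), [(-1, 1, 0)]), ((1, 41), [(-2, 1, 0)]), ((2, 41), [(-2, 1, 0)]), ((3, 41), [(0,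 1, 0)]), ((14, 41), [(-1, 2, 0)]), ((5, 12), [(2, 1, 0)]), ((6, 13), [(2, 1, 0)]), ((7, 15), [(1, 1, 0)]), ((10, 18), [(2, 1, 0)]), ((11, 22), [(1, 1, 0)]), ((12, 25), [(-1, 1, 0)]), ((5, 25), [(-1, 2, 0)]), ((13, 27), [(1, 1, 0)]), ((6, 27), [(1, 2, 0)]), ((16, 31), [(1, 1, 0)]), ((17, 32), [(-1, 1, 0)]), ((18, 34), [(1, 1, 0)]), ((10, 34), [(1, 2, 0)]), ((21, 37), [(-2, 1, 0)]), ((23, 38), [(1, 1, 0)]), ((24, 39), [(-1, 1, 0)]), ((28, 42), [(-2, 1, 0)]), ((30, 43), [(2, 1, 0)]), ((33, 44), [(-1, 1, 0)]), ((37, 45), [(-1, 1, 0)]), ((21, 45), [(1, 2, 0)]), ((40, 48), [(-1, 1, 0)]), ((42, 49), [(-1, 1, 0)]), ((28, 49), [(1, 2, 0)]), ((43, 50), [(-1, 1, 0)]), ((30, 50), [(-1, 2, 0)])]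
/-- its block -/
def LX10 : SMat := [((0, 0), [(1, 0, 0)]), ((1, 1), [(1, 0, 0)]), ((2, 2), [(1, 0, 0)]), ((3, 3), [(1, 0, 0)]), ((4, 4), [(1, 0, 0)]), ((5, 5), [(1, 0, 0)]), ((6, 6), [(1, 0, 0)]), ((7, 7), [(1, 0, 0)]), ((8, 8), [(1, 0, 0)]), ((9, 9), [(1, 0, 0)]), ((10, 10), [(1, 0, 0)]), ((11, 11), [(1, 0, 0)]), ((12, 12), [(1, 0, 0)]), ((13, 13), [(1, 0, 0)]), ((14, 14), [(1, 0, 0)]), ((15, 15), [(1, 0, 0)]), ((16, 16), [(1, 0, 0)]), ((17, 17), [(1, 0, 0)]), ((18, 18), [(1, 0, 0)]), ((19, 19), [(1, 0, 0)]), ((20, 20), [(1, 0, 0)]), ((21, 21), [(1, 0, 0)]), ((22, 22), [(1, 0, 0)]), ((23, 23), [(1, 0, 0)]), ((24, 24), [(1, 0, 0)]), ((25, 25), [(1, 0, 0)]), ((6, 0), [(0, 1, 0)]), ((6, 1), [(1, 1, 0)]), ((0, 21), [(-1, 1, 0)]), ((1, 21), [(-2, 1, 0)]), ((6, 21), [(-1, 2, 0)]),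 ((2, 7), [(1, 1, 0)]), ((3, 11), [(1, 1, 0)]), ((8, 14), [(1, 1, 0)]), ((9, 15), [(-1, 1, 0)]), ((12, 18), [(1, 1, 0)]), ((13, 19), [(-1, 1, 0)]), ((16, 24), [(-1, 1, 0)]), ((20, 25), [(-1, 1, 0)])]
theorem f4_root10 : rootFast 10 LX10 LF10 = true := by decide +kernel

/-- the root matrix -/
def LF11 : SMat := [((0, 0), [(1, 0, 0)]), ((1, 1), [(1, 0, 0)]), ((2, 2), [(1, 0, 0)]), ((3, 3), [(1, 0, 0)]), ((4, 4), [(1, 0, 0)]), ((5, 5), [(1, 0, 0)]), ((6, 6), [(1, 0, 0)]), ((7, 7), [(1, 0, 0)]), ((8, 8), [(1, 0, 0)]), ((9, 9), [(1, 0, 0)]), ((10, 10), [(1, 0, 0)]), ((11, 11), [(1, 0, 0)]), ((12, 12), [(1, 0, 0)]), ((13, 13), [(1, 0, 0)]), ((14, 14), [(1, 0, 0)]), ((15, 15), [(1, 0, 0)]), ((16, 16), [(1, 0, 0)]), ((17, 17), [(1, 0, 0)]), ((18, 18), [(1, 0, 0)]), ((19, 19), [(1, 0,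 0)]), ((20, 20), [(1, 0, 0)]), ((21, 21), [(1, 0, 0)]), ((22, 22), [(1, 0, 0)]), ((23, 23), [(1, 0, 0)]), ((24, 24), [(1, 0, 0)]), ((25, 25), [(1, 0, 0)]), ((26, 26), [(1, 0, 0)]), ((27, 27), [(1, 0, 0)]), ((28, 28), [(1, 0, 0)]), ((29, 29), [(1, 0, 0)]), ((30, 30), [(1, 0, 0)]), ((31, 31), [(1, 0, 0)]), ((32, 32), [(1, 0, 0)]), ((33, 33), [(1, 0, 0)]), ((34, 34), [(1, 0, 0)]), ((35, 35), [(1, 0, 0)]), ((36, 36), [(1, 0, 0)]), ((37, 37), [(1, 0, 0)]), ((38, 38), [(1, 0, 0)]), ((39, 39), [(1, 0, 0)]), ((40, 40), [(1, 0, 0)]), ((41, 41), [(1, 0, 0)]), ((42, 42), [(1, 0, 0)]), ((43, 43), [(1, 0, 0)]), ((44, 44), [(1, 0, 0)]), ((45, 45), [(1, 0, 0)]), ((46, 46), [(1, 0, 0)]), ((47, 47), [(1, 0, 0)]), ((48, 48), [(1, 0, 0)]), ((49, 49), [(1, 0, 0)]), ((50, 50), [(1, 0, 0)]), ((51,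 51), [(1, 0, 0)]), ((15, 0), [(1, 1, 0)]), ((15, 1), [(-1, 1, 0)]), ((15, 2), [(0, 1, 0)]), ((15, 3), [(1, 1, 0)]), ((0, 40), [(-1, 1, 0)]), ((1, 40), [(-1, 1, 0)]), ((2, 40), [(-2, 1, 0)]), ((3, 40), [(-2, 1, 0)]), ((15, 40), [(-1, 2, 0)]), ((4, 11), [(-2, 1, 0)]), ((7, 14), [(-1, 1, 0)]), ((8, 16), [(-2, 1, 0)]), ((9, 17), [(-2, 1, 0)]), ((11, 21), [(1, 1, 0)]), ((4, 21), [(-1, 2, 0)]), ((12, 23), [(1, 1, 0)]), ((13, 24), [(1, 1, 0)]), ((16, 28), [(1, 1, 0)]), ((8, 28), [(-1, 2, 0)]), ((17, 30), [(1, 1, 0)]), ((9, 30), [(-1, 2, 0)]), ((18, 33), [(1, 1, 0)]), ((22, 37), [(-1, 1, 0)]), ((25, 38), [(-2, 1, 0)]), ((27, 39), [(-2, 1, 0)]), ((31, 42), [(-1, 1, 0)]), ((32, 43), [(-1, 1, 0)]), ((34, 44), [(-2, 1, 0)]), ((38, 46), [(1, 1, 0)]), ((25, 46), [(-1, 2, 0)]), ((39, 47), [(1,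 1, 0)]), ((27, 47), [(-1, 2, 0)]), ((41, 48), [(1, 1, 0)]), ((44, 51), [(1, 1, 0)]), ((34, 51), [(-1, 2, 0)])]
/-- its block -/
def LX11 : SMat := [((0, 0), [(1, 0, 0)]), ((1, 1), [(1, 0, 0)]), ((2, 2), [(1, 0, 0)]), ((3, 3), [(1, 0, 0)]), ((4, 4), [(1, 0, 0)]), ((5, 5), [(1, 0, 0)]), ((6, 6), [(1, 0, 0)]), ((7, 7), [(1, 0, 0)]), ((8, 8), [(1, 0, 0)]), ((9, 9), [(1, 0, 0)]), ((10, 10), [(1, 0, 0)]), ((11, 11), [(1, 0, 0)]), ((12, 12), [(1, 0, 0)]), ((13, 13), [(1, 0, 0)]), ((14, 14), [(1, 0, 0)]), ((15, 15), [(1, 0, 0)]), ((16, 16), [(1, 0, 0)]), ((17, 17), [(1, 0, 0)]), ((18, 18), [(1, 0, 0)]), ((19, 19), [(1, 0, 0)]), ((20, 20), [(1, 0, 0)]), ((21, 21), [(1, 0, 0)]), ((22, 22), [(1, 0, 0)]), ((23, 23), [(1, 0, 0)]), ((24, 24), [(1, 0, 0)]), ((25, 25), [(1, 0, 0)]), ((7, 0),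 [(1, 1, 0)]), ((7, 1), [(-1, 1, 0)]), ((0, 20), [(-1, 1, 0)]), ((1, 20), [(-1, 1, 0)]), ((7, 20), [(-1, 2, 0)]), ((2, 6), [(-1, 1, 0)]), ((4, 12), [(1, 1, 0)]), ((5, 13), [(1, 1, 0)]), ((10, 16), [(1, 1, 0)]), ((11, 17), [(-1, 1, 0)]), ((14, 22), [(-1, 1, 0)]), ((15, 23), [(-1, 1, 0)]), ((21, 25), [(1, 1, 0)])]
theorem f4_root11 : rootFast 11 LX11 LF11 = true := by decide +kernel

theorem f4_rootsA : ∀ r, 0 ≤ r → r < 12 → ∃ X XF, rootFast r X XF = true := by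
  intro r h1 h2
  interval_cases r
  · exact ⟨_, _, f4_root0⟩
  · exact ⟨_, _, f4_root1⟩
  · exact ⟨_, _, f4_root2⟩
  · exact ⟨_, _, f4_root3⟩
  · exact ⟨_, _, f4_root4⟩
  · exact ⟨_, _, f4_root5⟩
  · exact ⟨_, _, f4_root6⟩
  · exact ⟨_, _, f4_root7⟩
  · exact ⟨_, _, f4_root8⟩
  · exact ⟨_, _, f4_root9⟩
  · exact ⟨_, _, f4_root10⟩
  · exact ⟨_, _, f4_root11⟩

end Cfsg.Agent.Lib.LieTwisted.Isogeny
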