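import Cfsg.Agent.Lib.LieTwisted.Isogeny
import Cfsg.Prelude.Def_LieTypes

/-!
The exceptional isogeny of G2 in characteristic 3: the short roots and one coroot span the ideal,
the long roots and the other coroot the quotient.
-/

set_option autoImplicit false

namespace Cfsg.Agent.Lib.LieTwisted.Isogeny

open Cfsg.Lie

/-- The isogeny data of G2 in characteristic 3. -/
def dataG2 : Data where
  p := 3
  I := [0, 9, 6, 10, 5, 11, 4]
  Q := [1, 8, 7, 12, 3, 13, 2]
  rho := [2, 3, 0, 1, 5, 4, 7, 6, 10, 11, 8, 9]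
  lam := [1, 1, 3, 3, 3, 1, 1, 3, 3, 3, 1, 1]
  cert := [[((1, 1), 1), ((3, 3), 1)],
    [((1, 1), 1), ((3, 3), 2)],
    [((4, 5), 2)],
    [((2, 5), 2)],
    [((0, 5), 1)],
    [((0, 3), 2)],
    [((0, 1), 2)],
    [((1, 3), 1)],
    [((2, 4), 2)],
    [((0, 2), 1)],
    [((0, 4), 1)],
    [((0, 6), 2)],
    [((1, 6), 1)],
    [((3, 6), 1)]]

set_option maxRecDepth 100000 in
theorem dataG2_check : dataG2.check chevG2 = true := by decide +kernel

theorem dataG2_good : Good chevG2 dataG2 := good_of_check dataG2_check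

theorem dataG2_disj : ∀ k ∈ dataG2.Q, k ∉ dataG2.I := by decide

end Cfsg.Agent.Lib.LieTwisted.Isogeny
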