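import Cfsg.Agent.Lib.LieTwisted.ReeRel

/-!
The element `n₀` of the small Ree group is the product `(n_a n_b)^3` of fundamental Weyl elements.
-/

set_option autoImplicit false

namespace Cfsg.Agent.Lib.LieTwisted.Ree

open Cfsg.Lie SparseRoot

/-- The word `n_r(1)`. -/
def nW (r nr : ℕ) : List (ℕ × (ℤ × ℕ × ℕ)) := [(r, (1, 0, 0)), (nr, (-1, 0, 0)), (r, (1, 0, 0))]

set_option maxRecDepth 100000 in
theorem n0_word_weyl : sameWordC chevG2 3 n0W
    (nW 7 4 ++ (nW 6 5 ++ (nW 7 4 ++ (nW 6 5 ++ (nW 7 4 ++ nW 6 5))))) = true := by decide +kernel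

end Cfsg.Agent.Lib.LieTwisted.Ree
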