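import Cfsg.Agent.Lib.LieTwisted.ReeSub
import Cfsg.Agent.Lib.LieTwisted.ReeN0
import Cfsg.Agent.Lib.ChevStructure.BN

/-!
The Bruhat decomposition of the small Ree group: it is the full group of fixed points of `τ`
in G2(K), and equals `B¹ ∪ B¹ n₀ U¹`.
-/

set_option autoImplicit false
set_option linter.unusedSectionVars false

namespace Cfsg.Agent.Lib.LieTwisted.Ree

open Cfsg.Lie SparseRoot ChevStructure

lemma commOK : CommOK C2 := commOK_G2

lemma w_val (i : Fin chevG2.rank) (r : Rt chevG2) : (C2.w i r).val = chevG2.reflectRoot i.val r.val :=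
  (C2.w_eq i r).symm

/-- The images of the root indices under the 12 elements of the Weyl group. -/
def wImgs : List (List ℕ) :=
  [[0, 1, 2, 3, 4, 5, 6, 7, 8, 9, 10, 11]].flatMap fun l =>
    ([[], [0], [1], [0, 1], [1, 0], [0, 1, 0], [1, 0, 1], [0, 1, 0, 1], [1, 0, 1, 0], [0, 1, 0, 1, 0],
      [1, 0, 1, 0, 1], [0, 1, 0, 1, 0, 1]] : List (List ℕ)).map fun w =>
      w.foldr (fun i m => m.map (chevG2.reflectRoot i)) l

theorem wImgs_closed : wImgs.all (fun l => (List.range 2).all fun i =>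
    wImgs.contains (l.map (chevG2.reflectRoot i))) = true := by decide +kernel

theorem wImgs_one : wImgs.contains (List.range 12) = true := by decide +kernel

theorem wImgs_commute : wImgs.all (fun l =>
    !(List.range 12).all (fun r => decide (l.getD (Isogeny.dataG2.r' r) 0 = Isogeny.dataG2.r' (l.getD r 0))) ||
      decide (l = List.range 12) || decide (l = (List.range 12).reverse)) = true := by decide +kernel

/-- The list of images of a permutation of the roots. -/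
def imgList (σ : Equiv.Perm (Rt chevG2)) : List ℕ := (List.finRange chevG2.nroots).map fun r => (σ r).val

lemma imgList_getD (σ : Equiv.Perm (Rt chevG2)) (r : Rt chevG2) : (imgList σ).getD r.val 0 = (σ r).val := by
  simp [imgList, List.getD, r.isLt]

lemma imgList_pprod : ∀ L : List (Fin chevG2.rank), imgList (C2.pprod L) ∈ wImgs
  | [] => by
    have h : imgList (C2.pprod []) = List.range 12 := by
      show (List.finRange chevG2.nroots).map Fin.val = _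
      decide
    rw [h]
    exact List.contains_iff_mem.1 wImgs_one
  | i :: L => by
    have h : imgList (C2.pprod (i :: L)) = (imgList (C2.pprod L)).map (chevG2.reflectRoot i.val) := by
      simp only [imgList, List.map_map, Core.pprod_cons]
      exact List.map_congr_left fun r _ => w_val i (C2.pprod L r)
    rw [h]
    have := List.all_eq_true.1 (List.all_eq_true.1 wImgs_closed _ (imgList_pprod L)) i.val (List.mem_range.2 i.isLt)
    exact List.contains_iff_mem.1 this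

/-- The elements of the Weyl group commuting with `ρ`. -/
lemma perm_commute {σ : Equiv.Perm (Rt chevG2)} (hσ : σ ∈ C2.WG) (hc : ∀ r, σ (rhoF r) = rhoF (σ r)) :
    σ = 1 ∨ ∀ r, σ r = r.rev := by
  obtain ⟨L, rfl⟩ := C2.mem_WG_iff.1 hσ
  have h := List.all_eq_true.1 wImgs_commute _ (imgList_pprod L)
  have hrev : ∀ r : Rt chevG2, (List.range 12).reverse.getD r.val 0 = r.rev.val := by decide +kernel
  simp only [Bool.or_eq_true, Bool.not_eq_true', decide_eq_true_eq] at h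
  rcases h with (h | h) | h
  · exfalso
    rw [List.all_eq_false] at h
    obtain ⟨r, hr, hne⟩ := h
    apply hne
    rw [decide_eq_true_eq]
    rw [List.mem_range] at hr
    rw [show Isogeny.dataG2.r' r = (rhoF ⟨r, hr⟩).val from (rho_eq ⟨r, hr⟩).1, imgList_getD, hc]
    show (rhoF _).val = Isogeny.dataG2.r' ((imgList (C2.pprod L)).getD (⟨r, hr⟩ : Rt chevG2).val 0)
    rw [imgList_getD, (rho_eq _).1]
  · left
    ext r
    have := imgList_getD (C2.pprod L) r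
    rw [h] at this
    simp [List.getD, show r.val < 12 from r.isLt] at this
    exact this.symm
  · right
    intro r
    apply Fin.ext
    rw [← imgList_getD, h, hrev]

variable {K : Type*} [Field K] [CharP K 3]

lemma P_a : C2.P K 0 = C2.nR K 7 1 := by
  rw [Core.P, show C2.p 0 = (7 : Rt chevG2) from Fin.ext ((C2.simple_eq 0).symm.trans rfl)]

lemma P_b : C2.P K 1 = C2.nR K 6 1 := by
  rw [Core.P, show C2.p 1 = (6 : Rt chevG2) from Fin.ext ((C2.simple_eq 1).symm.trans rfl)]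

lemma n0_eq_wprod : (n0 : GL chevG2.Idx K) = C2.P K 0 * C2.P K 1 * C2.P K 0 * C2.P K 1 * C2.P K 0 * C2.P K 1 := by
  have h := eq_of_sameWord n0_word_weyl (1 : K) 1
  rw [n0_eval] at h
  rw [h, P_a, P_b]
  simp [evalG, nW, ofNat_eq, Core.nR, mul_assoc, show Fin.rev (7 : Rt chevG2) = 4 from rfl,
    show Fin.rev (6 : Rt chevG2) = 5 from rfl]

lemma n0_mem_monomial : (n0 : GL chevG2.Idx K) ∈ chevG2.monomialSubgroup K := by
  rw [n0_eq_wprod]
  exact mul_mem (mul_mem (mul_mem (mul_mem (mul_mem (C2.P_mem_monomial 0) (C2.P_mem_monomial 1))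
    (C2.P_mem_monomial 0)) (C2.P_mem_monomial 1)) (C2.P_mem_monomial 0)) (C2.P_mem_monomial 1)

/-- The opposition as a permutation. -/
def revPerm : Equiv.Perm (Rt chevG2) := Fin.revPerm

lemma n0_acts : C2.Acts (n0 : GL chevG2.Idx K) revPerm := by
  intro r
  refine ⟨-1, fun t => ?_⟩
  show n0 * xe r t * n0⁻¹ = xe r.rev _
  rw [n0_x, mul_inv_cancel_right]
  simp

lemma n0_not_borel : (n0 : GL chevG2.Idx K) ∉ chevG2.borelSubgroup K := by
  intro h
  have hd : (n0 : GL chevG2.Idx K) ∈ chevG2.diagonalSubgroup K := by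
    rw [← C2.borel_inf_monomial]; exact ⟨h, n0_mem_monomial⟩
  have := C2.acts_unique K (C2.acts_diagonal hd) n0_acts
  exact absurd (congrArg (fun σ : Equiv.Perm (Rt chevG2) => σ 0) this) (by decide)

lemma borel_inf_opp {v : GL chevG2.Idx K} (hv : v ∈ chevG2.posUnipotent K)
    (h : n0 * v * n0 ∈ chevG2.borelSubgroup K) : v = 1 := by
  have hneg : n0 * v * n0 ∈ C2.US K C2.Neg := by
    have := C2.conj_mem_US K n0_acts (S := C2.Pos) (T := C2.Neg)
      (fun r hr => C2.rev_neg hr) (g := n0) (u := v) ?_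
    · rwa [n0_inv] at this
    · obtain ⟨a, b, c, d, f, g, rfl⟩ := (mem_pos_iff v).1 hv
      have hm : ∀ (r : Rt chevG2) (t : K), 6 ≤ r.val → xe r t ∈ C2.US K C2.Pos := fun r t hr =>
        C2.X_mem_US K (show r ∈ C2.Pos from show chevG2.nroots ≤ 2 * r.val by
          have := nroots_eq; omega) t
      exact mul_mem (hm _ _ (by decide)) (mul_mem (hm _ _ (by decide)) (mul_mem (hm _ _ (by decide))
        (mul_mem (hm _ _ (by decide)) (mul_mem (hm _ _ (by decide)) (hm _ _ (by decide))))))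
  have h1 : n0 * v * n0 = 1 := by
    rw [← Subgroup.mem_bot, ← C2.borel_inf_negUS]
    exact ⟨h, hneg⟩
  have := congrArg (fun g => n0 * g * n0) h1
  simpa [mul_assoc, ← mul_assoc n0 n0, n0_mul_self] using this

/-- Uniqueness in the big cell. -/
lemma big_cell_unique {b b' v v' : GL chevG2.Idx K} (hb : b ∈ chevG2.borelSubgroup K) (hb' : b' ∈ chevG2.borelSubgroup K)
    (hv : v ∈ chevG2.posUnipotent K) (hv' : v' ∈ chevG2.posUnipotent K) (h : b * n0 * v = b' * n0 * v') :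
    b = b' ∧ v = v' := by
  have e : n0 * (v * v'⁻¹) * n0 = b⁻¹ * b' := by
    have : b⁻¹ * b' * n0 * v' = n0 * v := by rw [mul_assoc, mul_assoc b⁻¹, ← mul_assoc b', ← h]; group
    calc n0 * (v * v'⁻¹) * n0 = (n0 * v) * v'⁻¹ * n0 := by group
      _ = (b⁻¹ * b' * n0 * v') * v'⁻¹ * n0 := by rw [this]
      _ = b⁻¹ * b' * (n0 * n0) := by group
      _ = b⁻¹ * b' := by rw [n0_mul_self, mul_one]
  have h1 : v * v'⁻¹ = 1 := borel_inf_opp (mul_mem hv (inv_mem hv')) (e ▸ mul_mem (inv_mem hb) hb')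
  rw [h1, mul_one, n0_mul_self] at e
  exact ⟨(inv_mul_eq_one.1 e.symm), mul_inv_eq_one.1 h1⟩

section finite

variable [Fintype K] {m : ℕ} (hK : Fintype.card K = 3 ^ (2 * m + 1))

include hK

lemma tau_mem_borel {g : GL chevG2.Idx K} (hg : g ∈ chevG2.borelSubgroup K) (h : g ∈ chevG2.group K) :
    (tauG m ⟨g, h⟩ : GL chevG2.Idx K) ∈ chevG2.borelSubgroup K := by
  obtain ⟨a, b, c, d, f, g', x, y, rfl⟩ := (mem_borel_iff g).1 hg
  have hu : ordP a b c d f g' ∈ chevG2.group K := by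
    simpa [ordP] using wordG_mem [(7, a), (6, b), (8, c), (9, d), (10, f), (11, g')]
  rw [show (⟨_, h⟩ : ↥(chevG2.group K)) = ⟨_, hu⟩ * ⟨hh x y, hh_mem_group x y⟩ from rfl, map_mul,
    Subgroup.coe_mul, tau_hh, tau_ordP hK]
  exact mul_mem (Subgroup.mem_sup_left (ordP_mem_pos _ _ _ _ _ _))
    (Subgroup.mem_sup_right ((mem_diag_iff _).2 ⟨_, _, rfl⟩))

omit hK in
lemma tau_nR_one (r : Rt chevG2) (h : C2.nR K r 1 ∈ chevG2.group K) :
    (tauG m ⟨_, h⟩ : GL chevG2.Idx K) = C2.nR K (rhoF r) 1 := by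
  obtain ⟨h1, h2, h3, -⟩ := rho_rev r
  have hn : ∀ s : Rt chevG2, C2.nR K s 1 = wordG [(s, (1 : K)), (s.rev, -1), (s, (1 : K))] := by
    intro s; simp [Core.nR, mul_assoc]
  have heq : (⟨_, h⟩ : ↥(chevG2.group K)) = ⟨_, wordG_mem [(r, (1 : K)), (r.rev, -1), (r, (1 : K))]⟩ :=
    Subtype.ext (hn r)
  rw [heq, tau_word, hn]
  have hodd : Odd (lamF r * 3 ^ m) := (Nat.odd_iff.2 h3).mul ((by decide : Odd 3).pow)
  simp [tP, h1, h2, hodd.neg_one_pow]

omit hK in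
lemma tau_mem_monomial {g : GL chevG2.Idx K} (hg : g ∈ chevG2.monomialSubgroup K) (h : g ∈ chevG2.group K) :
    (tauG m ⟨g, h⟩ : GL chevG2.Idx K) ∈ chevG2.monomialSubgroup K := by
  let M : Subgroup (GL chevG2.Idx K) :=
    ((chevG2.monomialSubgroup K).comap ((chevG2.group K).subtype.comp (tauG m))).map (chevG2.group K).subtype
  suffices hM : chevG2.monomialSubgroup K ≤ M by
    obtain ⟨x, hx, hxe⟩ := hM hg
    have : x = ⟨g, h⟩ := Subtype.ext hxe
    subst this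
    exact hx
  refine sup_le ?_ ((Subgroup.closure_le _).2 ?_)
  · intro z hz
    obtain ⟨x, y, rfl⟩ := (mem_diag_iff z).1 hz
    refine ⟨⟨_, hh_mem_group x y⟩, ?_, rfl⟩
    show (tauG m ⟨hh x y, hh_mem_group x y⟩ : GL chevG2.Idx K) ∈ chevG2.monomialSubgroup K
    rw [tau_hh]
    exact Subgroup.mem_sup_left ((mem_diag_iff _).2 ⟨_, _, rfl⟩)
  · rintro z ⟨r, hr, hz⟩
    have hze : z = C2.nR K ⟨r, hr⟩ 1 := Units.ext (by
      rw [hz, ← C2.nMat_eq ⟨r, hr⟩ (1 : Kˣ)]; rfl)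
    subst hze
    refine ⟨⟨_, C2.nR_mem_group _ _⟩, ?_, rfl⟩
    show (tauG m ⟨C2.nR K ⟨r, hr⟩ 1, C2.nR_mem_group _ _⟩ : GL chevG2.Idx K) ∈ chevG2.monomialSubgroup K
    rw [tau_nR_one]
    exact Subgroup.mem_sup_right (Subgroup.subset_closure ⟨(rhoF ⟨r, hr⟩).val, (rhoF _).isLt,
      (C2.nMat_eq _ (1 : Kˣ)).symm.trans rfl⟩)

omit hK in
lemma rho_rho : ∀ r : Rt chevG2, rhoF (rhoF r) = r := by decide

omit hK in
lemma tau_acts {n : GL chevG2.Idx K} (h : n ∈ chevG2.group K) {σ σ' : Equiv.Perm (Rt chevG2)}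
    (hσ : C2.Acts n σ) (hσ' : C2.Acts (tauG m ⟨n, h⟩ : GL chevG2.Idx K) σ') (r : Rt chevG2) :
    σ' (rhoF r) = rhoF (σ r) := by
  obtain ⟨e, he⟩ := hσ r
  obtain ⟨e', he'⟩ := hσ' (rhoF r)
  have h1 : (⟨n, h⟩ : ↥(chevG2.group K)) * ⟨xe r 1, xe_mem r 1⟩ * (⟨n, h⟩)⁻¹ =
      ⟨xe (σ r) ((e : K) * 1), xe_mem _ _⟩ := Subtype.ext (he 1)
  have h2 := congrArg (fun x => (tauG m x : GL chevG2.Idx K)) h1
  simp only [map_mul, map_inv, Subgroup.coe_mul, Subgroup.coe_inv, tau_xe, mul_one, one_pow] at h2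
  have h3 : xe (σ' (rhoF r)) ((e' : K) * 1) = xe (rhoF (σ r)) ((e : K) ^ (lamF (σ r) * 3 ^ m)) :=
    (he' 1).symm.trans h2
  by_contra hne
  exact mul_ne_zero e'.ne_zero one_ne_zero (C2.X_eq_X K h3 hne)

/-- The fixed points of `τ` lie in the two cells. -/
theorem fix_bruhat {g : GL chevG2.Idx K} (hg : g ∈ fixT m) :
    (∃ (t u v : K) (y : Kˣ), g = reeU m t u v * hy m y) ∨
    ∃ (t u v : K) (y : Kˣ) (t' u' v' : K), g = reeU m t u v * hy m y * n0 * reeU m t' u' v' := by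
  obtain ⟨hgG, hge⟩ := mem_fixT.1 hg
  obtain ⟨n, hn, hcell⟩ := commOK.exists_bruhat hgG
  obtain ⟨a, ha, b, hb, e⟩ := DoubleCoset.mem_doubleCoset.1 hcell
  have hnG := C2.monomial_le_group hn
  have haG := C2.borel_le_group ha
  have hbG := C2.borel_le_group hb
  have e2 : g = (tauG m ⟨a, haG⟩ : GL chevG2.Idx K) * (tauG m ⟨n, hnG⟩ : GL chevG2.Idx K) *
      (tauG m ⟨b, hbG⟩ : GL chevG2.Idx K) := by
    conv_lhs => rw [← hge]
    rw [show (⟨g, hgG⟩ : ↥(chevG2.group K)) = ⟨a, haG⟩ * ⟨n, hnG⟩ * ⟨b, hbG⟩ from Subtype.ext e, map_mul, map_mul]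
    rfl
  have hn' := tau_mem_monomial (m := m) hn hnG
  have hd : n⁻¹ * (tauG m ⟨n, hnG⟩ : GL chevG2.Idx K) ∈ chevG2.diagonalSubgroup K := by
    refine commOK.bruhat_unique hn hn'
      (x := (tauG m ⟨a, haG⟩ : GL chevG2.Idx K)⁻¹ * a) (y := b * (tauG m ⟨b, hbG⟩ : GL chevG2.Idx K)⁻¹)
      (mul_mem (inv_mem (tau_mem_borel hK ha haG)) ha) (mul_mem hb (inv_mem (tau_mem_borel hK hb hbG))) ?_
    calc (tauG m ⟨n, hnG⟩ : GL chevG2.Idx K)
        = (tauG m ⟨a, haG⟩ : GL chevG2.Idx K)⁻¹ * g * (tauG m ⟨b, hbG⟩ : GL chevG2.Idx K)⁻¹ := by rw [e2]; group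
      _ = _ := by rw [e]; group
  obtain ⟨σ, hσW, hσ⟩ := C2.exists_acts hn
  obtain ⟨σ', -, hσ'⟩ := C2.exists_acts hn'
  have heq : σ' = σ := by
    have h1 := C2.acts_mul K (C2.acts_inv K hσ) hσ'
    have h2 := C2.acts_unique K (C2.acts_diagonal hd) h1
    exact (inv_mul_eq_one.1 h2.symm).symm
  subst heq
  rcases perm_commute hσW (fun r => tau_acts hnG hσ hσ' r) with h1 | h1
  · left
    have hnd : n ∈ chevG2.diagonalSubgroup K := C2.mem_diagonal_of_acts_one hn (h1 ▸ hσ)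
    exact (mem_borel_fix hK g).1 ⟨e ▸ mul_mem (mul_mem ha (C2.diagonal_le_borel hnd)) hb, hg⟩
  · right
    have hrev : σ' = revPerm := Equiv.ext h1
    subst hrev
    have hnd : n * n0⁻¹ ∈ chevG2.diagonalSubgroup K := by
      refine C2.mem_diagonal_of_acts_one (mul_mem hn (inv_mem n0_mem_monomial)) ?_
      have := C2.acts_mul K hσ (C2.acts_inv K n0_acts)
      rwa [mul_inv_cancel] at this
    obtain ⟨xb, yb, hb2⟩ : ∃ (p : GL chevG2.Idx K) (v : GL chevG2.Idx K),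
        p ∈ chevG2.borelSubgroup K ∧ v ∈ chevG2.posUnipotent K ∧ g = p * n0 * v := by
      obtain ⟨p1, p2, p3, p4, p5, p6, x, y, hbe⟩ := (mem_borel_iff b⁻¹).1 (inv_mem hb)
      have hbe' : b = hh x⁻¹ y⁻¹ * (ordP p1 p2 p3 p4 p5 p6)⁻¹ := by
        rw [← inv_inv b, hbe, mul_inv_rev, hh_inv]
      refine ⟨a * (n * n0⁻¹) * hh x y, (ordP p1 p2 p3 p4 p5 p6)⁻¹, mul_mem (mul_mem ha (C2.diagonal_le_borel hnd))
        (Subgroup.mem_sup_right ((mem_diag_iff _).2 ⟨_, _, rfl⟩)), inv_mem (ordP_mem_pos _ _ _ _ _ _), ?_⟩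
      have hc : hh x y * n0 = n0 * hh x⁻¹ y⁻¹ := by
        rw [← n0_hh (K := K) x y, ← mul_assoc, ← mul_assoc, n0_mul_self, one_mul]
      calc g = a * n * (hh x⁻¹ y⁻¹ * (ordP p1 p2 p3 p4 p5 p6)⁻¹) := by rw [← hbe', e]
        _ = a * (n * n0⁻¹) * (n0 * hh x⁻¹ y⁻¹) * (ordP p1 p2 p3 p4 p5 p6)⁻¹ := by group
        _ = _ := by rw [← hc]; group
    obtain ⟨hpB, hvU, hgeq⟩ := hb2
    have hpG := C2.borel_le_group hpB
    obtain ⟨q1, q2, q3, q4, q5, q6, hv6⟩ := (mem_pos_iff yb).1 hvU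
    have hvG : yb ∈ chevG2.group K := C2.borel_le_group (pos_le_borel hvU)
    have hn0G : (n0 : GL chevG2.Idx K) ∈ chevG2.group K := fixT_le m (n0_fix hK)
    have hn0e : (tauG m ⟨n0, hn0G⟩ : GL chevG2.Idx K) = n0 := (mem_fixT.1 (n0_fix hK)).2
    have e3 : g = (tauG m ⟨xb, hpG⟩ : GL chevG2.Idx K) * n0 * (tauG m ⟨yb, hvG⟩ : GL chevG2.Idx K) := by
      conv_lhs => rw [← hge]
      rw [show (⟨g, hgG⟩ : ↥(chevG2.group K)) = ⟨xb, hpG⟩ * ⟨n0, hn0G⟩ * ⟨yb, hvG⟩ from Subtype.ext hgeq, map_mul,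
        map_mul, Subgroup.coe_mul, Subgroup.coe_mul, hn0e]
    have hvU' : (tauG m ⟨yb, hvG⟩ : GL chevG2.Idx K) ∈ chevG2.posUnipotent K := by
      subst hv6
      rw [tau_ordP hK]
      exact ordP_mem_pos _ _ _ _ _ _
    obtain ⟨ep, ev⟩ := big_cell_unique hpB (tau_mem_borel hK hpB hpG) hvU hvU' (hgeq.symm.trans e3)
    obtain ⟨t, u, v, y, hp'⟩ := (mem_borel_fix hK xb).1 ⟨hpB, mem_fixT.2 ⟨hpG, ep.symm⟩⟩
    obtain ⟨t', u', v', y', hv'⟩ := (mem_borel_fix hK yb).1 ⟨pos_le_borel hvU, mem_fixT.2 ⟨hvG, ev.symm⟩⟩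
    have hy1 : y' = 1 := by
      have h0 : reeU m t' u' v' * hy m y' = ordP q1 q2 q3 q4 q5 q6 * hh 1 1 := by rw [← hv', hv6, hh_one, mul_one]
      exact (borel_coords_inj h0).2.2
    refine ⟨t, u, v, y, t', u', v', ?_⟩
    rw [hgeq, hp', hv', hy1, hy_one, mul_one]

/-- `G¹` is the group of fixed points of `τ`. -/
theorem twisted_eq_fix : Cfsg.Lie.twistedG2 K (3 ^ m) = fixT m := by
  refine le_antisymm (twisted_le_fix hK) fun g hg => ?_
  rcases fix_bruhat hK hg with ⟨t, u, v, y, rfl⟩ | ⟨t, u, v, y, t', u', v', rfl⟩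
  · exact mul_mem (reeU_mem m t u v) (hy_mem hK y)
  · exact mul_mem (mul_mem (mul_mem (reeU_mem m t u v) (hy_mem hK y)) (n0_mem m)) (reeU_mem m t' u' v')

theorem twisted_bruhat {g : GL chevG2.Idx K} (hg : g ∈ Cfsg.Lie.twistedG2 K (3 ^ m)) :
    (∃ (t u v : K) (y : Kˣ), g = reeU m t u v * hy m y) ∨
    ∃ (t u v : K) (y : Kˣ) (t' u' v' : K), g = reeU m t u v * hy m y * n0 * reeU m t' u' v' :=
  fix_bruhat hK (twisted_le_fix hK hg)

omit hK in
lemma borelElt_mem (t u v : K) (y : Kˣ) : reeU m t u v * hy m y ∈ chevG2.borelSubgroup K :=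
  mul_mem (pos_le_borel (reeU_mem_pos m t u v)) (diag_le_borel (hy_mem_diag m y))

omit hK in
lemma cell_not_borel (t u v : K) (y : Kˣ) (t' u' v' : K) :
    reeU m t u v * hy m y * n0 * reeU m t' u' v' ∉ chevG2.borelSubgroup K := by
  intro h
  have h2 := mul_mem (mul_mem (inv_mem (borelElt_mem (m := m) t u v y)) h)
    (inv_mem (pos_le_borel (reeU_mem_pos m t' u' v')))
  rw [show (reeU m t u v * hy m y)⁻¹ * (reeU m t u v * hy m y * n0 * reeU m t' u' v') * (reeU m t' u' v')⁻¹ =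
    (n0 : GL chevG2.Idx K) by group] at h2
  exact n0_not_borel h2

/-- The order of the small Ree group. -/
theorem card_twisted : Nat.card ↥(Cfsg.Lie.twistedG2 K (3 ^ m)) =
    (3 ^ (2 * m + 1)) ^ 3 * (3 ^ (2 * m + 1) - 1) * ((3 ^ (2 * m + 1)) ^ 3 + 1) := by
  classical
  let f : ((K × K × K) × Kˣ) ⊕ (((K × K × K) × Kˣ) × (K × K × K)) → ↥(Cfsg.Lie.twistedG2 K (3 ^ m)) :=
    Sum.elim (fun p => ⟨reeU m p.1.1 p.1.2.1 p.1.2.2 * hy m p.2, mul_mem (reeU_mem m _ _ _) (hy_mem hK _)⟩)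
      (fun p => ⟨reeU m p.1.1.1 p.1.1.2.1 p.1.1.2.2 * hy m p.1.2 * n0 * reeU m p.2.1 p.2.2.1 p.2.2.2,
        mul_mem (mul_mem (mul_mem (reeU_mem m _ _ _) (hy_mem hK _)) (n0_mem m)) (reeU_mem m _ _ _)⟩)
  have hf : Function.Bijective f := by
    constructor
    · rintro (⟨⟨t, u, v⟩, y⟩ | ⟨⟨⟨t, u, v⟩, y⟩, ⟨t', u', v'⟩⟩) (⟨⟨a, b, c⟩, z⟩ | ⟨⟨⟨a, b, c⟩, z⟩, ⟨a', b', c'⟩⟩) h
      · obtain ⟨⟨rfl, rfl, rfl⟩, rfl⟩ := reeU_hy_inj (congrArg Subtype.val h)
        rfl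
      · have h' := congrArg Subtype.val h
        simp only [f, Sum.elim_inl, Sum.elim_inr] at h'
        exact absurd (h' ▸ borelElt_mem t u v y) (cell_not_borel a b c z a' b' c')
      · have h' := congrArg Subtype.val h
        simp only [f, Sum.elim_inl, Sum.elim_inr] at h'
        exact absurd (h'.symm ▸ borelElt_mem a b c z) (cell_not_borel t u v y t' u' v')
      · have h' := congrArg Subtype.val h
        simp only [f, Sum.elim_inr] at h'
        obtain ⟨e1, e2⟩ := big_cell_unique (borelElt_mem _ _ _ _) (borelElt_mem _ _ _ _) (reeU_mem_pos m _ _ _)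
          (reeU_mem_pos m _ _ _) h'
        obtain ⟨⟨rfl, rfl, rfl⟩, rfl⟩ := reeU_hy_inj e1
        obtain ⟨rfl, rfl, rfl⟩ := reeU_inj e2
        rfl
    · rintro ⟨g, hg⟩
      rcases twisted_bruhat hK hg with ⟨t, u, v, y, rfl⟩ | ⟨t, u, v, y, t', u', v', rfl⟩
      · exact ⟨Sum.inl ((t, u, v), y), rfl⟩
      · exact ⟨Sum.inr (((t, u, v), y), (t', u', v')), rfl⟩
  rw [← Nat.card_congr (Equiv.ofBijective f hf), Nat.card_eq_fintype_card]
  simp only [Fintype.card_sum, Fintype.card_prod, Fintype.card_units, hK]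
  ring

end finite

end Cfsg.Agent.Lib.LieTwisted.Ree
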