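import Cfsg.Agent.Lib.LieTwisted.ReeOutBasic

/-!
`Out(²G₂(q))` consists of the field automorphisms only.
-/

set_option autoImplicit false
set_option linter.unusedSectionVars false
set_option linter.style.haveILetI false

namespace Cfsg.Agent.Lib.LieTwisted.ReeOut

open Cfsg.Lie ChevStructure Ree

variable {K : Type*} [Field K] [Fintype K] [CharP K 3] {m : ℕ}
variable (hK : Fintype.card K = 3 ^ (2 * m + 1))
include hK

lemma exists_not_fixed (hm : 1 ≤ m) : ∃ s : K, s ≠ 0 ∧ s ≠ 1 ∧ s ≠ -1 ∧ sg m s ≠ s := by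
  classical
  obtain ⟨s, hs⟩ : ∃ s : K, s ∉ ({0, 1, -1} : Finset K) := by
    by_contra h
    push Not at h
    have h2 : Fintype.card K ≤ ({0, 1, -1} : Finset K).card := by
      rw [← Finset.card_univ]; exact Finset.card_le_card fun x _ => h x
    have h3 : ({0, 1, -1} : Finset K).card ≤ 3 := Finset.card_le_three
    have h4 : 3 ^ 3 ≤ 3 ^ (2 * m + 1) := Nat.pow_le_pow_right (by norm_num) (by omega)
    omega
  simp only [Finset.mem_insert, Finset.mem_singleton, not_or] at hs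
  refine ⟨s, hs.1, hs.2.1, hs.2.2, fun h => ?_⟩
  have h2 := sg_sg hK s
  rw [h, h] at h2
  have h3 : s * ((s - 1) * (s + 1)) = 0 := by linear_combination -h2
  rcases mul_eq_zero.1 h3 with h4 | h4
  · exact hs.1 h4
  rcases mul_eq_zero.1 h4 with h5 | h5
  · exact hs.2.1 (by linear_combination h5)
  · exact hs.2.2 (by linear_combination h5)

lemma X_split (t u v : K) : X m t u v = X m 0 u (v + u * t) * X m t 0 0 := by
  rw [X_mul hK]
  congr 1 <;> ring

lemma exists_cube {v : K} (hv : v ≠ 0) : ∃ t : K, t ≠ 0 ∧ -(sg m t * t ^ 2) = v := by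
  refine ⟨(aHom m (Units.mk0 (-v) (neg_ne_zero.2 hv)) : K), Units.ne_zero _, ?_⟩
  have h := aHom_cube hK (Units.mk0 (-v) (neg_ne_zero.2 hv))
  rw [Units.val_mk0] at h
  linear_combination -h

section
variable {φ : MulAut (RG K m)}

lemma Adapted.map_X (hφ : Adapted φ) (t u v : K) : ∃ t' u' v', φ (X m t u v) = X m t' u' v' :=
  (mem_U hK).1 ((hφ.1 _).2 (X_mem hK t u v))

lemma Adapted.map_W (hφ : Adapted φ) (u v : K) : ∃ u' v', φ (X m 0 u v) = X m 0 u' v' := by
  obtain ⟨t', u', v', h⟩ := hφ.map_X hK 0 u v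
  have h1 : φ (X m 0 u v) ^ 3 = 1 := by rw [← map_pow, (X_cube_eq_one hK).2 rfl, map_one]
  rw [h, X_cube_eq_one hK] at h1
  exact ⟨u', v', by rw [h, h1]⟩

/-- An adapted automorphism with trivial action on `U / U'` is trivial. -/
lemma Adapted.eq_one (hm : 1 ≤ m) (hφ : Adapted φ) (hA : ∀ t, ∃ u v, φ (X m t 0 0) = X m t u v) : φ = 1 := by
  classical
  choose fU fV hF using hA
  have hT : ∀ e, φ (Y hK e) = Y hK e := by
    intro e
    obtain ⟨e', he'⟩ := hφ.map_Y hK e
    have h1 : φ (Y hK e * X m 1 0 0) = φ (Y hK e) * φ (X m 1 0 0) := map_mul _ _ _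
    rw [YX hK, map_mul, mul_zero, mul_zero, he', hF, hF, YX hK] at h1
    have h2 := (X_inj (mul_right_cancel h1)).1
    rw [mul_one, mul_one] at h2
    rw [he', aHom_injective hK (Units.ext h2)]
  -- the centre is fixed
  have hZ : ∀ v : K, φ (X m 0 0 v) = X m 0 0 v := by
    intro v
    by_cases hv : v = 0
    · rw [hv, X_zero, map_one]
    · obtain ⟨t, -, ht⟩ := exists_cube hK hv
      rw [← ht, ← X_cube hK t 0 0, map_pow, hF, X_cube hK, X_cube hK]
  -- the middle coordinate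
  choose g k hgk using fun u => hφ.map_W hK u 0
  have hgadd : ∀ u u', g (u + u') = g u + g u' ∧ k (u + u') = k u + k u' := by
    intro u u'
    have h1 : φ (X m 0 u 0 * X m 0 u' 0) = φ (X m 0 u 0) * φ (X m 0 u' 0) := map_mul _ _ _
    rw [X_mul hK, map_zero, zero_mul, hgk, hgk, X_mul hK] at h1
    simp only [map_zero, mul_zero, zero_mul, add_zero, sub_zero] at h1
    rw [hgk] at h1
    exact ⟨(X_inj h1).2.1, (X_inj h1).2.2⟩
  have hgY : ∀ (y : Kˣ) u, g ((bHom m y : K) * u) = (bHom m y : K) * g u ∧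
      k ((bHom m y : K) * u) = (y : K) * k u := by
    intro y u
    have h1 : φ (Y hK y * X m 0 u 0) = φ (Y hK y) * φ (X m 0 u 0) := map_mul _ _ _
    rw [YX hK, map_mul, mul_zero, mul_zero, hT, hgk, hgk, YX hK, mul_zero] at h1
    exact ⟨(X_inj (mul_right_cancel h1)).2.1, (X_inj (mul_right_cancel h1)).2.2⟩
  have h3 : (3 : K) = 0 := CharP.cast_eq_zero K 3
  have hb1 : (bHom m (-1 : Kˣ) : K) = 1 := by simp [bHom_val]
  have ha1 : (aHom m (-1 : Kˣ) : K) = -1 := by simp [aHom_val]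
  have hk : ∀ u, k u = 0 := by
    intro u
    have h1 := (hgY (-1) u).2
    rw [hb1, one_mul, Units.val_neg, Units.val_one] at h1
    linear_combination (k u) * h3 - h1
  have hg0 : g 0 = 0 := by
    have := (hgadd 0 0).1
    rw [add_zero] at this
    linear_combination -this
  have hgneg : ∀ u, g (-u) = -g u := fun u => by
    have := (hgadd (-u) u).1
    rw [neg_add_cancel, hg0] at this
    linear_combination -this
  have hgsq : ∀ d u, g (d ^ 2 * u) = d ^ 2 * g u := by
    intro d u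
    by_cases hd : d = 0
    · subst hd; simp [hg0]
    · obtain ⟨y, hy⟩ := exists_bHom_sq hK hd
      rw [← hy]; exact (hgY y u).1
  have hglin : ∀ u, g u = u * g 1 := by
    intro u
    have e : u = (u + 1) ^ 2 * 1 + -((u - 1) ^ 2 * 1) := by linear_combination -u * h3
    conv_lhs => rw [e]
    rw [(hgadd _ _).1, hgneg, hgsq, hgsq]
    linear_combination (u * g 1) * h3
  have hW : ∀ u v, φ (X m 0 u v) = X m 0 (u * g 1) v := by
    intro u v
    have e : X m 0 u v = X m 0 u 0 * X m 0 0 v := by rw [X_mul hK]; simp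
    rw [e, map_mul, hgk, hZ, hk, hglin u, X_mul hK]
    simp
  have hX : ∀ t u v, φ (X m t u v) = X m 0 (u * g 1) (v + u * t) * X m t (fU t) (fV t) := by
    intro t u v
    rw [X_split hK t u v, map_mul, hW, hF]
  -- the relation given by a product of two elements
  have hrel : ∀ t s, fU t + fU s - sg m s * t = -(sg m s * t) * g 1 + fU (t + s) ∧
      fV t + fV s - fU t * s + sg m s * t * (s - t) =
        sg m s * t * (s - t) + -(sg m s * t) * (t + s) + fV (t + s) - (-(sg m s * t) * g 1) * (t + s) := by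
    intro t s
    have h1 : φ (X m t 0 0 * X m s 0 0) = φ (X m t 0 0) * φ (X m s 0 0) := map_mul _ _ _
    rw [X_mul hK, hX, hF, hF, X_mul hK, X_mul hK] at h1
    simp only [add_zero, zero_add, zero_sub, sub_zero, zero_mul, neg_zero, mul_zero] at h1
    obtain ⟨-, h2, h4⟩ := X_inj h1
    exact ⟨by linear_combination -h2, by linear_combination -h4⟩
  have hg1 : g 1 = 1 := by
    obtain ⟨s, hs0, hs1, hs2, hs⟩ := exists_not_fixed hK hm
    have h1 := (hrel 1 s).1
    have h2 := (hrel s 1).1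
    rw [add_comm s 1, map_one] at h2
    refine sub_eq_zero.1 ((mul_eq_zero.1 (?_ : (s - sg m s) * (g 1 - 1) = 0)).resolve_left (sub_ne_zero.2 (Ne.symm hs)))
    linear_combination h2 - h1
  have hUY : ∀ (y : Kˣ) t, fU ((aHom m y : K) * t) = (bHom m y : K) * fU t ∧
      fV ((aHom m y : K) * t) = (y : K) * fV t := by
    intro y t
    have h1 : φ (Y hK y * X m t 0 0) = φ (Y hK y) * φ (X m t 0 0) := map_mul _ _ _
    rw [YX hK, map_mul, mul_zero, mul_zero, hT, hF, hF, YX hK] at h1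
    exact ⟨(X_inj (mul_right_cancel h1)).2.1, (X_inj (mul_right_cancel h1)).2.2⟩
  have hUadd : ∀ t s, fU (t + s) = fU t + fU s := fun t s => by
    have := (hrel t s).1
    rw [hg1] at this
    linear_combination -this
  have hU0 : ∀ t, fU t = 0 := by
    intro t
    have h1 := (hUY (-1) t).1
    rw [ha1, hb1, neg_one_mul, one_mul] at h1
    have h2 := hUadd t (-t)
    have h20 := hUadd 0 0
    rw [add_zero] at h20
    rw [add_neg_cancel, h1] at h2
    linear_combination h2 + fU t * h3 + h20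
  have hVadd : ∀ t s, fV (t + s) = fV t + fV s := fun t s => by
    have := (hrel t s).2
    rw [hg1, hU0] at this
    linear_combination -this
  have hVf : ∀ t, fV t = t ^ 2 * sg m t * fV 1 := by
    intro t
    by_cases ht : t = 0
    · subst ht
      have := hVadd 0 0
      rw [add_zero] at this
      linear_combination -this + fV 1 * (0 : K) ^ 2 * sg m (0 : K) * 0
    · obtain ⟨y, hy⟩ := aHom_surjective hK (Units.mk0 t ht)
      have h1 := (hUY y 1).2
      rw [mul_one, hy, Units.val_mk0] at h1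
      rw [h1, ← aHom_cube hK y, hy, Units.val_mk0]
  have hV1 : fV 1 = 0 := by
    obtain ⟨s, hs0, hs1, hs2, hs⟩ := exists_not_fixed hK hm
    have h1 := hVadd 1 s
    rw [hVf (1 + s), hVf s, map_add, map_one] at h1
    refine (mul_eq_zero.1 (?_ : (s - sg m s) * (s - 1) * fV 1 = 0)).resolve_left
      (mul_ne_zero (sub_ne_zero.2 (Ne.symm hs)) (sub_ne_zero.2 hs1))
    linear_combination h1 - fV 1 * (s + s * sg m s) * h3
  have hfix : ∀ t u v, φ (X m t u v) = X m t u v := by
    intro t u v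
    rw [hX, hU0, hVf, hV1, mul_zero, hg1, mul_one, ← X_split hK]
  have hfU : ∀ x ∈ U1 (K := K) m, φ x = x := by
    intro x hx
    obtain ⟨t, u, v, rfl⟩ := (mem_U hK).1 hx
    exact hfix t u v
  -- the element n₀
  have hw : (w0 (K := K) m)⁻¹ = w0 m := inv_eq_of_mul_eq_one_right w0_mul_self'
  obtain ⟨p, hp⟩ : ∃ p, φ (w0 m) = p := ⟨_, rfl⟩
  have hp2 : p⁻¹ = p := inv_eq_of_mul_eq_one_right (by rw [← hp, ← map_mul, w0_mul_self', map_one])
  obtain ⟨e, he⟩ : ∃ e, w0 m * p = Y hK e := by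
    refine exists_Y_of_normalizes hK (fun x hx => ?_) (fun x hx => ?_)
    · have hd : w0 m * p * x * (w0 m * p)⁻¹ = w0 m * φ (w0 m * x * w0 m) * w0 m := by
        rw [map_mul, map_mul, hp, hfU x hx, mul_inv_rev, hp2, hw]; group
      rw [hd, hφ.2, w0_w0]
      exact hx
    · obtain ⟨z, hz⟩ := φ.surjective (w0 m * x * w0 m)
      have hd : w0 m * (w0 m * p) * w0 m * x * (w0 m * (w0 m * p) * w0 m)⁻¹ = φ (w0 m * z * w0 m) := by
        rw [show w0 m * (w0 m * p) * w0 m = p * w0 m by rw [← mul_assoc (w0 m), w0_mul_self', one_mul],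
          map_mul, map_mul, hp, hz, mul_inv_rev, hp2, hw]
        group
      rw [hd, hφ.1, ← hφ.2, hz, w0_w0]
      exact hx
  have hpe : p = w0 m * Y hK e := by rw [← he, ← mul_assoc, w0_mul_self', one_mul]
  have hn0 : w0 (K := K) m = X m 0 1 0 * (w0 m * X m 0 1 0 * w0 m) * X m 0 1 0 := by
    apply Subtype.ext
    show (n0 : GL chevG2.Idx K) = reeU m 0 1 0 * reeV m 0 1 0 * reeU m 0 1 0
    have h0 : (3 : ℕ) ^ m ≠ 0 := by positivity
    have hu : reeU m (0 : K) 1 0 = wordG [(8, (1 : K)), (10, 1)] := by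
      simp [reeU, ordP, xe_zero, zero_pow h0]
    have hv : reeV m (0 : K) 1 0 = wordG [(3, (-1 : K)), (1, -1)] := by
      rw [reeV, hu, n0_word_conj]
      simp [nP, show (Fin.rev (8 : Rt chevG2)) = 3 from rfl, show (Fin.rev (10 : Rt chevG2)) = 1 from rfl]
    rw [hu, hv, ← wordG_append, ← wordG_append]; rfl
  set b : K := (bHom m e : K)
  have hconj : p * X m 0 1 0 * p = w0 m * X m 0 b 0 * w0 m := by
    conv_lhs => rw [hpe]
    have hpe' : w0 m * Y hK e = Y hK e⁻¹ * w0 m := by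
      rw [← w0_Y hK e, mul_assoc, w0_mul_self', mul_one]
    conv_lhs => arg 2; rw [hpe']
    have hc : Y hK e * X m 0 1 0 * (Y hK e)⁻¹ = X m 0 b 0 := by
      have := conj_Y_X hK e 0 1 0
      rwa [MulAut.conj_apply, mul_zero, mul_one, mul_zero] at this
    rw [← Y_inv hK, ← hc]
    group
  have h1 : p = X m 0 1 0 * (w0 m * X m 0 b 0 * w0 m) * X m 0 1 0 := by
    rw [← hconj]
    conv_lhs => rw [← hp, hn0, map_mul, map_mul, map_mul, map_mul, hfix, hp]
  have hUB : U1 (K := K) m ≤ B1 (K := K) m := fun x hx => ⟨pos_le_borel hx.1, x.2⟩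
  have h2 : w0 m * X m 0 (b - 1) 0 * w0 m = X m 0 1 0 * Y hK e * (X m 0 1 0)⁻¹ := by
    have e1 : X m 0 (b - 1) 0 = (X m 0 1 0)⁻¹ * X m 0 b 0 := by
      rw [eq_inv_mul_iff_mul_eq, X_mul hK]; simp
    have e2 : w0 m * X m 0 b 0 * w0 m = (X m 0 1 0)⁻¹ * (w0 m * Y hK e) * (X m 0 1 0)⁻¹ := by
      rw [← hpe, h1]; group
    have e3 : w0 m * X m (0 : K) 1 0 * w0 m = (X m 0 1 0)⁻¹ * w0 m * (X m 0 1 0)⁻¹ := by
      calc w0 m * X m (0 : K) 1 0 * w0 m
          = (X m 0 1 0)⁻¹ * (X m 0 1 0 * (w0 m * X m 0 1 0 * w0 m) * X m 0 1 0) * (X m 0 1 0)⁻¹ := by group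
        _ = _ := by rw [← hn0]
    calc w0 m * X m 0 (b - 1) 0 * w0 m
        = (w0 m * X m 0 1 0 * w0 m)⁻¹ * (w0 m * X m 0 b 0 * w0 m) := by
          rw [e1, mul_inv_rev, mul_inv_rev, hw]
          simp only [mul_assoc]
          rw [← mul_assoc (w0 m) (w0 m), w0_mul_self', one_mul]
      _ = _ := by
          rw [e2, e3]
          simp only [mul_inv_rev, inv_inv, hw, mul_assoc, mul_inv_cancel_left]
          rw [← mul_assoc (w0 m) (w0 m), w0_mul_self', one_mul]
  have hXe : X m 0 (b - 1) 0 = 1 := by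
    refine not_mem_B hK (h2 ▸ mul_mem (mul_mem (hUB (X_mem hK _ _ _)) ?_) (inv_mem (hUB (X_mem hK _ _ _))))
    have := XY_mem_B hK 0 0 0 e
    rwa [X_zero, one_mul] at this
  have hYe : Y hK e = 1 := by
    rw [hXe, mul_one, w0_mul_self'] at h2
    calc Y hK e = (X m 0 1 0)⁻¹ * (X m 0 1 0 * Y hK e * (X m 0 1 0)⁻¹) * X m 0 1 0 := by group
      _ = 1 := by rw [← h2]; group
  rw [hYe, mul_one] at hpe
  refine MulEquiv.ext fun ⟨x, hx⟩ => ?_
  suffices ∀ y ∈ Cfsg.Lie.twistedG2 K (3 ^ m), ∀ hy : y ∈ Cfsg.Lie.twistedG2 K (3 ^ m), φ ⟨y, hy⟩ = ⟨y, hy⟩ from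
    this x hx hx
  intro y hy
  rw [twisted_eq_closure] at hy
  induction hy using Subgroup.closure_induction with
  | mem z hz =>
    intro hy'
    obtain ⟨t, u, v, rfl | rfl⟩ := hz
    · exact hfix t u v
    · rw [show (⟨reeV m t u v, hy'⟩ : RG K m) = w0 m * X m t u v * w0 m from Subtype.ext rfl, map_mul, map_mul, hp,
        hpe, hfix]
  | one => intro h1; exact map_one φ
  | mul a b ha hb iha ihb =>
    intro h1
    rw [← twisted_eq_closure] at ha hb
    rw [show (⟨a * b, h1⟩ : RG K m) = ⟨a, ha⟩ * ⟨b, hb⟩ from rfl, map_mul, iha ha, ihb hb]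
  | inv a ha iha =>
    intro h1
    rw [← twisted_eq_closure] at ha
    rw [show (⟨a⁻¹, h1⟩ : RG K m) = (⟨a, ha⟩ : RG K m)⁻¹ from rfl, map_inv, iha ha]

/-- Every adapted automorphism is a torus element times a field automorphism. -/
lemma Adapted.decomp (hm : 1 ≤ m) (hφ : Adapted φ) : ∃ e ρ, φ = MulAut.conj (Y hK e) * fieldHom ρ := by
  classical
  choose f fU fV hF using fun t => hφ.map_X hK t 0 0
  have hall : ∀ t u v, ∃ u' v', φ (X m t u v) = X m (f t) u' v' := by
    intro t u v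
    obtain ⟨a, b, h⟩ := hφ.map_W hK u (v + u * t)
    rw [X_split hK t u v, map_mul, h, hF, X_mul hK, zero_add]
    exact ⟨_, _, rfl⟩
  have hadd : ∀ t s, f (t + s) = f t + f s := by
    intro t s
    have h1 : φ (X m t 0 0 * X m s 0 0) = φ (X m t 0 0) * φ (X m s 0 0) := map_mul _ _ _
    rw [X_mul hK, hF, hF, X_mul hK] at h1
    obtain ⟨a, b, h2⟩ := hall (t + s) (0 + 0 - sg m s * t) (0 + 0 - 0 * s + sg m s * t * (s - t))
    rw [h2] at h1
    exact (X_inj h1).1
  have hf0 : f 0 = 0 := by have := hadd 0 0; rw [add_zero] at this; linear_combination -this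
  have hc : f 1 ≠ 0 := by
    intro hc
    have h1 : φ (X m 1 0 0) ^ 3 = 1 := by rw [hF]; exact (X_cube_eq_one hK).2 hc
    rw [← map_pow, map_eq_one_iff φ φ.injective] at h1
    exact one_ne_zero ((X_cube_eq_one hK).1 h1)
  have hone : ∀ x a, f (x * a) * f 1 = f x * f a := by
    intro x a
    by_cases hx : x = 0
    · subst hx; rw [zero_mul, hf0, zero_mul, zero_mul]
    · obtain ⟨y, hy⟩ := aHom_surjective hK (Units.mk0 x hx)
      obtain ⟨y', hy'⟩ := hφ.map_Y hK y
      have hP : ∀ a, f (x * a) = (aHom m y' : K) * f a := by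
        intro a
        have h1 : φ (Y hK y * X m a 0 0) = φ (Y hK y) * φ (X m a 0 0) := map_mul _ _ _
        rw [YX hK, map_mul, mul_zero, mul_zero, hy', hF, hF, YX hK] at h1
        have h2 := (X_inj (mul_right_cancel h1)).1
        rwa [hy, Units.val_mk0] at h2
      have := hP 1
      rw [mul_one] at this
      rw [hP, this]
      ring
  let ρ0 : K →+* K :=
    { toFun := fun x => f x / f 1
      map_one' := div_self hc
      map_mul' := fun x y => by
        field_simp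
        linear_combination hone x y
      map_zero' := by rw [hf0, zero_div]
      map_add' := fun x y => by rw [hadd, add_div] }
  let ρ : K ≃+* K := RingEquiv.ofBijective ρ0 ⟨ρ0.injective, Finite.surjective_of_injective ρ0.injective⟩
  have hρ : ∀ x, f x = f 1 * ρ x := fun x => by
    show f x = f 1 * (f x / f 1)
    field_simp
  obtain ⟨e, he⟩ := aHom_surjective hK (Units.mk0 (f 1) hc)
  refine ⟨e, ρ, ?_⟩
  have hψ' : Adapted (fieldHom ρ⁻¹ * (MulAut.conj (Y hK e⁻¹) * φ)) :=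
    Adapted.mul (adapted_fieldHom hK ρ⁻¹) (Adapted.mul (adapted_conj_Y hK e⁻¹) hφ)
  have key := hψ'.eq_one hK hm fun t => by
    rw [MulAut.mul_apply, MulAut.mul_apply, hF, conj_Y_X hK, fieldHom_X]
    refine ⟨_, _, congrArg (fun z => X m z _ _) ?_⟩
    rw [map_inv, Units.val_inv_eq_inv_val, he, Units.val_mk0, hρ t, ← mul_assoc, inv_mul_cancel₀ hc, one_mul]
    exact ρ.symm_apply_apply t
  rw [map_inv, inv_mul_eq_one, ← Y_inv hK, map_inv] at key
  rw [key, mul_inv_cancel_left]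

end

/-- The order of the outer automorphism group. -/
theorem card_out (hm : 1 ≤ m) : Nat.card (Cfsg.Out (RG K m)) = 2 * m + 1 := by
  haveI : Fact (Nat.Prime 3) := ⟨Nat.prime_three⟩
  rw [← Cfsg.Agent.Lib.AutPSL.card_fieldAuts hK]
  refine (Nat.card_eq_of_bijective (fun ρ => (QuotientGroup.mk (fieldHom ρ) : Cfsg.Out (RG K m))) ⟨?_, ?_⟩).symm
  · intro ρ ρ' hρ
    obtain ⟨g, hg⟩ := QuotientGroup.eq.1 hρ
    rw [← map_inv, ← map_mul] at hg
    have had := adapted_fieldHom (m := m) hK (ρ⁻¹ * ρ')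
    rw [← hg] at had
    obtain ⟨e, rfl⟩ : ∃ e, g = Y hK e := by
      have hw : (w0 (K := K) m)⁻¹ = w0 m := inv_eq_of_mul_eq_one_right w0_mul_self'
      refine exists_Y_of_normalizes hK (fun x hx => (had.1 x).2 hx) fun x hx => ?_
      rw [show w0 m * g * w0 m * x * (w0 m * g * w0 m)⁻¹ = w0 m * MulAut.conj g (w0 m * x * (w0 m)⁻¹) * (w0 m)⁻¹ by
        rw [MulAut.conj_apply]; group, hw, had.2, w0_w0]
      exact hx
    have h1 := DFunLike.congr_fun hg (X m 1 0 0)
    rw [conj_Y_X hK, fieldHom_X, map_one, mul_one] at h1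
    have he : e = 1 := aHom_injective hK (Units.ext ((X_inj h1).1.trans (by simp)))
    rw [he, Y_one, map_one] at hg
    refine inv_mul_eq_one.1 (RingEquiv.ext fun a => ?_)
    have h2 := DFunLike.congr_fun hg (X m a 0 0)
    rw [MulAut.one_apply, fieldHom_X] at h2
    exact (X_inj h2).1.symm
  · intro q
    obtain ⟨φ, rfl⟩ := QuotientGroup.mk_surjective q
    obtain ⟨g, hg⟩ := exists_adapted hK φ
    obtain ⟨e, ρ, hd⟩ := hg.decomp hK hm
    refine ⟨ρ, QuotientGroup.eq.2 ?_⟩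
    have hφ : φ = MulAut.conj (g⁻¹ * Y hK e) * fieldHom ρ := by
      rw [map_mul, mul_assoc, ← hd, ← mul_assoc, ← map_mul, inv_mul_cancel, map_one, one_mul]
    rw [hφ, ← mul_assoc]
    simpa using (Cfsg.innNormal (RG K m)).conj_mem _ ⟨g⁻¹ * Y hK e, rfl⟩ (fieldHom ρ)⁻¹

end Cfsg.Agent.Lib.LieTwisted.ReeOut
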