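import Cfsg.Agent.Lib.LieTwisted.ReeGroup
import Cfsg.Agent.Lib.AutPSL.Card
import Cfsg.Prelude.Def_KGroupFacts

/-!
Coordinates in the small Ree group and the automorphisms fixing `U` and `n₀ U n₀`.
-/

set_option autoImplicit false
set_option linter.unusedSectionVars false
set_option linter.style.haveILetI false

namespace Cfsg.Agent.Lib.LieTwisted.ReeOut

open Cfsg.Lie ChevStructure Ree

variable {K : Type*} [Field K] [Fintype K] [CharP K 3] {m : ℕ}

variable (K m) in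
/-- The small Ree group as a type. -/
abbrev RG : Type _ := ↥(Cfsg.Lie.twistedG2 K (3 ^ m))

/-- The field map `x ↦ x^(3·3^m)`. -/
noncomputable def sg (m : ℕ) : K →+* K := phi (m + 1)

lemma sg_apply (x : K) : sg m x = (x ^ 3 ^ m) ^ 3 := by
  rw [sg, phi_apply, ← pow_mul, pow_succ]

/-- An element of `U`. -/
noncomputable def X (m : ℕ) (t u v : K) : RG K m := ⟨reeU m t u v, reeU_mem m t u v⟩

lemma X_zero : X m (0 : K) 0 0 = 1 := Subtype.ext (reeU_zero m)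

lemma X_inj {t u v t' u' v' : K} (h : X m t u v = X m t' u' v') : t = t' ∧ u = u' ∧ v = v' :=
  reeU_inj (congrArg Subtype.val h)

lemma w0_mul_self' : w0 (K := K) m * w0 m = 1 := Subtype.ext n0_mul_self

lemma w0_w0 (x : RG K m) : w0 m * (w0 m * x * w0 m) * w0 m = x := by
  simp only [← mul_assoc, w0_mul_self', one_mul]
  rw [mul_assoc, w0_mul_self', mul_one]

/-- The weight of the torus on the first coordinate. -/
noncomputable def aHom (m : ℕ) : Kˣ →* Kˣ :=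
  powMonoidHom 2 * (Units.map (sg (K := K) m).toMonoidHom)⁻¹

/-- The weight of the torus on the second coordinate. -/
noncomputable def bHom (m : ℕ) : Kˣ →* Kˣ :=
  Units.map (sg (K := K) m).toMonoidHom * (MonoidHom.id Kˣ)⁻¹

lemma aHom_val (y : Kˣ) : (aHom m y : K) = (y : K) ^ 2 / sg m (y : K) := by
  simp [aHom, div_eq_mul_inv]

lemma bHom_val (y : Kˣ) : (bHom m y : K) = sg m (y : K) / (y : K) := by
  simp [bHom, div_eq_mul_inv]

section
variable (hK : Fintype.card K = 3 ^ (2 * m + 1))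
include hK

lemma sg_sg (x : K) : sg m (sg m x) = x ^ 3 := by
  rw [sg, phi_apply, phi_apply, ← pow_mul, show 3 ^ (m + 1) * 3 ^ (m + 1) = 3 * (3 ^ m * 3 ^ m) * 3 by ring,
    pow_mul, pow_q hK]

lemma aHom_injective : Function.Injective (aHom (K := K) m) := by
  rw [injective_iff_map_eq_one]
  intro y hy
  have h := congrArg Units.val hy
  rw [aHom_val, Units.val_one, div_eq_one_iff_eq ((map_ne_zero (sg m)).2 y.ne_zero)] at h
  have h2 := congrArg (sg m) h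
  rw [map_pow, sg_sg hK, ← h] at h2
  have h3 : (y : K) ^ 3 * ((y : K) - 1) = 0 := by linear_combination h2
  exact Units.ext (by simpa [sub_eq_zero, y.ne_zero] using h3)

lemma aHom_surjective : Function.Surjective (aHom (K := K) m) :=
  Finite.surjective_of_injective (aHom_injective hK)

lemma aHom_cube (y : Kˣ) : (aHom m y : K) ^ 2 * sg m (aHom m y : K) = y := by
  rw [aHom_val, map_div₀, map_pow, sg_sg hK]
  have := y.ne_zero
  have := (map_ne_zero (sg m)).2 y.ne_zero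
  field_simp

lemma exists_bHom_sq {d : K} (hd : d ≠ 0) : ∃ y : Kˣ, (bHom m y : K) = d ^ 2 := by
  obtain ⟨y, hy⟩ := aHom_surjective hK (Units.mk0 (sg m d / d) (div_ne_zero ((map_ne_zero (sg m)).2 hd) hd))
  refine ⟨y, ?_⟩
  have e : (bHom m y : K) = sg m (aHom m y : K) * (aHom m y : K) := by
    rw [bHom_val, aHom_val, map_div₀, map_pow, sg_sg hK]
    have := y.ne_zero
    have := (map_ne_zero (sg m)).2 y.ne_zero
    field_simp
  rw [e, hy, Units.val_mk0, map_div₀, sg_sg hK]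
  have := (map_ne_zero (sg m)).2 hd
  field_simp

/-- An element of the torus. -/
noncomputable def Y (y : Kˣ) : RG K m := ⟨hy m y, hy_mem hK y⟩

lemma Y_mul (y z : Kˣ) : Y hK y * Y hK z = Y hK (y * z) := Subtype.ext (hy_mul m y z)

lemma Y_one : Y hK 1 = 1 := Subtype.ext (hy_one m)

lemma Y_inv (y : Kˣ) : (Y hK y)⁻¹ = Y hK y⁻¹ :=
  inv_eq_of_mul_eq_one_right (by rw [Y_mul, mul_inv_cancel, Y_one])

lemma Y_inj {y z : Kˣ} (h : Y hK y = Y hK z) : y = z := hy_inj (congrArg Subtype.val h)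

lemma YX (y : Kˣ) (t u v : K) :
    Y hK y * X m t u v = X m ((aHom m y : K) * t) ((bHom m y : K) * u) ((y : K) * v) * Y hK y := by
  apply Subtype.ext
  show hy m y * reeU m t u v = reeU m _ _ _ * hy m y
  rw [hy_reeU hK, aHom_val, bHom_val, sg_apply]

lemma conj_Y_X (y : Kˣ) (t u v : K) :
    MulAut.conj (Y hK y) (X m t u v) = X m ((aHom m y : K) * t) ((bHom m y : K) * u) ((y : K) * v) := by
  rw [MulAut.conj_apply, YX, mul_inv_cancel_right]

lemma w0_Y (y : Kˣ) : w0 m * Y hK y * w0 m = Y hK y⁻¹ := Subtype.ext (n0_hy m y)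

lemma X_mul (t u v t' u' v' : K) :
    X m t u v * X m t' u' v' =
      X m (t + t') (u + u' - sg m t' * t) (v + v' - u * t' + sg m t' * t * (t' - t)) := by
  apply Subtype.ext
  show reeU m t u v * reeU m t' u' v' = reeU m _ _ _
  obtain ⟨T, U, V, e⟩ := (mem_pos_twisted hK _).1
    (mul_mem ((mem_pos_twisted hK _).2 ⟨t, u, v, rfl⟩) ((mem_pos_twisted hK _).2 ⟨t', u', v', rfl⟩))
  rw [e]
  have e' : ordP (t ^ 3 ^ m) t (t ^ (3 ^ m + 1) + u ^ 3 ^ m) (t ^ (2 * 3 ^ m + 1) + v ^ 3 ^ m) u v *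
      ordP (t' ^ 3 ^ m) t' (t' ^ (3 ^ m + 1) + u' ^ 3 ^ m) (t' ^ (2 * 3 ^ m + 1) + v' ^ 3 ^ m) u' v' =
      ordP (T ^ 3 ^ m) T (T ^ (3 ^ m + 1) + U ^ 3 ^ m) (T ^ (2 * 3 ^ m + 1) + V ^ 3 ^ m) U V := e
  rw [ordP_mul] at e'
  obtain ⟨-, hT, -, -, hU, hV⟩ := ordP_inj e'
  subst hT hU hV
  rw [sg_apply]
  congr 1 <;> ring

lemma mem_U {z : RG K m} : z ∈ U1 (K := K) m ↔ ∃ t u v, z = X m t u v := by
  rw [U1, Subgroup.mem_subgroupOf, mem_pos_twisted hK]
  exact exists_congr fun t => exists_congr fun u => exists_congr fun v =>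
    ⟨fun e => Subtype.ext e, fun e => congrArg Subtype.val e⟩

lemma X_mem (t u v : K) : X m t u v ∈ U1 (K := K) m := (mem_U hK).2 ⟨t, u, v, rfl⟩

lemma X_cube (t u v : K) : X m t u v ^ 3 = X m 0 0 (-(sg m t * t ^ 2)) := by
  have h3 : (3 : K) = 0 := CharP.cast_eq_zero K 3
  rw [pow_succ, pow_two, X_mul hK, X_mul hK]
  congr 1
  · linear_combination t * h3
  · linear_combination (u - sg m t * t) * h3
  · linear_combination (v - u * t) * h3

lemma X_cube_eq_one {t u v : K} : X m t u v ^ 3 = 1 ↔ t = 0 := by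
  constructor
  · intro h
    rw [X_cube hK, ← X_zero] at h
    have h2 := (X_inj h).2.2
    by_contra ht
    simp [ht] at h2
  · rintro rfl
    rw [X_cube hK, map_zero, zero_mul, neg_zero, X_zero]

lemma bruhat' (z : RG K m) :
    (∃ t u v y, z = X m t u v * Y hK y) ∨
      ∃ t u v y t' u' v', z = X m t u v * Y hK y * w0 m * X m t' u' v' := by
  rcases twisted_bruhat hK z.2 with ⟨t, u, v, y, h⟩ | ⟨t, u, v, y, t', u', v', h⟩
  · exact Or.inl ⟨t, u, v, y, Subtype.ext h⟩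
  · exact Or.inr ⟨t, u, v, y, t', u', v', Subtype.ext h⟩

lemma XY_mem_B (t u v : K) (y : Kˣ) : X m t u v * Y hK y ∈ B1 (K := K) m :=
  ⟨borelElt_mem t u v y, (X m t u v * Y hK y).2⟩

lemma conj_X_mem (t u v : K) {x : RG K m} (hx : x ∈ U1 (K := K) m) :
    X m t u v * x * (X m t u v)⁻¹ ∈ U1 (K := K) m :=
  mul_mem (mul_mem (X_mem hK t u v) hx) (inv_mem (X_mem hK t u v))

lemma conj_Y_mem (y : Kˣ) (x : RG K m) : MulAut.conj (Y hK y) x ∈ U1 (K := K) m ↔ x ∈ U1 (K := K) m := by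
  have key : ∀ (y : Kˣ), ∀ x ∈ U1 (K := K) m, MulAut.conj (Y hK y) x ∈ U1 (K := K) m := by
    intro y x hx
    obtain ⟨t, u, v, rfl⟩ := (mem_U hK).1 hx
    rw [conj_Y_X]
    exact X_mem hK _ _ _
  refine ⟨fun h => ?_, key y x⟩
  have := key y⁻¹ _ h
  rwa [← MulAut.mul_apply, ← map_mul, Y_mul, inv_mul_cancel, Y_one, map_one, MulAut.one_apply] at this

lemma not_mem_B {t u v : K} (h : w0 m * X m t u v * w0 m ∈ B1 (K := K) m) : X m t u v = 1 :=
  Subtype.ext (borel_inf_opp (reeU_mem_pos m t u v) h.1)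

lemma mem_B_of_normalizes {z : RG K m} (hz : ∀ x ∈ U1 (K := K) m, z * x * z⁻¹ ∈ U1 (K := K) m) :
    z ∈ B1 (K := K) m := by
  rcases bruhat' hK z with ⟨t, u, v, y, rfl⟩ | ⟨t, u, v, y, t', u', v', rfl⟩
  · exact XY_mem_B hK t u v y
  · exfalso
    have h1 := hz ((X m t' u' v')⁻¹ * X m 0 0 1 * X m t' u' v')
      (mul_mem (mul_mem (inv_mem (X_mem hK _ _ _)) (X_mem hK _ _ _)) (X_mem hK _ _ _))
    have hUB : U1 (K := K) m ≤ B1 (K := K) m := fun x hx => ⟨pos_le_borel hx.1, x.2⟩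
    have h2 := mul_mem (mul_mem (inv_mem (XY_mem_B hK t u v y)) (hUB h1)) (XY_mem_B hK t u v y)
    rw [show (X m t u v * Y hK y)⁻¹ * (X m t u v * Y hK y * w0 m * X m t' u' v' *
        ((X m t' u' v')⁻¹ * X m 0 0 1 * X m t' u' v') * (X m t u v * Y hK y * w0 m * X m t' u' v')⁻¹) *
        (X m t u v * Y hK y) = w0 m * X m 0 0 1 * (w0 m)⁻¹ by group,
      show (w0 (K := K) m)⁻¹ = w0 m from inv_eq_of_mul_eq_one_right w0_mul_self'] at h2
    have h3 := not_mem_B hK h2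
    rw [← X_zero] at h3
    exact one_ne_zero (X_inj h3).2.2

lemma exists_Y_of_normalizes {z : RG K m} (hU : ∀ x ∈ U1 (K := K) m, z * x * z⁻¹ ∈ U1 (K := K) m)
    (hV : ∀ x ∈ U1 (K := K) m, (w0 m * z * w0 m) * x * (w0 m * z * w0 m)⁻¹ ∈ U1 (K := K) m) :
    ∃ e, z = Y hK e := by
  rcases bruhat' hK z with ⟨t, u, v, y, rfl⟩ | h
  · refine ⟨y, ?_⟩
    have h1 := mem_B_of_normalizes hK hV
    have h2 : Y hK y⁻¹⁻¹ * 1 ∈ B1 (K := K) m := by
      rw [mul_one, ← one_mul (Y hK y⁻¹⁻¹), ← X_zero]; exact XY_mem_B hK 0 0 0 _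
    have h3 : w0 m * X m t u v * w0 m ∈ B1 (K := K) m := by
      have := mul_mem h1 h2
      rwa [mul_one, ← Y_inv hK, ← w0_Y hK y, show w0 m * (X m t u v * Y hK y) * w0 m * (w0 m * Y hK y * w0 m)⁻¹ =
        w0 m * X m t u v * (w0 m)⁻¹ * 1 by group,
        show (w0 (K := K) m)⁻¹ = w0 m from inv_eq_of_mul_eq_one_right w0_mul_self', mul_one] at this
    rw [not_mem_B hK h3, one_mul]
  · obtain ⟨t, u, v, y, t', u', v', rfl⟩ := h
    exact absurd (mem_B_of_normalizes hK hU).1 (cell_not_borel t u v y t' u' v')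

end

/-! ### field automorphisms -/

lemma map_wordG (ρ : K ≃+* K) (w : List (Rt chevG2 × K)) :
    Matrix.GeneralLinearGroup.map ρ.toRingHom (wordG w) = wordG (w.map fun p => (p.1, ρ p.2)) := by
  induction w with
  | nil => simp
  | cons p w ih => rw [wordG_cons, map_mul, ih, List.map_cons, wordG_cons, C2.X_map]; rfl

lemma map_n0 (ρ : K ≃+* K) : Matrix.GeneralLinearGroup.map ρ.toRingHom (n0 : GL chevG2.Idx K) = n0 := by
  rw [n0, map_wordG]
  simp

lemma map_reeU (ρ : K ≃+* K) (t u v : K) :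
    Matrix.GeneralLinearGroup.map ρ.toRingHom (reeU m t u v) = reeU m (ρ t) (ρ u) (ρ v) := by
  have e : ∀ t u v : K, reeU m t u v = wordG [(7, t ^ 3 ^ m), (6, t), (8, t ^ (3 ^ m + 1) + u ^ 3 ^ m),
      (9, t ^ (2 * 3 ^ m + 1) + v ^ 3 ^ m), (10, u), (11, v)] := fun t u v => by simp [reeU, ordP]
  rw [e, e, map_wordG]
  simp [map_add, map_pow]

lemma map_mem (ρ : K ≃+* K) {g : GL chevG2.Idx K} (hg : g ∈ Cfsg.Lie.twistedG2 K (3 ^ m)) :
    Matrix.GeneralLinearGroup.map ρ.toRingHom g ∈ Cfsg.Lie.twistedG2 K (3 ^ m) := by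
  rw [twisted_eq_closure] at hg
  induction hg using Subgroup.closure_induction with
  | mem x hx =>
    obtain ⟨t, u, v, rfl | rfl⟩ := hx
    · rw [map_reeU]; exact reeU_mem m _ _ _
    · rw [reeV, map_mul, map_mul, map_n0, map_reeU]
      exact mul_mem (mul_mem (n0_mem m) (reeU_mem m _ _ _)) (n0_mem m)
  | one => rw [map_one]; exact one_mem _
  | mul x y _ _ hx hy => rw [map_mul]; exact mul_mem hx hy
  | inv x _ hx => rw [map_inv]; exact inv_mem hx

/-- The automorphism given by a field automorphism. -/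
noncomputable def fieldMap (ρ : K ≃+* K) : RG K m ≃* RG K m where
  toFun g := ⟨Matrix.GeneralLinearGroup.map ρ.toRingHom g.1, map_mem ρ g.2⟩
  invFun g := ⟨Matrix.GeneralLinearGroup.map ρ.symm.toRingHom g.1, map_mem ρ.symm g.2⟩
  left_inv g := Subtype.ext (Units.ext (by ext i j; exact ρ.symm_apply_apply _))
  right_inv g := Subtype.ext (Units.ext (by ext i j; exact ρ.apply_symm_apply _))
  map_mul' g k := Subtype.ext (map_mul (Matrix.GeneralLinearGroup.map ρ.toRingHom) g.1 k.1)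

/-- Field automorphisms as a homomorphism. -/
noncomputable def fieldHom : (K ≃+* K) →* MulAut (RG K m) where
  toFun ρ := fieldMap ρ
  map_one' := MulEquiv.ext fun g => Subtype.ext (Units.ext (by ext i j; rfl))
  map_mul' ρ ρ' := MulEquiv.ext fun g => Subtype.ext (Units.ext (by ext i j; rfl))

lemma fieldHom_X (ρ : K ≃+* K) (t u v : K) : fieldHom ρ (X m t u v) = X m (ρ t) (ρ u) (ρ v) :=
  Subtype.ext (map_reeU ρ t u v)

lemma fieldHom_w0 (ρ : K ≃+* K) : fieldHom ρ (w0 (K := K) m) = w0 m := Subtype.ext (map_n0 ρ)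

/-! ### adapted automorphisms -/

/-- `φ` fixes `U` and `n₀ U n₀`. -/
def Adapted (φ : MulAut (RG K m)) : Prop :=
  (∀ x, φ x ∈ U1 (K := K) m ↔ x ∈ U1 (K := K) m) ∧
    ∀ x, w0 m * φ x * w0 m ∈ U1 (K := K) m ↔ w0 m * x * w0 m ∈ U1 (K := K) m

lemma Adapted.mul {φ ψ : MulAut (RG K m)} (hφ : Adapted φ) (hψ : Adapted ψ) : Adapted (φ * ψ) :=
  ⟨fun x => (hφ.1 (ψ x)).trans (hψ.1 x), fun x => (hφ.2 (ψ x)).trans (hψ.2 x)⟩

section
variable (hK : Fintype.card K = 3 ^ (2 * m + 1))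
include hK

lemma adapted_fieldHom (ρ : K ≃+* K) : Adapted (fieldHom (m := m) ρ) := by
  have key : ∀ x, fieldHom ρ x ∈ U1 (K := K) m ↔ x ∈ U1 (K := K) m := by
    intro x
    rw [mem_U hK, mem_U hK]
    constructor
    · rintro ⟨t, u, v, h⟩
      refine ⟨ρ.symm t, ρ.symm u, ρ.symm v, (fieldHom ρ).injective ?_⟩
      rw [h, fieldHom_X, ρ.apply_symm_apply, ρ.apply_symm_apply, ρ.apply_symm_apply]
    · rintro ⟨t, u, v, rfl⟩
      exact ⟨_, _, _, fieldHom_X ρ t u v⟩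
  refine ⟨key, fun x => ?_⟩
  rw [← key (w0 m * x * w0 m), map_mul, map_mul, fieldHom_w0]

lemma w0_conj_Y (e : Kˣ) (x : RG K m) :
    w0 m * MulAut.conj (Y hK e) x * w0 m = MulAut.conj (Y hK e⁻¹) (w0 m * x * w0 m) := by
  rw [← w0_Y hK e]
  simp only [MulAut.conj_apply, mul_inv_rev, show (w0 (K := K) m)⁻¹ = w0 m from inv_eq_of_mul_eq_one_right w0_mul_self']
  simp only [mul_assoc]
  rw [← mul_assoc (w0 m) (w0 m), w0_mul_self', one_mul, ← mul_assoc (w0 m) (w0 m), w0_mul_self', one_mul]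

lemma adapted_conj_Y (e : Kˣ) : Adapted (MulAut.conj (Y hK e)) := by
  refine ⟨conj_Y_mem hK e, fun x => ?_⟩
  rw [← conj_Y_mem hK e⁻¹ (w0 m * x * w0 m)]
  rw [w0_conj_Y hK]

lemma sylow_conj (χ : MulAut (RG K m)) :
    ∃ g : RG K m, ∀ y, y ∈ U1 (K := K) m ↔ g⁻¹ * χ y * g ∈ U1 (K := K) m := by
  haveI : Fact (Nat.Prime 3) := ⟨Nat.prime_three⟩
  have hUcard : Nat.card ↥(U1 (K := K) m) = 3 ^ (Nat.card (RG K m)).factorization 3 := by
    rw [Nat.card_congr (Subgroup.subgroupOfEquivOfLe (inf_le_right)).toEquiv, card_pos_twisted hK, card_twisted hK,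
      ← pow_mul]
    congr 1
    have h1 : 1 ≤ 3 ^ (2 * m + 1) := Nat.one_le_pow _ _ (by norm_num)
    have hd : ¬ 3 ∣ (3 ^ (2 * m + 1) - 1) * (3 ^ ((2 * m + 1) * 3) + 1) := by
      intro h
      rcases (Nat.prime_three.dvd_mul).1 h with h | h
      · have h2 : 3 ∣ 3 ^ (2 * m + 1) := dvd_pow_self 3 (by omega)
        omega
      · have h2 : 3 ∣ 3 ^ ((2 * m + 1) * 3) := dvd_pow_self 3 (by omega)
        omega
    have hne : (3 ^ (2 * m + 1) - 1) * (3 ^ ((2 * m + 1) * 3) + 1) ≠ 0 := fun h0 => hd (h0 ▸ dvd_zero 3)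
    rw [mul_assoc, Nat.factorization_mul (by positivity) hne, Finsupp.add_apply, Nat.factorization_pow,
      Finsupp.smul_apply, Nat.Prime.factorization_self Nat.prime_three, Nat.factorization_eq_zero_of_not_dvd hd]
    simp
  let P0 : Sylow 3 (RG K m) := Sylow.ofCard (U1 (K := K) m) hUcard
  let P1 : Sylow 3 (RG K m) := Sylow.ofCard ((U1 (K := K) m).map χ.toMonoidHom)
    (by rw [Subgroup.card_map_of_injective χ.injective, hUcard])
  obtain ⟨g, hg⟩ := MulAction.exists_smul_eq (RG K m) P0 P1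
  refine ⟨g, fun y => ?_⟩
  have hg' : (U1 (K := K) m).map χ.toMonoidHom = (U1 (K := K) m).map (MulAut.conj g).toMonoidHom :=
    (congrArg (fun P : Sylow 3 (RG K m) => (P : Subgroup (RG K m))) hg).symm
  constructor
  · intro hy
    have hmem := Subgroup.mem_map_of_mem χ.toMonoidHom hy
    rw [hg'] at hmem
    obtain ⟨z, hz, hze⟩ := hmem
    rw [show χ y = g * z * g⁻¹ from hze.symm, show g⁻¹ * (g * z * g⁻¹) * g = z by group]
    exact hz
  · intro hy
    have hmem := Subgroup.mem_map_of_mem (MulAut.conj g).toMonoidHom hy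
    rw [← hg'] at hmem
    obtain ⟨z, hz, hze⟩ := hmem
    obtain rfl : z = y := χ.injective (hze.trans (by
      show g * (g⁻¹ * χ y * g) * g⁻¹ = χ y
      group))
    exact hz

lemma exists_adapted (φ : MulAut (RG K m)) : ∃ g : RG K m, Adapted (MulAut.conj g * φ) := by
  have hw : (w0 (K := K) m)⁻¹ = w0 m := inv_eq_of_mul_eq_one_right w0_mul_self'
  have hwn : ¬ ∀ x, w0 m * x * w0 m ∈ U1 (K := K) m ↔ x ∈ U1 (K := K) m := by
    intro hx
    have := mem_B_of_normalizes hK (z := w0 m) fun x hxU => by rw [hw]; exact (hx x).2 hxU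
    exact n0_not_borel this.1
  obtain ⟨g, hg⟩ := sylow_conj hK φ
  obtain ⟨ψ, hψ⟩ : ∃ ψ : MulAut (RG K m), ψ = MulAut.conj g⁻¹ * φ := ⟨_, rfl⟩
  have h1 : ∀ x, ψ x ∈ U1 (K := K) m ↔ x ∈ U1 (K := K) m := fun x => by
    rw [hψ, MulAut.mul_apply, MulAut.conj_apply, inv_inv, ← hg]
  obtain ⟨k, hk⟩ := sylow_conj hK (ψ * MulAut.conj (w0 m))
  have hk' : ∀ x, w0 m * x * w0 m ∈ U1 (K := K) m ↔ k⁻¹ * ψ x * k ∈ U1 (K := K) m := by
    intro x
    rw [hk, MulAut.mul_apply, MulAut.conj_apply, hw, w0_w0]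
  have hB : ∀ t u v y z, (X m t u v * Y hK y)⁻¹ * z * (X m t u v * Y hK y) ∈ U1 (K := K) m ↔ z ∈ U1 (K := K) m := by
    intro t u v y z
    rw [show (X m t u v * Y hK y)⁻¹ * z * (X m t u v * Y hK y) =
      MulAut.conj (Y hK y⁻¹) ((X m t u v)⁻¹ * z * X m t u v) by rw [MulAut.conj_apply, ← Y_inv hK, inv_inv]; group,
      conj_Y_mem hK, Subgroup.mul_mem_cancel_right _ (X_mem hK t u v),
      Subgroup.mul_mem_cancel_left _ (inv_mem (X_mem hK t u v))]
  rcases bruhat' hK k with ⟨t, u, v, y, rfl⟩ | ⟨t, u, v, y, t', u', v', rfl⟩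
  · exact absurd (fun x => by rw [hk', hB, h1]) hwn
  refine ⟨(X m t u v)⁻¹ * g⁻¹, ?_⟩
  rw [map_mul, mul_assoc, ← hψ]
  refine ⟨fun z => ?_, fun z => ?_⟩
  · rw [MulAut.mul_apply, MulAut.conj_apply, inv_inv, Subgroup.mul_mem_cancel_right _ (X_mem hK t u v),
      Subgroup.mul_mem_cancel_left _ (inv_mem (X_mem hK t u v)), h1]
  · rw [MulAut.mul_apply, MulAut.conj_apply, inv_inv, hk' z]
    generalize ψ z = p
    rw [← conj_Y_mem hK y⁻¹⁻¹⁻¹]
    rw [show (X m t u v * Y hK y * w0 m * X m t' u' v')⁻¹ * p * (X m t u v * Y hK y * w0 m * X m t' u' v') =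
      (X m t' u' v')⁻¹ * ((w0 m)⁻¹ * ((Y hK y)⁻¹ * ((X m t u v)⁻¹ * p * X m t u v) * Y hK y) * w0 m) * X m t' u' v' by group,
      Subgroup.mul_mem_cancel_right _ (X_mem hK _ _ _), Subgroup.mul_mem_cancel_left _ (inv_mem (X_mem hK _ _ _)),
      hw]
    rw [conj_Y_mem hK]
    have e : ∀ q : RG K m, w0 m * ((Y hK y)⁻¹ * q * Y hK y) * w0 m = MulAut.conj (Y hK y) (w0 m * q * w0 m) := by
      intro q
      have h2 := w0_conj_Y hK y⁻¹ q
      rwa [inv_inv, MulAut.conj_apply (Y hK y⁻¹), ← Y_inv hK, inv_inv] at h2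
    rw [e, conj_Y_mem hK]

lemma Adapted.map_Y {φ : MulAut (RG K m)} (hφ : Adapted φ) (e : Kˣ) : ∃ e', φ (Y hK e) = Y hK e' := by
  refine exists_Y_of_normalizes hK (fun x hx => ?_) fun x hx => ?_
  · obtain ⟨y, rfl⟩ := φ.surjective x
    rw [← map_inv, ← map_mul, ← map_mul, hφ.1]
    exact (conj_Y_mem hK e y).2 ((hφ.1 y).1 hx)
  · have hw : (w0 (K := K) m)⁻¹ = w0 m := inv_eq_of_mul_eq_one_right w0_mul_self'
    obtain ⟨y, hy⟩ := φ.surjective (w0 m * x * w0 m)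
    have hxy : w0 m * φ y * w0 m = x := by rw [hy, w0_w0]
    rw [show w0 m * φ (Y hK e) * w0 m * x * (w0 m * φ (Y hK e) * w0 m)⁻¹ =
      w0 m * (φ (Y hK e) * (w0 m * x * (w0 m)⁻¹) * (φ (Y hK e))⁻¹) * (w0 m)⁻¹ by group, hw, ← hy, ← map_inv,
      ← map_mul, ← map_mul, hφ.2, ← conj_Y_mem hK e]
    suffices h : MulAut.conj (Y hK e) (w0 m * (Y hK e * y * (Y hK e)⁻¹) * w0 m) = w0 m * y * w0 m by
      rw [h, ← hφ.2, hxy]; exact hx
    rw [← MulAut.conj_apply (Y hK e) y, w0_conj_Y hK, ← MulAut.mul_apply, ← map_mul, Y_mul, mul_inv_cancel, Y_one,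
      map_one, MulAut.one_apply]

end

end Cfsg.Agent.Lib.LieTwisted.ReeOut
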