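import Cfsg.Agent.Lib.LieTwisted.SparseNorm
import Cfsg.Agent.Lib.ChevStructure.Cert.G2
import Cfsg.Agent.Lib.ChevStructure.Words
import Cfsg.Prelude.Def_LieTwisted

/-!
Relations between root elements of G2 in characteristic 3 used for the small Ree groups,
each an identity of sparse polynomial matrices checked in the kernel.
-/

set_option autoImplicit false

namespace Cfsg.Agent.Lib.LieTwisted.Ree

open Cfsg.Lie SparseRoot

/-- The word of the Weyl element `n₀ = u(0,1,0) v(0,1,0) u(0,1,0)`. -/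
def n0W : List (ℕ × (ℤ × ℕ × ℕ)) :=
  [(8, (1, 0, 0)), (10, (1, 0, 0)), (3, (-1, 0, 0)), (1, (-1, 0, 0)), (8, (1, 0, 0)), (10, (1, 0, 0))]

/-- The word of a second monomial element `u(0,1,1) v(2,1,1) u(0,2,1)`. -/
def n1W : List (ℕ × (ℤ × ℕ × ℕ)) :=
  [(8, (1, 0, 0)), (9, (1, 0, 0)), (10, (1, 0, 0)), (11, (1, 0, 0)),
   (4, (1, 0, 0)), (5, (1, 0, 0)), (3, (1, 0, 0)), (1, (-1, 0, 0)), (0, (-1, 0, 0)),
   (8, (-1, 0, 0)), (9, (1, 0, 0)), (10, (-1, 0, 0)), (11, (1, 0, 0))]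

/-- The word of `h_r(-1)`. -/
def hNegW (r nr : ℕ) : List (ℕ × (ℤ × ℕ × ℕ)) :=
  [(r, (-1, 0, 0)), (nr, (1, 0, 0)), (r, (-1, 0, 0)), (r, (-1, 0, 0)), (nr, (1, 0, 0)), (r, (-1, 0, 0))]

set_option maxRecDepth 100000
set_option Elab.async false

theorem comm67 : sameWordC chevG2 3 [(6, (1, 1, 0)), (7, (1, 0, 1))]
    [(7, (1, 0, 1)), (6, (1, 1, 0)), (8, (1, 1, 1)), (9, (1, 1, 2)), (10, (-1, 1, 3)), (11, (-1, 2, 3))] = true := by
  decide +kernel

theorem comm87 : sameWordC chevG2 3 [(8, (1, 1, 0)), (7, (1, 0, 1))]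
    [(7, (1, 0, 1)), (8, (1, 1, 0)), (9, (-1, 1, 1))] = true := by decide +kernel

theorem comm106 : sameWordC chevG2 3 [(10, (1, 1, 0)), (6, (1, 0, 1))]
    [(6, (1, 0, 1)), (10, (1, 1, 0)), (11, (-1, 1, 1))] = true := by decide +kernel

/-- The remaining pairs of positive roots commute. -/
theorem comm_rest : [(9, 7), (10, 7), (11, 7), (8, 6), (9, 6), (11, 6), (9, 8), (10, 8), (11, 8), (10, 9),
    (11, 9), (11, 10)].all (fun p : ℕ × ℕ => sameWordC chevG2 3 [(p.1, (1, 1, 0)), (p.2, (1, 0, 1))]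
      [(p.2, (1, 0, 1)), (p.1, (1, 1, 0))]) = true := by decide +kernel

theorem n0_conj : (List.range 12).all (fun r => sameWordC chevG2 3 (n0W ++ [(r, (1, 1, 0))])
    ([(chevG2.neg r, (-1, 1, 0))] ++ n0W)) = true := by decide +kernel

theorem n0_sq : sameWordC chevG2 3 (n0W ++ n0W) [] = true := by decide +kernel

theorem n1_n0 : sameWordC chevG2 3 (n1W ++ n0W) (hNegW 7 4 ++ hNegW 6 5) = true := by decide +kernel

end Cfsg.Agent.Lib.LieTwisted.Ree
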