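import Cfsg.Agent.Lib.LieTwisted.ReeTau

/-!
The subgroups `U¹ = G¹ ∩ U` and `H¹ = G¹ ∩ H` of the small Ree group.
-/

set_option autoImplicit false
set_option linter.unusedSectionVars false

namespace Cfsg.Agent.Lib.LieTwisted.Ree

open Cfsg.Lie SparseRoot ChevStructure

theorem charP_of_card {K : Type*} [Field K] [Fintype K] {m : ℕ} (hK : Fintype.card K = 3 ^ (2 * m + 1)) :
    CharP K 3 := by
  haveI : Fact (Nat.Prime 3) := ⟨Nat.prime_three⟩
  refine charP_of_card_eq_prime_pow (p := 3) (f := 2 * m + 1) ?_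
  first
    | exact hK
    | rw [Nat.card_eq_fintype_card, hK]

variable {K : Type*} [Field K] [CharP K 3]

lemma ordP_mul (a b c d f g a' b' c' d' f' g' : K) :
    ordP a b c d f g * ordP a' b' c' d' f' g' =
      ordP (a + a') (b + b') (a' * b + (c + c')) (a' ^ 2 * b + (d + -(c * a') + d'))
        (-(a' ^ 3 * b) + (f + f')) (-(a' ^ 3 * b ^ 2) + -(-(a' ^ 3 * b) * b') + (g + -(f * b') + g')) := by
  rw [ordP_eq a b, mul_assoc, mul_assoc, mulQ, mul6, mul7]

lemma ordP_cube (a b c d f g : K) :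
    ordP a b c d f g * ordP a b c d f g * ordP a b c d f g = ordP 0 0 0 (-(a ^ 2 * b)) 0 (-(a ^ 3 * b ^ 2)) := by
  have h3 : (3 : K) = 0 := CharP.cast_eq_zero K 3
  rw [ordP_mul, ordP_mul]
  congr 1
  · linear_combination a * h3
  · linear_combination b * h3
  · linear_combination (a * b + c) * h3
  · linear_combination (a ^ 2 * b + d - c * a) * h3
  · linear_combination (-(a ^ 3 * b) + f) * h3
  · linear_combination (-(a ^ 3 * b ^ 2) + g - f * b + a ^ 3 * b ^ 2) * h3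

lemma reeU_inj {m : ℕ} {t u v t' u' v' : K} (h : reeU m t u v = reeU m t' u' v') :
    t = t' ∧ u = u' ∧ v = v' := by
  obtain ⟨-, ht, -, -, hu, hv⟩ := ordP_inj h
  exact ⟨ht, hu, hv⟩

lemma reeU_mem_pos (m : ℕ) (t u v : K) : reeU m t u v ∈ chevG2.posUnipotent K := ordP_mem_pos _ _ _ _ _ _

lemma hy_mem_diag (m : ℕ) (y : Kˣ) : hy m y ∈ chevG2.diagonalSubgroup K := (mem_diag_iff _).2 ⟨_, _, rfl⟩

lemma pos_le_borel : chevG2.posUnipotent K ≤ chevG2.borelSubgroup K := le_sup_left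
lemma diag_le_borel : chevG2.diagonalSubgroup K ≤ chevG2.borelSubgroup K := le_sup_right

lemma reeU_eq_one {m : ℕ} {t u v : K} (h : reeU m t u v = 1) : t = 0 ∧ u = 0 ∧ v = 0 := by
  rw [← ordP_zero] at h
  obtain ⟨-, ht, -, -, hu, hv⟩ := ordP_inj h
  exact ⟨ht, hu, hv⟩

lemma reeU_zero (m : ℕ) : reeU m (0 : K) 0 0 = 1 := by
  have he : (3 : ℕ) ^ m ≠ 0 := by positivity
  simp [reeU, zero_pow he, ordP_zero]

lemma reeU_hy_inj {m : ℕ} {t u v t' u' v' : K} {y y' : Kˣ}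
    (h : reeU m t u v * hy m y = reeU m t' u' v' * hy m y') : (t = t' ∧ u = u' ∧ v = v') ∧ y = y' := by
  obtain ⟨⟨-, ht, -, -, hu, hv⟩, -, hy'⟩ := borel_coords_inj h
  exact ⟨⟨ht, hu, hv⟩, hy'⟩

section finite

variable [Fintype K] {m : ℕ} (hK : Fintype.card K = 3 ^ (2 * m + 1))

include hK

theorem mem_pos_twisted (g : GL chevG2.Idx K) :
    g ∈ chevG2.posUnipotent K ⊓ Cfsg.Lie.twistedG2 K (3 ^ m) ↔ ∃ t u v : K, g = reeU m t u v := by
  constructor
  · rintro ⟨hU, hG⟩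
    obtain ⟨t, u, v, y, rfl⟩ := (mem_borel_fix hK g).1 ⟨pos_le_borel hU, twisted_le_fix hK hG⟩
    obtain ⟨a, b, c, d, f, g', he⟩ := (mem_pos_iff _).1 hU
    have h1 : y = 1 := by
      have : reeU m t u v * hy m y = ordP a b c d f g' * hh 1 1 := by rw [he, hh_one, mul_one]
      exact (borel_coords_inj this).2.2
    subst h1
    exact ⟨t, u, v, by rw [hy_one, mul_one]⟩
  · rintro ⟨t, u, v, rfl⟩
    exact ⟨reeU_mem_pos m t u v, reeU_mem m t u v⟩

theorem mem_diag_twisted (g : GL chevG2.Idx K) :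
    g ∈ chevG2.diagonalSubgroup K ⊓ Cfsg.Lie.twistedG2 K (3 ^ m) ↔ ∃ y : Kˣ, g = hy m y := by
  constructor
  · rintro ⟨hH, hG⟩
    obtain ⟨t, u, v, y, rfl⟩ := (mem_borel_fix hK g).1 ⟨diag_le_borel hH, twisted_le_fix hK hG⟩
    obtain ⟨x, y', he⟩ := (mem_diag_iff _).1 hH
    have h0 : reeU m t u v * hy m y = ordP 0 0 0 0 0 0 * hh x y' := by rw [he, ordP_zero, one_mul]
    obtain ⟨⟨e1, e2, e3, e4, e5, e6⟩, -, -⟩ := borel_coords_inj h0
    refine ⟨y, ?_⟩
    rw [e2, e5, e6, reeU_zero, one_mul]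
  · rintro ⟨y, rfl⟩
    exact ⟨hy_mem_diag m y, hy_mem hK y⟩

theorem card_pos_twisted : Nat.card ↥(chevG2.posUnipotent K ⊓ Cfsg.Lie.twistedG2 K (3 ^ m)) = (3 ^ (2 * m + 1)) ^ 3 := by
  let f : K × K × K → ↥(chevG2.posUnipotent K ⊓ Cfsg.Lie.twistedG2 K (3 ^ m)) := fun p =>
    ⟨reeU m p.1 p.2.1 p.2.2, (mem_pos_twisted hK _).2 ⟨_, _, _, rfl⟩⟩
  have hf : Function.Bijective f := by
    constructor
    · rintro ⟨t, u, v⟩ ⟨t', u', v'⟩ h
      obtain ⟨rfl, rfl, rfl⟩ := reeU_inj (congrArg Subtype.val h)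
      rfl
    · rintro ⟨g, hg⟩
      obtain ⟨t, u, v, rfl⟩ := (mem_pos_twisted hK g).1 hg
      exact ⟨(t, u, v), rfl⟩
  rw [← Nat.card_congr (Equiv.ofBijective f hf), Nat.card_prod, Nat.card_prod, Nat.card_eq_fintype_card, hK]
  ring

/-- `H¹ ≅ Kˣ`. -/
noncomputable def hyEquiv : Kˣ ≃* ↥(chevG2.diagonalSubgroup K ⊓ Cfsg.Lie.twistedG2 K (3 ^ m)) :=
  MulEquiv.ofBijective
    (MonoidHom.mk' (fun y => ⟨hy m y, (mem_diag_twisted hK _).2 ⟨y, rfl⟩⟩) fun a b => Subtype.ext (hy_mul m a b).symm)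
    ⟨fun _ _ h => hy_inj (congrArg Subtype.val h), fun g => by
      obtain ⟨y, hy'⟩ := (mem_diag_twisted hK g.1).1 g.2
      exact ⟨y, Subtype.ext hy'.symm⟩⟩

theorem card_diag_twisted :
    Nat.card ↥(chevG2.diagonalSubgroup K ⊓ Cfsg.Lie.twistedG2 K (3 ^ m)) = 3 ^ (2 * m + 1) - 1 := by
  classical
  rw [← Nat.card_congr (hyEquiv hK).toEquiv, Nat.card_eq_fintype_card, Fintype.card_units, hK]

lemma reeU_cube_eq_one {t u v : K} : reeU m t u v ^ 3 = 1 ↔ t = 0 := by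
  rw [pow_succ, pow_two, reeU, ordP_cube, ← ordP_zero]
  constructor
  · intro h
    obtain ⟨-, -, -, e, -, -⟩ := ordP_inj h
    by_contra ht
    exact mul_ne_zero (pow_ne_zero 2 (pow_ne_zero (3 ^ m) ht)) ht (neg_eq_zero.1 e)
  · rintro rfl
    congr 1 <;> ring

theorem card_order_three :
    Nat.card {u : ↥(chevG2.posUnipotent K ⊓ Cfsg.Lie.twistedG2 K (3 ^ m)) // orderOf u = 3}
      = (3 ^ (2 * m + 1)) ^ 2 - 1 := by
  classical
  haveI : Fact (Nat.Prime 3) := ⟨Nat.prime_three⟩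
  let f : {p : K × K // p ≠ (0, 0)} → {u : ↥(chevG2.posUnipotent K ⊓ Cfsg.Lie.twistedG2 K (3 ^ m)) // orderOf u = 3} :=
    fun p => ⟨⟨reeU m 0 p.1.1 p.1.2, (mem_pos_twisted hK _).2 ⟨_, _, _, rfl⟩⟩, by
      refine orderOf_eq_prime (Subtype.ext ?_) fun h => p.2 ?_
      · rw [SubgroupClass.coe_pow, OneMemClass.coe_one]
        exact (reeU_cube_eq_one hK).2 rfl
      · obtain ⟨-, hu, hv⟩ := reeU_eq_one (congrArg Subtype.val h)
        exact Prod.ext hu hv⟩
  have hf : Function.Bijective f := by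
    constructor
    · rintro ⟨⟨u, v⟩, _⟩ ⟨⟨u', v'⟩, _⟩ h
      obtain ⟨-, rfl, rfl⟩ := reeU_inj (congrArg (fun x => (x.1 : GL chevG2.Idx K)) h)
      rfl
    · rintro ⟨⟨g, hg⟩, hord⟩
      obtain ⟨t, u, v, rfl⟩ := (mem_pos_twisted hK g).1 hg
      have hpow := congrArg Subtype.val (pow_orderOf_eq_one (⟨_, hg⟩ : ↥(chevG2.posUnipotent K ⊓ Cfsg.Lie.twistedG2 K (3 ^ m))))
      rw [hord, SubgroupClass.coe_pow, OneMemClass.coe_one] at hpow
      obtain rfl := (reeU_cube_eq_one hK).1 hpow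
      refine ⟨⟨(u, v), fun h => ?_⟩, rfl⟩
      obtain ⟨rfl, rfl⟩ := Prod.mk.inj h
      rw [orderOf_eq_prime_iff] at hord
      exact hord.2 (Subtype.ext (reeU_zero m))
  rw [← Nat.card_congr (Equiv.ofBijective f hf), Nat.card_eq_fintype_card, Fintype.card_subtype_compl,
    Fintype.card_prod, hK, Fintype.card_subtype_eq]
  ring_nf

lemma q_shape : ∃ k, Fintype.card K = 4 * k + 3 := by
  have key : ∀ n, ∃ k, 3 ^ (2 * n + 1) = 4 * k + 3 := by
    intro n
    induction n with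
    | zero => exact ⟨0, rfl⟩
    | succ n ih =>
      obtain ⟨k, hk⟩ := ih
      exact ⟨9 * k + 6, by rw [show 2 * (n + 1) + 1 = 2 * n + 1 + 2 by ring, pow_add, hk]; ring⟩
  rw [hK]
  exact key m

theorem odd_order_count :
    2 * Nat.card {h : ↥(chevG2.diagonalSubgroup K ⊓ Cfsg.Lie.twistedG2 K (3 ^ m)) // Odd (orderOf h)}
      = 3 ^ (2 * m + 1) - 1 := by
  classical
  obtain ⟨k, hk⟩ := q_shape hK
  have hcard : Fintype.card Kˣ = 2 * (2 * k + 1) := by rw [Fintype.card_units, hk]; omega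
  have hiff : ∀ h : ↥(chevG2.diagonalSubgroup K ⊓ Cfsg.Lie.twistedG2 K (3 ^ m)),
      Odd (orderOf h) ↔ (hyEquiv hK).symm h ∈ (powMonoidHom (2 * k + 1) : Kˣ →* Kˣ).ker := by
    intro h
    obtain ⟨y, rfl⟩ := (hyEquiv hK).surjective h
    rw [MulEquiv.symm_apply_apply, MulEquiv.orderOf_eq, MonoidHom.mem_ker, powMonoidHom_apply,
      ← orderOf_dvd_iff_pow_eq_one]
    have hd : orderOf y ∣ 2 * (2 * k + 1) := hcard ▸ orderOf_dvd_card
    constructor
    · intro ho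
      exact (Nat.Coprime.dvd_mul_left (Nat.coprime_two_right.2 ho)).1 hd
    · intro hd'
      exact Odd.of_dvd_nat ⟨k, rfl⟩ hd'
  rw [Nat.card_congr ((hyEquiv hK).symm.toEquiv.subtypeEquiv (q := fun y => y ∈ (powMonoidHom (2 * k + 1) : Kˣ →* Kˣ).ker) hiff),
    show Nat.card {y : Kˣ // y ∈ (powMonoidHom (2 * k + 1) : Kˣ →* Kˣ).ker} = Nat.gcd (Nat.card Kˣ) (2 * k + 1) from
      IsCyclic.card_powMonoidHom_ker Kˣ _,
    Nat.card_eq_fintype_card, hcard, Nat.gcd_mul_left_left, ← hK, hk]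
  omega

theorem odd_centralizer (h : GL chevG2.Idx K)
    (hh' : h ∈ chevG2.diagonalSubgroup K ⊓ Cfsg.Lie.twistedG2 K (3 ^ m)) (hne : h ≠ 1) (ho : Odd (orderOf h)) :
    (chevG2.posUnipotent K ⊓ Cfsg.Lie.twistedG2 K (3 ^ m)) ⊓ Subgroup.centralizer {h} = ⊥ := by
  obtain ⟨y, rfl⟩ := (mem_diag_twisted hK h).1 hh'
  rw [Subgroup.eq_bot_iff_forall]
  rintro g ⟨hg, hc⟩
  obtain ⟨t, u, v, rfl⟩ := (mem_pos_twisted hK g).1 hg
  have hcomm := Subgroup.mem_centralizer_iff.1 hc (hy m y) rfl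
  rw [hy_reeU hK] at hcomm
  obtain ⟨hA, hB, hv⟩ := reeU_inj (mul_right_cancel hcomm)
  have hy0 : (y : K) ≠ 0 := y.ne_zero
  have hy1 : (y : K) ≠ 1 := fun e => hne (by rw [show y = 1 from Units.ext e, hy_one])
  have hym : (y : K) ≠ -1 := by
    intro e
    have hneg : y = -1 := Units.ext e
    have h2 : hy m y ^ 2 = 1 := by rw [pow_two, hy_mul, hneg, neg_one_mul, neg_neg, hy_one]
    have := orderOf_dvd_of_pow_eq_one h2
    rcases (Nat.dvd_prime Nat.prime_two).1 this with h1 | h1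
    · exact hne (orderOf_eq_one_iff.1 h1)
    · rw [h1] at ho; exact absurd ho (by decide)
  set x := (y : K) ^ 3 ^ m with hxdef
  have hx0 : x ≠ 0 := pow_ne_zero _ hy0
  have hx : (x ^ 3) ^ 3 ^ m = y := by
    rw [hxdef, ← pow_mul, ← pow_mul, show 3 ^ m * (3 * 3 ^ m) = 3 * (3 ^ m * 3 ^ m) by ring, pow_q hK]
  have ht : t = 0 := by
    by_contra ht
    have e : (y : K) ^ 2 = x ^ 3 := by
      have := (mul_left_eq_self₀.1 hA).resolve_right ht
      field_simp at this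
      linear_combination this
    have e2 : x ^ 2 = (y : K) := by
      have := congrArg (fun z => z ^ 3 ^ m) e
      simp only [hx] at this
      rwa [pow_right_comm, ← hxdef] at this
    have e3 : x = 1 := by
      have : x ^ 3 * x = x ^ 3 * 1 := by rw [mul_one]; linear_combination e + (x ^ 2 + y) * e2
      exact mul_left_cancel₀ (pow_ne_zero _ hx0) this
    exact hy1 (by rw [← e2, e3, one_pow])
  have hu : u = 0 := by
    by_contra hu
    have e : x ^ 3 = (y : K) := by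
      have := (mul_left_eq_self₀.1 hB).resolve_right hu
      field_simp at this
      linear_combination this
    have e2 : (y : K) = x := by
      have := congrArg (fun z => z ^ 3 ^ m) e
      simpa only [hx, ← hxdef] using this
    have e3 : x * x = 1 := by
      have : x * (x * x) = x * 1 := by rw [mul_one]; linear_combination e + e2
      exact mul_left_cancel₀ hx0 this
    rcases mul_self_eq_one_iff.1 e3 with h1 | h1
    · exact hy1 (e2.trans h1)
    · exact hym (e2.trans h1)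
  have hv0 : v = 0 := by
    by_contra hv0
    exact hy1 ((mul_left_eq_self₀.1 hv).resolve_right hv0)
  rw [ht, hu, hv0, reeU_zero]

end finite

end Cfsg.Agent.Lib.LieTwisted.Ree
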