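import Cfsg.Agent.Lib.LieTwisted.ReeU
import Cfsg.Agent.Lib.LieTwisted.IsogenyG2

/-!
The endomorphism `τ = (field map t ↦ t^θ) ∘ σ` of G2(K), `|K| = 3^(2m+1)`, its fixed points in the
Borel subgroup, and the elements of the small Ree group realised inside G2(K).
-/

set_option autoImplicit false
set_option linter.unusedSectionVars false

namespace Cfsg.Agent.Lib.LieTwisted.Ree

open Cfsg.Lie SparseRoot ChevStructure

variable {K : Type*} [Field K] [CharP K 3]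

instance instCharPG2 : CharP K Isogeny.dataG2.p := inferInstanceAs (CharP K 3)
instance instExpChar : ExpChar K 3 := ExpChar.prime Nat.prime_three
instance instExpCharG2 : ExpChar K Isogeny.dataG2.p := inferInstanceAs (ExpChar K 3)

/-- The root permutation. -/
def rhoF (r : Rt chevG2) : Rt chevG2 := ([2, 3, 0, 1, 5, 4, 7, 6, 10, 11, 8, 9] : List (Rt chevG2)).getD r.val 0

/-- The exponents. -/
def lamF (r : Rt chevG2) : ℕ := [1, 1, 3, 3, 3, 1, 1, 3, 3, 3, 1, 1].getD r.val 0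

theorem rho_eq : ∀ r : Rt chevG2, Isogeny.dataG2.r' r.val = (rhoF r).val ∧ Isogeny.dataG2.lm r.val = lamF r := by
  decide

theorem rho_rev : ∀ r : Rt chevG2, rhoF r.rev = (rhoF r).rev ∧ lamF r.rev = lamF r ∧ lamF r % 2 = 1 ∧
    ((rhoF r).val < 6 ↔ r.val < 6) := by
  decide

lemma xe_mem (r : Rt chevG2) (t : K) : xe r t ∈ chevG2.group K :=
  Isogeny.mem_group (r := r.val) r.isLt (xe_val r t)

lemma wordG_mem (w : List (Rt chevG2 × K)) : wordG w ∈ chevG2.group K := by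
  induction w with
  | nil => exact one_mem _
  | cons p w ih => rw [wordG_cons]; exact mul_mem (xe_mem _ _) ih

/-- The field map `t ↦ t^(3^m)`. -/
noncomputable def phi (m : ℕ) : K →+* K := iterateFrobenius K 3 m

lemma phi_apply (m : ℕ) (x : K) : phi m x = x ^ 3 ^ m := iterateFrobenius_def ..

lemma map_phi_xe (m : ℕ) (r : Rt chevG2) (t : K) :
    Matrix.GeneralLinearGroup.map (phi m) (xe r t) = xe r (t ^ 3 ^ m) := by
  rw [C2.X_map, phi_apply]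

lemma map_phi_mem (m : ℕ) {g : GL chevG2.Idx K} (hg : g ∈ chevG2.group K) :
    Matrix.GeneralLinearGroup.map (phi m) g ∈ chevG2.group K := by
  induction hg using Subgroup.closure_induction with
  | mem x hx =>
    obtain ⟨r, t, hx⟩ := hx
    have e : x = xe r t := Units.ext (by rw [hx, xe_val, ChevalleyDatum.x, dif_pos r.isLt])
    rw [e, map_phi_xe]
    exact xe_mem _ _
  | one => rw [map_one]; exact one_mem _
  | mul x y _ _ hx hy => rw [map_mul]; exact mul_mem hx hy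
  | inv x _ hx => rw [map_inv]; exact inv_mem hx

/-- The field map on the group. -/
noncomputable def frobMap (m : ℕ) : ↥(chevG2.group K) →* ↥(chevG2.group K) :=
  ((Matrix.GeneralLinearGroup.map (phi (K := K) m)).comp (chevG2.group K).subtype).codRestrict (chevG2.group K)
    (fun x => map_phi_mem m x.2)

/-- The twisting endomorphism. -/
noncomputable def tauG (m : ℕ) : ↥(chevG2.group K) →* ↥(chevG2.group K) :=
  (frobMap m).comp (Isogeny.sigma Isogeny.dataG2_good Isogeny.dataG2_disj)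

lemma tau_xe (m : ℕ) (r : Rt chevG2) (t : K) :
    (tauG m ⟨xe r t, xe_mem r t⟩ : GL chevG2.Idx K) = xe (rhoF r) (t ^ (lamF r * 3 ^ m)) := by
  obtain ⟨h1, h2⟩ := rho_eq r
  have hs : ((Isogeny.sigma Isogeny.dataG2_good Isogeny.dataG2_disj ⟨xe r t, xe_mem r t⟩ : ↥(chevG2.group K)) :
      GL chevG2.Idx K) = xe (rhoF r) (t ^ lamF r) := by
    apply Units.ext
    rw [Isogeny.sigma_root Isogeny.dataG2_good Isogeny.dataG2_disj ⟨xe r t, xe_mem r t⟩ (r := r.val) r.isLt (xe_val r t),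
      h1, h2, xe_val]
  show Matrix.GeneralLinearGroup.map (phi m)
    ((Isogeny.sigma Isogeny.dataG2_good Isogeny.dataG2_disj ⟨xe r t, xe_mem r t⟩ : ↥(chevG2.group K)) : GL chevG2.Idx K) = _
  rw [hs, map_phi_xe, ← pow_mul]

/-- The image of a letter under `τ`. -/
def tP (m : ℕ) (p : Rt chevG2 × K) : Rt chevG2 × K := (rhoF p.1, p.2 ^ (lamF p.1 * 3 ^ m))

/-- The image of a letter under `x_r(c) ↦ x_{-r}(-c)`. -/
def nP (p : Rt chevG2 × K) : Rt chevG2 × K := (p.1.rev, -p.2)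

lemma tau_word (m : ℕ) (w : List (Rt chevG2 × K)) :
    (tauG m ⟨wordG w, wordG_mem w⟩ : GL chevG2.Idx K) = wordG (w.map (tP m)) := by
  induction w with
  | nil =>
    have : (⟨wordG ([] : List (Rt chevG2 × K)), wordG_mem _⟩ : ↥(chevG2.group K)) = 1 := rfl
    rw [this, map_one]; rfl
  | cons p w ih =>
    have : (⟨wordG (p :: w), wordG_mem _⟩ : ↥(chevG2.group K)) = ⟨xe p.1 p.2, xe_mem _ _⟩ * ⟨wordG w, wordG_mem w⟩ :=
      Subtype.ext (wordG_cons p w)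
    rw [this, map_mul, Subgroup.coe_mul, ih, tau_xe, List.map_cons, wordG_cons]
    rfl

/-- The fixed points of `τ`. -/
noncomputable def fixT (m : ℕ) : Subgroup (GL chevG2.Idx K) :=
  ((tauG (K := K) m).eqLocus (MonoidHom.id _)).map (chevG2.group K).subtype

lemma mem_fixT {m : ℕ} {g : GL chevG2.Idx K} :
    g ∈ fixT m ↔ ∃ h : g ∈ chevG2.group K, (tauG m ⟨g, h⟩ : GL chevG2.Idx K) = g := by
  constructor
  · rintro ⟨x, hx, rfl⟩
    exact ⟨x.2, congrArg Subtype.val hx⟩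
  · rintro ⟨h, he⟩
    exact ⟨⟨g, h⟩, Subtype.ext he, rfl⟩

lemma fixT_le (m : ℕ) : fixT (K := K) m ≤ chevG2.group K := fun _ hg => (mem_fixT.1 hg).1

lemma word_mem_fixT {m : ℕ} {w : List (Rt chevG2 × K)} (h : wordG (w.map (tP m)) = wordG w) : wordG w ∈ fixT m :=
  mem_fixT.2 ⟨wordG_mem w, by rw [tau_word, h]⟩

/-! ### the element `n₀` -/

/-- The Weyl element. -/
noncomputable def n0 : GL chevG2.Idx K :=
  wordG [(8, 1), (10, 1), (3, -1), (1, -1), (8, 1), (10, 1)]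

lemma n0_eval (t u : K) : evalG n0W t u = n0 := by
  simp [evalG, n0W, n0]
  rfl

lemma n0_x (r : Rt chevG2) (c : K) : n0 * xe r c = xe r.rev (-c) * n0 := by
  have h := List.all_eq_true.1 n0_conj r.val (List.mem_range.2 r.isLt)
  have h2 := eq_of_sameWord h c (0 : K)
  have e1 : ∀ v : List (ℕ × (ℤ × ℕ × ℕ)), evalG (n0W ++ v) c (0 : K) = n0 * evalG v c 0 := by
    intro v
    rw [← n0_eval c (0 : K)]
    simp [evalG, wordG_append]
  have e2 : ∀ v : List (ℕ × (ℤ × ℕ × ℕ)), evalG (v ++ n0W) c (0 : K) = evalG v c 0 * n0 := by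
    intro v
    rw [← n0_eval c (0 : K)]
    simp [evalG, wordG_append]
  rw [e1, e2] at h2
  have e3 : (Fin.ofNat chevG2.nroots (chevG2.neg r.val) : Rt chevG2) = r.rev := by
    rw [C2.neg_val r]
    exact Fin.ext (by simp [Fin.val_ofNat, Nat.mod_eq_of_lt (show (r.rev : Rt chevG2).val < 12 from r.rev.isLt)])
  simp only [evalG, List.map_cons, List.map_nil, wordG_cons, wordG_nil, mul_one, e3] at h2
  simpa [Fin.ofNat, Nat.mod_eq_of_lt r.isLt] using h2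

lemma n0_mul_self : (n0 : GL chevG2.Idx K) * n0 = 1 := by
  have h2 := eq_of_sameWord n0_sq (1 : K) 0
  rwa [show evalG (n0W ++ n0W) (1 : K) 0 = n0 * n0 by rw [← n0_eval (1 : K) 0]; simp [evalG, wordG_append],
    show evalG ([] : List (ℕ × (ℤ × ℕ × ℕ))) (1 : K) 0 = 1 from rfl] at h2

lemma n0_inv : (n0 : GL chevG2.Idx K)⁻¹ = n0 := inv_eq_of_mul_eq_one_right n0_mul_self

lemma n0_word (w : List (Rt chevG2 × K)) : n0 * wordG w = wordG (w.map nP) * n0 := by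
  induction w with
  | nil => simp
  | cons p w ih => rw [wordG_cons, ← mul_assoc, n0_x, mul_assoc, ih, List.map_cons, wordG_cons, mul_assoc]; rfl

lemma n0_word_conj (w : List (Rt chevG2 × K)) : n0 * wordG w * n0 = wordG (w.map nP) := by
  rw [n0_word, mul_assoc, n0_mul_self, mul_one]

/-! ### torus -/

theorem pr7 : ∀ s : Rt chevG2, pr chevG2 (7 : Rt chevG2) s = [0, -3, -1, 1, -2, 3, -3, 2, -1, 1, 3, 0].getD s.val 0 := by
  decide +kernel

theorem pr6 : ∀ s : Rt chevG2, pr chevG2 (6 : Rt chevG2) s = [-1, 1, 0, -1, 1, -2, 2, -1, 1, 0, -1, 1].getD s.val 0 := by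
  decide +kernel

theorem pr_split : ∀ r s : Rt chevG2, pr chevG2 r s =
    co chevG2 r (0 : Fin chevG2.rank) * pr chevG2 (7 : Rt chevG2) s + co chevG2 r (1 : Fin chevG2.rank) * pr chevG2 (6 : Rt chevG2) s := by
  decide +kernel

lemma nroots_eq : chevG2.nroots = 12 := rfl

/-- `h_a(x) h_b(y)`. -/
noncomputable def hh (x y : Kˣ) : GL chevG2.Idx K :=
  Core.hD (D := chevG2) K (7 : Rt chevG2) x * Core.hD (D := chevG2) K (6 : Rt chevG2) y

lemma hh_eq_diag (x y : Kˣ) : hh x y =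
    Core.diag K (fun s : Rt chevG2 => x ^ pr chevG2 (7 : Rt chevG2) s * y ^ pr chevG2 (6 : Rt chevG2) s) :=
  C2.diag_mul K _ _

lemma hD_eq_hh (r : Rt chevG2) (c : Kˣ) :
    Core.hD (D := chevG2) K r c = hh (c ^ co chevG2 r (0 : Fin chevG2.rank)) (c ^ co chevG2 r (1 : Fin chevG2.rank)) := by
  rw [hh_eq_diag]
  unfold Core.hD
  congr 1
  funext s
  rw [pr_split r s, zpow_add, zpow_mul, zpow_mul]

lemma hh_mul (x y x' y' : Kˣ) : hh x y * hh x' y' = hh (x * x') (y * y') := by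
  rw [hh_eq_diag, hh_eq_diag, hh_eq_diag, C2.diag_mul]
  congr 1
  funext s
  simp only [Pi.mul_apply, mul_zpow]
  ac_rfl

lemma hh_one : hh (1 : Kˣ) 1 = 1 := by
  rw [hh_eq_diag, ← C2.diag_one K]
  congr 1
  funext s
  simp

lemma hh_inv (x y : Kˣ) : (hh x y)⁻¹ = hh x⁻¹ y⁻¹ :=
  inv_eq_of_mul_eq_one_right (by rw [hh_mul, mul_inv_cancel, mul_inv_cancel, hh_one])

lemma hh_x (x y : Kˣ) (s : Rt chevG2) (t : K) :
    hh x y * xe s t = xe s (((x ^ pr chevG2 (7 : Rt chevG2) s * y ^ pr chevG2 (6 : Rt chevG2) s : Kˣ) : K) * t) * hh x y := by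
  rw [hh, mul_assoc, C2.hD_X, ← mul_assoc, C2.hD_X, mul_assoc]
  simp [mul_assoc]

lemma hh_inj {x y x' y' : Kˣ} (h : hh x y = hh x' y') : x = x' ∧ y = y' := by
  rw [hh_eq_diag, hh_eq_diag] at h
  have h1 := congrFun (C2.diag_inj K h) (9 : Rt chevG2)
  have h2 := congrFun (C2.diag_inj K h) (11 : Rt chevG2)
  simp [pr7, pr6, nroots_eq] at h1 h2
  exact ⟨h1, h2⟩

lemma hh_mem_group (x y : Kˣ) : hh x y ∈ chevG2.group K := by
  have h : ∀ (r : Rt chevG2) (c : Kˣ), Core.hD (D := chevG2) K r c ∈ chevG2.group K := by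
    intro r c
    rw [← C2.hR_eq]
    unfold Core.nR
    exact mul_mem (mul_mem (mul_mem (xe_mem _ _) (xe_mem _ _)) (xe_mem _ _))
      (mul_mem (mul_mem (xe_mem _ _) (xe_mem _ _)) (xe_mem _ _))
  exact mul_mem (h _ _) (h _ _)

lemma tau_hD (m : ℕ) (r : Rt chevG2) (c : Kˣ) (h : Core.hD (D := chevG2) K r c ∈ chevG2.group K) :
    (tauG m ⟨_, h⟩ : GL chevG2.Idx K) = Core.hD (D := chevG2) K (rhoF r) (c ^ (lamF r * 3 ^ m)) := by
  obtain ⟨h1, h2, h3, -⟩ := rho_rev r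
  have hodd : Odd (lamF r * 3 ^ m) := (Nat.odd_iff.2 h3).mul ((by decide : Odd 3).pow)
  have hn : ∀ u : Kˣ, C2.nR K r u = wordG [(r, (u : K)), (r.rev, -((u⁻¹ : Kˣ) : K)), (r, (u : K))] := by
    intro u
    simp [Core.nR, mul_assoc]
  have hn' : ∀ u : Kˣ, C2.nR K (rhoF r) u =
      wordG [(rhoF r, (u : K)), ((rhoF r).rev, -((u⁻¹ : Kˣ) : K)), (rhoF r, (u : K))] := by
    intro u
    simp [Core.nR, mul_assoc]
  have heq : (⟨_, h⟩ : ↥(chevG2.group K)) = ⟨_, wordG_mem [(r, (c : K)), (r.rev, -((c⁻¹ : Kˣ) : K)), (r, (c : K))]⟩ *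
      ⟨_, wordG_mem [(r, ((-1 : Kˣ) : K)), (r.rev, -(((-1 : Kˣ)⁻¹ : Kˣ) : K)), (r, ((-1 : Kˣ) : K))]⟩ :=
    Subtype.ext (by rw [Subgroup.coe_mul]; exact ((C2.hR_eq (R := K) r c).symm.trans (by rw [hn, hn])))
  rw [heq, map_mul, Subgroup.coe_mul, tau_word, tau_word, ← C2.hR_eq, hn', hn']
  simp [tP, h1, h2, hodd.neg_pow, inv_pow]

lemma tau_hh (m : ℕ) (x y : Kˣ) :
    (tauG m ⟨hh x y, hh_mem_group x y⟩ : GL chevG2.Idx K) = hh (y ^ 3 ^ m) (x ^ (3 * 3 ^ m)) := by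
  have m7 : Core.hD (D := chevG2) K (7 : Rt chevG2) x ∈ chevG2.group K := by
    have := hh_mem_group (K := K) x 1
    rwa [hh, show Core.hD (D := chevG2) K (6 : Rt chevG2) (1 : Kˣ) = 1 by
      rw [Core.hD, ← C2.diag_one K]; congr 1; funext s; simp, mul_one] at this
  have m6 : Core.hD (D := chevG2) K (6 : Rt chevG2) y ∈ chevG2.group K := by
    have := mul_mem (inv_mem m7) (hh_mem_group (K := K) x y)
    rwa [hh, inv_mul_cancel_left] at this
  have : (⟨hh x y, hh_mem_group x y⟩ : ↥(chevG2.group K)) = ⟨_, m7⟩ * ⟨_, m6⟩ := rfl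
  rw [this, map_mul, Subgroup.coe_mul, tau_hD, tau_hD]
  simp only [show rhoF 7 = 6 from rfl, show rhoF 6 = 7 from rfl, show lamF 7 = 3 from rfl, show lamF 6 = 1 from rfl, one_mul]
  rw [hh, Core.hD, Core.hD, C2.diag_mul, C2.diag_mul, mul_comm]

lemma n0_hh (x y : Kˣ) : n0 * hh x y * n0 = hh x⁻¹ y⁻¹ := by
  have hD' : ∀ (r : Rt chevG2) (c : Kˣ),
      n0 * Core.hD (D := chevG2) K r c * n0 = Core.hD (D := chevG2) K r c⁻¹ := by
    intro r c
    have hn : ∀ u : Kˣ, n0 * C2.nR K r u * n0 = wordG [(r.rev, -(u : K)), (r, ((u⁻¹ : Kˣ) : K)), (r.rev, -(u : K))] := by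
      intro u
      rw [show C2.nR K r u = wordG [(r, (u : K)), (r.rev, -((u⁻¹ : Kˣ) : K)), (r, (u : K))] by
        simp [Core.nR, mul_assoc], n0_word_conj]
      simp [nP]
    have hn2 : ∀ u : Kˣ, n0 * C2.nR K r u * n0 = C2.nR K r.rev (-u⁻¹⁻¹) := by
      intro u
      rw [hn]
      simp [Core.nR, mul_assoc]
    rw [← C2.hR_eq, show n0 * (C2.nR K r c * C2.nR K r (-1)) * n0 =
        (n0 * C2.nR K r c * n0) * (n0 * C2.nR K r (-1) * n0) by
      simp only [mul_assoc]; rw [← mul_assoc n0 n0, n0_mul_self, one_mul], hn2, hn2, C2.nR_mul]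
    simp only [Core.hD]
    congr 1
    funext s
    rw [C2.pr_rev]
    simp
  rw [hh, show n0 * (Core.hD (D := chevG2) K (7 : Rt chevG2) x * Core.hD (D := chevG2) K (6 : Rt chevG2) y) * n0 =
      (n0 * Core.hD (D := chevG2) K (7 : Rt chevG2) x * n0) * (n0 * Core.hD (D := chevG2) K (6 : Rt chevG2) y * n0) by
    simp only [mul_assoc]; rw [← mul_assoc n0 n0, n0_mul_self, one_mul], hD', hD']
  rfl

lemma hh_ordP (x y : Kˣ) (a b c d f g : K) :
    hh x y * ordP a b c d f g =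
      ordP (((x ^ pr chevG2 (7 : Rt chevG2) 7 * y ^ pr chevG2 (6 : Rt chevG2) 7 : Kˣ) : K) * a)
        (((x ^ pr chevG2 (7 : Rt chevG2) 6 * y ^ pr chevG2 (6 : Rt chevG2) 6 : Kˣ) : K) * b)
        (((x ^ pr chevG2 (7 : Rt chevG2) 8 * y ^ pr chevG2 (6 : Rt chevG2) 8 : Kˣ) : K) * c)
        (((x ^ pr chevG2 (7 : Rt chevG2) 9 * y ^ pr chevG2 (6 : Rt chevG2) 9 : Kˣ) : K) * d)
        (((x ^ pr chevG2 (7 : Rt chevG2) 10 * y ^ pr chevG2 (6 : Rt chevG2) 10 : Kˣ) : K) * f)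
        (((x ^ pr chevG2 (7 : Rt chevG2) 11 * y ^ pr chevG2 (6 : Rt chevG2) 11 : Kˣ) : K) * g) * hh x y := by
  simp only [ordP, mul_assoc]
  rw [← mul_assoc (hh x y), hh_x, mul_assoc, ← mul_assoc (hh x y), hh_x, mul_assoc, ← mul_assoc (hh x y), hh_x,
    mul_assoc, ← mul_assoc (hh x y), hh_x, mul_assoc, ← mul_assoc (hh x y), hh_x, mul_assoc, hh_x]

/-- Every element of the diagonal subgroup is `h_a(x) h_b(y)`. -/
theorem mem_diag_iff (g : GL chevG2.Idx K) : g ∈ chevG2.diagonalSubgroup K ↔ ∃ x y : Kˣ, g = hh x y := by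
  constructor
  · intro hg
    induction hg using Subgroup.closure_induction with
    | mem z hz =>
      obtain ⟨r, t, hr, ht, hz⟩ := hz
      have : z = Core.hD (D := chevG2) K (⟨r, hr⟩ : Rt chevG2) (Units.mk0 t ht) := by
        apply Units.ext
        rw [hz, ← C2.hMat_eq]
        rfl
      exact ⟨_, _, this.trans (hD_eq_hh _ _)⟩
    | one => exact ⟨1, 1, hh_one.symm⟩
    | mul a b _ _ ha hb =>
      obtain ⟨x, y, rfl⟩ := ha
      obtain ⟨x', y', rfl⟩ := hb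
      exact ⟨_, _, hh_mul x y x' y'⟩
    | inv a _ ha =>
      obtain ⟨x, y, rfl⟩ := ha
      exact ⟨_, _, hh_inv x y⟩
  · rintro ⟨x, y, rfl⟩
    refine mul_mem (Subgroup.subset_closure ⟨7, (x : K), by decide, x.ne_zero, ?_⟩)
      (Subgroup.subset_closure ⟨6, (y : K), by decide, y.ne_zero, ?_⟩)
    · exact (C2.hMat_eq (7 : Rt chevG2) x).symm
    · exact (C2.hMat_eq (6 : Rt chevG2) y).symm

lemma ordP_mem_pos (a b c d f g : K) : ordP a b c d f g ∈ chevG2.posUnipotent K :=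
  (mem_pos_iff _).2 ⟨a, b, c, d, f, g, rfl⟩

/-- Every element of the Borel subgroup is a product `u h`. -/
theorem mem_borel_iff (z : GL chevG2.Idx K) :
    z ∈ chevG2.borelSubgroup K ↔ ∃ a b c d f g, ∃ x y : Kˣ, z = ordP a b c d f g * hh x y := by
  constructor
  · intro hz
    rw [ChevalleyDatum.borelSubgroup, ← SetLike.mem_coe] at hz
    have hnorm : ∀ h ∈ chevG2.diagonalSubgroup K, h ∈ Subgroup.normalizer (chevG2.posUnipotent K : Set (GL chevG2.Idx K)) := by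
      intro h hh'
      obtain ⟨x, y, rfl⟩ := (mem_diag_iff h).1 hh'
      have key : ∀ (x y : Kˣ) (u : GL chevG2.Idx K), u ∈ chevG2.posUnipotent K →
          hh x y * u * (hh x y)⁻¹ ∈ chevG2.posUnipotent K := by
        intro x y u hu
        obtain ⟨a, b, c, d, f, g, rfl⟩ := (mem_pos_iff u).1 hu
        rw [hh_ordP, mul_inv_cancel_right]
        exact ordP_mem_pos _ _ _ _ _ _
      rw [Subgroup.mem_normalizer_iff]
      intro u
      refine ⟨key x y u, fun hu => ?_⟩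
      have := key x⁻¹ y⁻¹ _ hu
      rwa [← hh_inv, inv_inv, show (hh x y)⁻¹ * (hh x y * u * (hh x y)⁻¹) * hh x y = u by group] at this
    rw [Subgroup.coe_mul_of_right_le_normalizer_left _ _ hnorm] at hz
    obtain ⟨u, hu, h, hh', rfl⟩ := hz
    obtain ⟨a, b, c, d, f, g, rfl⟩ := (mem_pos_iff u).1 hu
    obtain ⟨x, y, rfl⟩ := (mem_diag_iff h).1 hh'
    exact ⟨a, b, c, d, f, g, x, y, rfl⟩
  · rintro ⟨a, b, c, d, f, g, x, y, rfl⟩
    exact mul_mem (Subgroup.mem_sup_left (ordP_mem_pos a b c d f g))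
      (Subgroup.mem_sup_right ((mem_diag_iff _).2 ⟨x, y, rfl⟩))

lemma ordP_eq_hh {a b c d f g : K} {x y : Kˣ} (h : ordP a b c d f g = hh x y) :
    ordP a b c d f g = 1 ∧ x = 1 ∧ y = 1 := by
  have h8 := hh_x x y (8 : Rt chevG2) (1 : K)
  have h7 := hh_x x y (7 : Rt chevG2) (1 : K)
  set χ8 := ((x ^ pr chevG2 (7 : Rt chevG2) 8 * y ^ pr chevG2 (6 : Rt chevG2) 8 : Kˣ) : K) with hχ8
  set χ7 := ((x ^ pr chevG2 (7 : Rt chevG2) 7 * y ^ pr chevG2 (6 : Rt chevG2) 7 : Kˣ) : K) with hχ7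
  rw [mul_one] at h8 h7
  rw [← h] at h8 h7
  have h10 := hh_x x y (10 : Rt chevG2) (1 : K)
  set χ10 := ((x ^ pr chevG2 (7 : Rt chevG2) 10 * y ^ pr chevG2 (6 : Rt chevG2) 10 : Kˣ) : K) with hχ10
  rw [mul_one, ← h] at h10
  have q : ∀ s : K, xe 8 s = ordQ s 0 0 0 ∧ xe 10 s = ordQ 0 0 s 0 := fun s => by simp [ordQ, xe_zero]
  have r8 : ordP a b c d f g * xe 8 1 = ordP a b (c + 1) d f g := by
    rw [(q 1).1, ordP_eq, mul_assoc, mul_assoc, ordQ_mul]; simp [ordP_eq]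
  have r10 : ordP a b c d f g * xe 10 1 = ordP a b c d (f + 1) g := by
    rw [(q 1).2, ordP_eq, mul_assoc, mul_assoc, ordQ_mul]; simp [ordP_eq]
  rw [r8, (q χ8).1, mulQ] at h8
  rw [r10, (q χ10).2, mulQ] at h10
  obtain ⟨-, -, e1, e2, -, -⟩ := ordP_inj h8
  obtain ⟨-, -, -, -, e3, e4⟩ := ordP_inj h10
  have c8 : χ8 = 1 := by linear_combination -e1
  have c10 : χ10 = 1 := by linear_combination -e3
  have ha : a = 0 := by rw [c8] at e2; linear_combination e2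
  have hb : b = 0 := by rw [c10] at e4; linear_combination e4
  subst ha hb
  rw [ordP_eq, xe_zero, xe_zero, one_mul, one_mul, ordQ_x7] at h7
  have e5 : xe 7 χ7 * ordQ c d f g = ordP χ7 0 c d f g := by rw [ordP_eq, xe_zero, one_mul]
  have e6 : xe 7 (1 : K) * ordQ c (d + -(c * 1)) f g = ordP 1 0 c (d + -(c * 1)) f g := by rw [ordP_eq, xe_zero, one_mul]
  rw [e5, e6] at h7
  obtain ⟨c7, -, -, -, -, -⟩ := ordP_inj h7
  have u8 : x ^ pr chevG2 (7 : Rt chevG2) 8 * y ^ pr chevG2 (6 : Rt chevG2) 8 = 1 := Units.ext c8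
  have u7 : x ^ pr chevG2 (7 : Rt chevG2) 7 * y ^ pr chevG2 (6 : Rt chevG2) 7 = 1 := Units.ext c7.symm
  have hxy : y = x := by
    have : x⁻¹ * y = 1 := by simpa [pr7, pr6, nroots_eq] using u8
    exact (inv_mul_eq_one.1 this).symm
  subst hxy
  have hy : y = 1 := by
    simpa [pr7, pr6, sq, nroots_eq] using u7
  subst hy
  exact ⟨by rw [h, hh_one], rfl, rfl⟩

lemma borel_coords_inj {a b c d f g a' b' c' d' f' g' : K} {x y x' y' : Kˣ}
    (h : ordP a b c d f g * hh x y = ordP a' b' c' d' f' g' * hh x' y') :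
    (a = a' ∧ b = b' ∧ c = c' ∧ d = d' ∧ f = f' ∧ g = g') ∧ x = x' ∧ y = y' := by
  have h1 : (ordP a' b' c' d' f' g')⁻¹ * ordP a b c d f g = hh (x' * x⁻¹) (y' * y⁻¹) := by
    rw [← hh_mul, ← hh_inv, ← mul_inv_eq_iff_eq_mul.2 h.symm]
    group
  obtain ⟨a'', b'', c'', d'', f'', g'', e⟩ := (mem_pos_iff _).1
    (mul_mem (inv_mem (ordP_mem_pos a' b' c' d' f' g')) (ordP_mem_pos a b c d f g))
  rw [e] at h1
  obtain ⟨e1, hx, hy⟩ := ordP_eq_hh h1
  rw [e1] at e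
  exact ⟨ordP_inj (inv_mul_eq_one.1 e).symm, (mul_inv_eq_one.1 hx).symm, (mul_inv_eq_one.1 hy).symm⟩

/-! ### the elements of the small Ree group -/

/-- The `τ`-fixed element of `U` with parameters `t, u, v`. -/
noncomputable def reeU (m : ℕ) (t u v : K) : GL chevG2.Idx K :=
  ordP (t ^ 3 ^ m) t (t ^ (3 ^ m + 1) + u ^ 3 ^ m) (t ^ (2 * 3 ^ m + 1) + v ^ 3 ^ m) u v

/-- Its opposite. -/
noncomputable def reeV (m : ℕ) (t u v : K) : GL chevG2.Idx K := n0 * reeU m t u v * n0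

lemma reeU_val (m : ℕ) (t u v : K) : ((reeU m t u v : GL chevG2.Idx K) : Matrix chevG2.Idx chevG2.Idx K) =
    chevG2.wordMat K (reeWordU (3 ^ m) t u v) := by
  have : reeU m t u v = wordG [(7, t ^ 3 ^ m), (6, t), (8, t ^ (3 ^ m + 1) + u ^ 3 ^ m),
      (9, t ^ (2 * 3 ^ m + 1) + v ^ 3 ^ m), (10, u), (11, v)] := by simp [reeU, ordP]
  rw [this, wordG_val]
  rfl

lemma reeV_val (m : ℕ) (t u v : K) : ((reeV m t u v : GL chevG2.Idx K) : Matrix chevG2.Idx chevG2.Idx K) =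
    chevG2.wordMat K (reeWordV (3 ^ m) t u v) := by
  have : reeV m t u v = wordG ([(7, t ^ 3 ^ m), (6, t), (8, t ^ (3 ^ m + 1) + u ^ 3 ^ m),
      (9, t ^ (2 * 3 ^ m + 1) + v ^ 3 ^ m), (10, u), (11, v)].map nP) := by
    rw [← n0_word_conj]
    simp [reeV, reeU, ordP]
  rw [this, wordG_val]
  rfl

lemma twisted_eq_closure (m : ℕ) : Cfsg.Lie.twistedG2 K (3 ^ m) =
    Subgroup.closure {g | ∃ t u v : K, g = reeU m t u v ∨ g = reeV m t u v} := by
  rw [twistedG2, ChevalleyDatum.genSubgroup]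
  congr 1
  ext g
  constructor
  · rintro ⟨w, ⟨t, u, v, rfl | rfl⟩, hw⟩
    · exact ⟨t, u, v, Or.inl (Units.ext (hw.trans (reeU_val m t u v).symm))⟩
    · exact ⟨t, u, v, Or.inr (Units.ext (hw.trans (reeV_val m t u v).symm))⟩
  · rintro ⟨t, u, v, rfl | rfl⟩
    · exact ⟨_, ⟨t, u, v, Or.inl rfl⟩, reeU_val m t u v⟩
    · exact ⟨_, ⟨t, u, v, Or.inr rfl⟩, reeV_val m t u v⟩

lemma reeU_mem (m : ℕ) (t u v : K) : reeU m t u v ∈ Cfsg.Lie.twistedG2 K (3 ^ m) := by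
  rw [twisted_eq_closure]; exact Subgroup.subset_closure ⟨t, u, v, Or.inl rfl⟩

lemma reeV_mem (m : ℕ) (t u v : K) : reeV m t u v ∈ Cfsg.Lie.twistedG2 K (3 ^ m) := by
  rw [twisted_eq_closure]; exact Subgroup.subset_closure ⟨t, u, v, Or.inr rfl⟩

lemma n0_mem (m : ℕ) : (n0 : GL chevG2.Idx K) ∈ Cfsg.Lie.twistedG2 K (3 ^ m) := by
  have he : (3 : ℕ) ^ m ≠ 0 := by positivity
  have hu : reeU m (0 : K) 1 0 = wordG [(8, (1 : K)), (10, 1)] := by
    simp [reeU, ordP, xe_zero, zero_pow he]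
  have hv : reeV m (0 : K) 1 0 = wordG [(3, (-1 : K)), (1, -1)] := by
    rw [reeV, hu, n0_word_conj]
    simp [nP, show (Fin.rev (8 : Rt chevG2)) = 3 from rfl, show (Fin.rev (10 : Rt chevG2)) = 1 from rfl]
  have : (n0 : GL chevG2.Idx K) = reeU m 0 1 0 * reeV m 0 1 0 * reeU m 0 1 0 := by
    rw [hu, hv, ← wordG_append, ← wordG_append]; rfl
  rw [this]
  exact mul_mem (mul_mem (reeU_mem m 0 1 0) (reeV_mem m 0 1 0)) (reeU_mem m 0 1 0)

lemma negOne_mem (m : ℕ) : hh (-1 : Kˣ) (-1) ∈ Cfsg.Lie.twistedG2 K (3 ^ m) := by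
  have he : (3 : ℕ) ^ m ≠ 0 := by positivity
  have hodd : Odd ((3 : ℕ) ^ m) := (by decide : Odd 3).pow
  have h3 : (1 : K) + 1 = -1 := by
    have : (3 : K) = 0 := CharP.cast_eq_zero K 3
    linear_combination this
  have hu1 : reeU m (0 : K) 1 1 = wordG [(8, (1 : K)), (9, 1), (10, 1), (11, 1)] := by
    simp [reeU, ordP, xe_zero, zero_pow he]
  have hu2 : reeU m (0 : K) (-1) 1 = wordG [(8, (-1 : K)), (9, 1), (10, -1), (11, 1)] := by
    simp [reeU, ordP, xe_zero, zero_pow he, hodd.neg_one_pow]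
  have hv : reeV m (-1 : K) 1 1 = wordG [(4, (1 : K)), (5, 1), (3, 1), (1, -1), (0, -1)] := by
    have hU : reeU m (-1 : K) 1 1 = wordG [(7, (-1 : K)), (6, -1), (8, -1), (9, 0), (10, 1), (11, 1)] := by
      have e1 : (-1 : K) ^ (2 * 3 ^ m + 1) = -1 := (show Odd (2 * 3 ^ m + 1) from ⟨_, rfl⟩).neg_one_pow
      have e2 : (-1 : K) ^ (3 ^ m + 1) = 1 := (hodd.add_odd odd_one).neg_one_pow
      simp [reeU, ordP, hodd.neg_one_pow, e1, e2, h3]
    rw [reeV, hU, n0_word_conj]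
    simp [nP, xe_zero, show (Fin.rev (7 : Rt chevG2)) = 4 from rfl, show (Fin.rev (6 : Rt chevG2)) = 5 from rfl,
      show (Fin.rev (8 : Rt chevG2)) = 3 from rfl, show (Fin.rev (10 : Rt chevG2)) = 1 from rfl,
      show (Fin.rev (11 : Rt chevG2)) = 0 from rfl]
    exact xe_zero _
  have hn1 : evalG n1W (1 : K) 1 = reeU m 0 1 1 * reeV m (-1) 1 1 * reeU m 0 (-1) 1 := by
    rw [hu1, hu2, hv, ← wordG_append, ← wordG_append]
    simp [evalG, n1W]
    rfl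
  have hrhs : evalG (hNegW 7 4 ++ hNegW 6 5) (1 : K) 1 = hh (-1) (-1) := by
    rw [hh, ← C2.hR_eq, ← C2.hR_eq]
    simp [evalG, hNegW, Core.nR, ofNat_eq, mul_assoc, show (Fin.rev (7 : Rt chevG2)) = 4 from rfl,
      show (Fin.rev (6 : Rt chevG2)) = 5 from rfl]
  have h := eq_of_sameWord n1_n0 (1 : K) 1
  rw [hrhs, show evalG (n1W ++ n0W) (1 : K) 1 = evalG n1W 1 1 * n0 by
    rw [← n0_eval (1 : K) 1]; simp [evalG, wordG_append], hn1] at h
  rw [← h]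
  exact mul_mem (mul_mem (mul_mem (reeU_mem m _ _ _) (reeV_mem m _ _ _)) (reeU_mem m _ _ _)) (n0_mem m)

/-- The element of `H¹` with parameter `y`. -/
noncomputable def hy (m : ℕ) (y : Kˣ) : GL chevG2.Idx K := hh (y ^ 3 ^ m) y

lemma hy_mul (m : ℕ) (y z : Kˣ) : hy m y * hy m z = hy m (y * z) := by rw [hy, hy, hy, hh_mul, mul_pow]

lemma hy_one (m : ℕ) : hy m (1 : Kˣ) = 1 := by rw [hy, one_pow, hh_one]

lemma hy_inv (m : ℕ) (y : Kˣ) : (hy m y)⁻¹ = hy m y⁻¹ := by rw [hy, hy, hh_inv, inv_pow]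

lemma n0_hy (m : ℕ) (y : Kˣ) : n0 * hy m y * n0 = hy m y⁻¹ := by rw [hy, hy, n0_hh, inv_pow]

lemma hy_inj {m : ℕ} {y z : Kˣ} (h : hy m y = hy m z) : y = z := (hh_inj h).2

section finite

variable [Fintype K] {m : ℕ} (hK : Fintype.card K = 3 ^ (2 * m + 1))

include hK

lemma pow_q (x : K) : x ^ (3 * (3 ^ m * 3 ^ m)) = x := by
  have := FiniteField.pow_card x
  rwa [hK, show 3 ^ (2 * m + 1) = 3 * (3 ^ m * 3 ^ m) by ring] at this

lemma tau_sum (a : ℕ) (t u : K) :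
    (t ^ a + u ^ 3 ^ m) ^ (3 * 3 ^ m) = t ^ (a * (3 * 3 ^ m)) + u := by
  rw [show 3 * 3 ^ m = 3 ^ (m + 1) by ring, add_pow_char_pow, ← pow_mul, ← pow_mul,
    show 3 ^ m * 3 ^ (m + 1) = 3 * (3 ^ m * 3 ^ m) by ring, pow_q hK]

lemma tau_ordP (a b c d f g : K) :
    (tauG m ⟨ordP a b c d f g, by
      simpa [ordP] using wordG_mem [(7, a), (6, b), (8, c), (9, d), (10, f), (11, g)]⟩ : GL chevG2.Idx K) =
    ordP (b ^ 3 ^ m) (a ^ (3 * 3 ^ m)) (b ^ 3 ^ m * a ^ (3 * 3 ^ m) + f ^ 3 ^ m)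
      ((b ^ 3 ^ m) ^ 2 * a ^ (3 * 3 ^ m) + g ^ 3 ^ m)
      (-((b ^ 3 ^ m) ^ 3 * a ^ (3 * 3 ^ m)) + c ^ (3 * 3 ^ m))
      (-((b ^ 3 ^ m) ^ 3 * (a ^ (3 * 3 ^ m)) ^ 2) + d ^ (3 * 3 ^ m)) := by
  have he : (⟨ordP a b c d f g, by
      simpa [ordP] using wordG_mem [(7, a), (6, b), (8, c), (9, d), (10, f), (11, g)]⟩ : ↥(chevG2.group K)) =
      ⟨_, wordG_mem [(7, a), (6, b), (8, c), (9, d), (10, f), (11, g)]⟩ := Subtype.ext (by simp [ordP])
  rw [he, tau_word]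
  simp only [List.map_cons, List.map_nil, tP, wordG_cons, wordG_nil, mul_one,
    show rhoF 7 = 6 from rfl, show rhoF 6 = 7 from rfl, show rhoF 8 = 10 from rfl, show rhoF 9 = 11 from rfl,
    show rhoF 10 = 8 from rfl, show rhoF 11 = 9 from rfl, show lamF 7 = 3 from rfl, show lamF 6 = 1 from rfl,
    show lamF 8 = 3 from rfl, show lamF 9 = 3 from rfl, show lamF 10 = 1 from rfl, show lamF 11 = 1 from rfl, one_mul]
  set A := a ^ (3 * 3 ^ m)
  set B := b ^ 3 ^ m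
  have q1 : xe 10 (c ^ (3 * 3 ^ m)) * (xe 11 (d ^ (3 * 3 ^ m)) * (xe 8 (f ^ 3 ^ m) * xe 9 (g ^ 3 ^ m))) =
      ordQ (f ^ 3 ^ m) (g ^ 3 ^ m) (c ^ (3 * 3 ^ m)) (d ^ (3 * 3 ^ m)) := by
    rw [show xe 10 (c ^ (3 * 3 ^ m)) = ordQ 0 0 (c ^ (3 * 3 ^ m)) 0 by simp [ordQ, xe_zero],
      show xe 11 (d ^ (3 * 3 ^ m)) = ordQ 0 0 0 (d ^ (3 * 3 ^ m)) by simp [ordQ, xe_zero],
      show xe 8 (f ^ 3 ^ m) = ordQ (f ^ 3 ^ m) 0 0 0 by simp [ordQ, xe_zero],
      show xe 9 (g ^ 3 ^ m) = ordQ 0 (g ^ 3 ^ m) 0 0 by simp [ordQ, xe_zero], ordQ_mul, ordQ_mul, ordQ_mul]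
    simp
  rw [q1, show xe 7 B * ordQ (f ^ 3 ^ m) (g ^ 3 ^ m) (c ^ (3 * 3 ^ m)) (d ^ (3 * 3 ^ m)) =
      ordP B 0 (f ^ 3 ^ m) (g ^ 3 ^ m) (c ^ (3 * 3 ^ m)) (d ^ (3 * 3 ^ m)) by rw [ordP_eq, xe_zero, one_mul],
    mul6]
  simp

lemma reeU_fix (t u v : K) : reeU m t u v ∈ fixT m := by
  refine mem_fixT.2 ⟨by simpa [reeU, ordP] using wordG_mem [(7, t ^ 3 ^ m), (6, t),
    (8, t ^ (3 ^ m + 1) + u ^ 3 ^ m), (9, t ^ (2 * 3 ^ m + 1) + v ^ 3 ^ m), (10, u), (11, v)], ?_⟩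
  simp only [reeU]
  rw [tau_ordP hK]
  have ht : (t ^ 3 ^ m) ^ (3 * 3 ^ m) = t := by
    rw [← pow_mul, show 3 ^ m * (3 * 3 ^ m) = 3 * (3 ^ m * 3 ^ m) by ring, pow_q hK]
  rw [ht, tau_sum hK, tau_sum hK]
  have e1 : t ^ ((3 ^ m + 1) * (3 * 3 ^ m)) = (t ^ 3 ^ m) ^ 3 * t := by
    rw [show (3 ^ m + 1) * (3 * 3 ^ m) = 3 * (3 ^ m * 3 ^ m) + 3 ^ m * 3 by ring, pow_add, pow_q hK, ← pow_mul]
    ring
  have e2 : t ^ ((2 * 3 ^ m + 1) * (3 * 3 ^ m)) = (t ^ 3 ^ m) ^ 3 * t ^ 2 := by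
    rw [show (2 * 3 ^ m + 1) * (3 * 3 ^ m) = 3 * (3 ^ m * 3 ^ m) * 2 + 3 ^ m * 3 by ring, pow_add, pow_mul, pow_q hK,
      ← pow_mul]
    ring
  rw [e1, e2]
  congr 1 <;> ring

lemma hy_fix (y : Kˣ) : hy m y ∈ fixT m := by
  refine mem_fixT.2 ⟨hh_mem_group _ _, ?_⟩
  show (tauG m ⟨hh _ y, hh_mem_group _ _⟩ : GL chevG2.Idx K) = _
  rw [tau_hh]
  congr 1
  apply Units.ext
  push_cast
  rw [← pow_mul, show 3 ^ m * (3 * 3 ^ m) = 3 * (3 ^ m * 3 ^ m) by ring, pow_q hK]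

lemma n0_fix : (n0 : GL chevG2.Idx K) ∈ fixT m := by
  refine word_mem_fixT (m := m) ?_
  have h8 : (-1 : K) ^ (3 * 3 ^ m) = -1 := ((by decide : Odd 3).mul ((by decide : Odd 3).pow)).neg_one_pow
  have h10 : (-1 : K) ^ 3 ^ m = -1 := ((by decide : Odd 3).pow).neg_one_pow
  simp only [List.map_cons, List.map_nil, tP, wordG_cons, wordG_nil, mul_one,
    show rhoF 8 = 10 from rfl, show rhoF 10 = 8 from rfl, show rhoF 3 = 1 from rfl, show rhoF 1 = 3 from rfl,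
    show lamF 8 = 3 from rfl, show lamF 10 = 1 from rfl, show lamF 3 = 3 from rfl, show lamF 1 = 1 from rfl,
    one_mul, one_pow, h8, h10]
  have a : xe 10 (1 : K) * xe 8 1 = xe 8 1 * xe 10 1 := x108 1 1
  have b : xe 1 (-1 : K) * xe 3 (-1) = xe 3 (-1) * xe 1 (-1) := by
    have h := congrArg (fun g => n0 * g * n0) a
    simp only [show ∀ r s : Rt chevG2, n0 * (xe r (1 : K) * xe s 1) * n0 = xe r.rev (-1) * xe s.rev (-1) from
      fun r s => by simpa [nP] using n0_word_conj [(r, (1 : K)), (s, 1)],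
      show (Fin.rev (8 : Rt chevG2)) = 3 from rfl, show (Fin.rev (10 : Rt chevG2)) = 1 from rfl] at h
    exact h
  rw [a, ← mul_assoc (xe 10 (1 : K)), a, mul_assoc, ← mul_assoc (xe 1 (-1 : K)), b, mul_assoc]

lemma reeV_fix (t u v : K) : reeV m t u v ∈ fixT m :=
  mul_mem (mul_mem (n0_fix hK) (reeU_fix hK t u v)) (n0_fix hK)

lemma twisted_le_fix : Cfsg.Lie.twistedG2 K (3 ^ m) ≤ fixT m := by
  rw [twisted_eq_closure, Subgroup.closure_le]
  rintro g ⟨t, u, v, rfl | rfl⟩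
  · exact reeU_fix hK t u v
  · exact reeV_fix hK t u v

lemma hy_reeU (y : Kˣ) (t u v : K) :
    hy m y * reeU m t u v =
      reeU m (((y : K) ^ 2 / ((y : K) ^ 3 ^ m) ^ 3) * t) ((((y : K) ^ 3 ^ m) ^ 3 / y) * u) ((y : K) * v) * hy m y := by
  rw [hy, reeU, hh_ordP, reeU]
  congr 1
  have hy0 : (y : K) ≠ 0 := y.ne_zero
  have hx : (((y : K) ^ 3 ^ m) ^ 3) ^ 3 ^ m = y := by
    rw [← pow_mul, ← pow_mul, show 3 ^ m * (3 * 3 ^ m) = 3 * (3 ^ m * 3 ^ m) by ring, pow_q hK]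
  have hx0 : (y : K) ^ 3 ^ m ≠ 0 := pow_ne_zero _ hy0
  have e7 : (((y ^ 3 ^ m) ^ pr chevG2 (7 : Rt chevG2) 7 * y ^ pr chevG2 (6 : Rt chevG2) 7 : Kˣ) : K) =
      ((y : K) ^ 3 ^ m) ^ 2 / y := by
    simp [pr7, pr6, nroots_eq, Units.val_zpow_eq_zpow_val, div_eq_mul_inv, zpow_ofNat]
  have e6 : (((y ^ 3 ^ m) ^ pr chevG2 (7 : Rt chevG2) 6 * y ^ pr chevG2 (6 : Rt chevG2) 6 : Kˣ) : K) =
      (y : K) ^ 2 / ((y : K) ^ 3 ^ m) ^ 3 := by
    simp [pr7, pr6, nroots_eq, Units.val_zpow_eq_zpow_val, div_eq_mul_inv, zpow_ofNat, mul_comm]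
  have e8 : (((y ^ 3 ^ m) ^ pr chevG2 (7 : Rt chevG2) 8 * y ^ pr chevG2 (6 : Rt chevG2) 8 : Kˣ) : K) =
      (y : K) / (y : K) ^ 3 ^ m := by
    simp [pr7, pr6, nroots_eq, Units.val_zpow_eq_zpow_val, div_eq_mul_inv, mul_comm]
  have e9 : (((y ^ 3 ^ m) ^ pr chevG2 (7 : Rt chevG2) 9 * y ^ pr chevG2 (6 : Rt chevG2) 9 : Kˣ) : K) =
      (y : K) ^ 3 ^ m := by
    simp [pr7, pr6, nroots_eq]
  have e10 : (((y ^ 3 ^ m) ^ pr chevG2 (7 : Rt chevG2) 10 * y ^ pr chevG2 (6 : Rt chevG2) 10 : Kˣ) : K) =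
      ((y : K) ^ 3 ^ m) ^ 3 / y := by
    simp [pr7, pr6, nroots_eq, Units.val_zpow_eq_zpow_val, div_eq_mul_inv, zpow_ofNat]
  have e11 : (((y ^ 3 ^ m) ^ pr chevG2 (7 : Rt chevG2) 11 * y ^ pr chevG2 (6 : Rt chevG2) 11 : Kˣ) : K) = (y : K) := by
    simp [pr7, pr6, nroots_eq]
  rw [e7, e6, e8, e9, e10, e11]
  set A := (y : K) ^ 2 / ((y : K) ^ 3 ^ m) ^ 3 with hA'
  set B := ((y : K) ^ 3 ^ m) ^ 3 / (y : K) with hB'
  have hA : A ^ 3 ^ m = ((y : K) ^ 3 ^ m) ^ 2 / y := by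
    rw [hA', div_pow, hx, pow_right_comm]
  have hB : B ^ 3 ^ m = (y : K) / (y : K) ^ 3 ^ m := by
    rw [hB', div_pow, hx]
  have c7 : (A * t) ^ 3 ^ m = ((y : K) ^ 3 ^ m) ^ 2 / y * t ^ 3 ^ m := by rw [mul_pow, hA]
  have c8 : (A * t) ^ (3 ^ m + 1) + (B * u) ^ 3 ^ m =
      (y : K) / (y : K) ^ 3 ^ m * (t ^ (3 ^ m + 1) + u ^ 3 ^ m) := by
    rw [pow_succ, pow_succ, c7, mul_pow, hB, hA']
    field_simp
  have c9 : (A * t) ^ (2 * 3 ^ m + 1) + ((y : K) * v) ^ 3 ^ m =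
      (y : K) ^ 3 ^ m * (t ^ (2 * 3 ^ m + 1) + v ^ 3 ^ m) := by
    rw [show 2 * 3 ^ m + 1 = 3 ^ m * 2 + 1 by ring, pow_succ, pow_succ, pow_mul, pow_mul, c7, mul_pow _ v, hA']
    field_simp
  rw [c7, c8, c9]

lemma hy_mem (y : Kˣ) : hy m y ∈ Cfsg.Lie.twistedG2 K (3 ^ m) := by
  classical
  set G1 := Cfsg.Lie.twistedG2 K (3 ^ m) with hG1
  have hnU : ∀ (z : Kˣ) (t u v : K), hy m z * reeU m t u v * (hy m z)⁻¹ ∈ G1 := by
    intro z t u v
    rw [hy_reeU hK, mul_inv_cancel_right]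
    exact reeU_mem m _ _ _
  have hnV : ∀ (z : Kˣ) (t u v : K), hy m z * reeV m t u v * (hy m z)⁻¹ ∈ G1 := by
    intro z t u v
    have e : hy m z * reeV m t u v * (hy m z)⁻¹ = n0 * (hy m z⁻¹ * reeU m t u v * (hy m z⁻¹)⁻¹) * n0 := by
      have c1 : hy m z * n0 = n0 * hy m z⁻¹ := by
        rw [← n0_hy m z, ← mul_assoc, ← mul_assoc, n0_mul_self, one_mul]
      have c2 : n0 * (hy m z)⁻¹ = (hy m z⁻¹)⁻¹ * n0 := by
        rw [hy_inv, hy_inv, inv_inv]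
        conv_rhs => rw [show hy m z = n0 * hy m z⁻¹ * n0 by rw [n0_hy, inv_inv]]
        rw [mul_assoc _ n0 n0, n0_mul_self, mul_one]
      rw [reeV, show hy m z * (n0 * reeU m t u v * n0) * (hy m z)⁻¹ =
        (hy m z * n0) * reeU m t u v * (n0 * (hy m z)⁻¹) by group, c1, c2]
      simp only [mul_assoc]
    rw [e]
    exact mul_mem (mul_mem (n0_mem m) (hnU z⁻¹ t u v)) (n0_mem m)
  have hsq : ∀ z : Kˣ, hy m (z * z) ∈ G1 := by
    intro z
    have hn : hy m z * n0 * (hy m z)⁻¹ ∈ G1 := by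
      have : ∀ g ∈ G1, hy m z * g * (hy m z)⁻¹ ∈ G1 := by
        intro g hg
        rw [hG1, twisted_eq_closure] at hg
        induction hg using Subgroup.closure_induction with
        | mem x hx =>
          obtain ⟨t, u, v, rfl | rfl⟩ := hx
          · exact hnU z t u v
          · exact hnV z t u v
        | one => simpa using one_mem G1
        | mul a b _ _ ha hb => simpa [mul_assoc] using mul_mem ha hb
        | inv a _ ha => simpa [mul_assoc] using inv_mem ha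
      exact this _ (n0_mem m)
    have h2 := mul_mem hn (n0_mem m)
    rwa [show hy m z * n0 * (hy m z)⁻¹ * n0 = hy m z * (n0 * (hy m z)⁻¹ * n0) by group, hy_inv, n0_hy, inv_inv,
      hy_mul] at h2
  have hneg : hy m (-1 : Kˣ) ∈ G1 := by
    have : hy m (-1 : Kˣ) = hh (-1) (-1) := by rw [hy, ((by decide : Odd 3).pow).neg_one_pow]
    rw [this]
    exact negOne_mem m
  obtain ⟨k, hk⟩ : ∃ k, Fintype.card K = 4 * k + 3 := by
    have key : ∀ n, ∃ k, 3 ^ (2 * n + 1) = 4 * k + 3 := by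
      intro n
      induction n with
      | zero => exact ⟨0, rfl⟩
      | succ n ih =>
        obtain ⟨k, hk⟩ := ih
        exact ⟨9 * k + 6, by rw [show 2 * (n + 1) + 1 = 2 * n + 1 + 2 by ring, pow_add, hk]; ring⟩
    rw [hK]
    exact key m
  set w : Kˣ := y ^ (2 * k + 1)
  have hw : w * w = 1 := by
    have := FiniteField.pow_card_sub_one_eq_one (y : K) y.ne_zero
    rw [hk, show 4 * k + 3 - 1 = (2 * k + 1) + (2 * k + 1) by omega, pow_add] at this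
    exact Units.ext (by push_cast [w]; exact this)
  have hw' : w = 1 ∨ w = -1 := by
    rcases mul_self_eq_one_iff.1 (show (w : K) * w = 1 by rw [← Units.val_mul, hw, Units.val_one]) with h | h
    · exact Or.inl (Units.ext h)
    · exact Or.inr (Units.ext h)
  have hy2 : y * w = y ^ (k + 1) * y ^ (k + 1) := by
    rw [← pow_succ', ← pow_add]
    congr 1
    omega
  rcases hw' with h | h
  · rw [h, mul_one] at hy2
    rw [hy2]
    exact hsq _
  · have : y = -1 * (y ^ (k + 1) * y ^ (k + 1)) := by rw [← hy2, h]; simp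
    rw [this, ← hy_mul]
    exact mul_mem hneg (hsq _)

/-- The fixed points in the Borel subgroup. -/
theorem mem_borel_fix (z : GL chevG2.Idx K) :
    z ∈ chevG2.borelSubgroup K ⊓ fixT m ↔ ∃ (t u v : K) (y : Kˣ), z = reeU m t u v * hy m y := by
  constructor
  · rintro ⟨hb, hf⟩
    obtain ⟨a, b, c, d, f, g, x, y, rfl⟩ := (mem_borel_iff z).1 hb
    obtain ⟨hmem, he⟩ := mem_fixT.1 hf
    have hu : ordP a b c d f g ∈ chevG2.group K := by
      simpa [ordP] using wordG_mem [(7, a), (6, b), (8, c), (9, d), (10, f), (11, g)]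
    rw [show (⟨_, hmem⟩ : ↥(chevG2.group K)) = ⟨_, hu⟩ * ⟨hh x y, hh_mem_group x y⟩ from rfl, map_mul,
      Subgroup.coe_mul, tau_hh, tau_ordP hK] at he
    obtain ⟨⟨ea, -, ec, ed, -, -⟩, ex, -⟩ := borel_coords_inj he
    subst ea ex
    refine ⟨b, f, g, y, ?_⟩
    have hb' : (b ^ 3 ^ m) ^ (3 * 3 ^ m) = b := by
      rw [← pow_mul, show 3 ^ m * (3 * 3 ^ m) = 3 * (3 ^ m * 3 ^ m) by ring, pow_q hK]
    rw [hb'] at ec ed
    rw [reeU, hy]
    congr 2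
    · rw [← ec]; ring
    · rw [← ed]; ring
  · rintro ⟨t, u, v, y, rfl⟩
    exact ⟨(mem_borel_iff _).2 ⟨_, _, _, _, _, _, _, _, rfl⟩, mul_mem (reeU_fix hK t u v) (hy_fix hK y)⟩

end finite

end Cfsg.Agent.Lib.LieTwisted.Ree
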