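import Cfsg.Agent.Lib.LieTwisted.ReeRel

/-!
The unipotent group of G2 over a field of characteristic 3: ordered products of the six positive
root elements, closed under multiplication, with unique coordinates.
-/

set_option autoImplicit false
set_option linter.unusedSectionVars false

namespace Cfsg.Agent.Lib.LieTwisted.Ree

open Cfsg.Lie SparseRoot ChevStructure

variable {K : Type*} [Field K]

/-- The verified table of G2. -/
noncomputable abbrev C2 : Core chevG2 := ChevStructure.Cert.G2.core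

instance instNeZeroNroots : NeZero chevG2.nroots := ⟨by decide⟩

instance instNeZeroRank : NeZero chevG2.rank := ⟨by decide⟩

lemma ofNat_eq (k : ℕ) : Fin.ofNat chevG2.nroots k = (OfNat.ofNat k : Rt chevG2) := rfl

/-- `x_r(t)` of G2 as a group element. -/
noncomputable abbrev xe (r : Rt chevG2) (t : K) : GL chevG2.Idx K := C2.X K r t

lemma xe_val (r : Rt chevG2) (t : K) :
    ((xe r t : GL chevG2.Idx K) : Matrix chevG2.Idx chevG2.Idx K) = chevG2.x K r.val t := C2.X_val_x r t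

lemma xe_add (r : Rt chevG2) (t u : K) : xe r t * xe r u = xe r (t + u) := C2.X_add K r t u

lemma xe_zero (r : Rt chevG2) : xe r (0 : K) = 1 := C2.X_zero K r

lemma xe_inv (r : Rt chevG2) (t : K) : (xe r t)⁻¹ = xe r (-t) := C2.X_inv K r t

lemma xe_eq_one {r : Rt chevG2} {t : K} (h : xe r t = 1) : t = 0 :=
  (C2.x_eq_one_iff r t).1 (by
    have := congrArg Units.val h
    exact this)

lemma xe_injective (r : Rt chevG2) : Function.Injective (xe (K := K) r) := by
  intro a b h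
  have : xe r (a + -b) = 1 := by rw [← xe_add, h, ← xe_inv, mul_inv_cancel]
  exact eq_neg_of_add_eq_zero_left (xe_eq_one this) |>.trans (neg_neg b)

/-- A word as a product in the group. -/
noncomputable def wordG (w : List (Rt chevG2 × K)) : GL chevG2.Idx K := (w.map fun p => xe p.1 p.2).prod

@[simp] lemma wordG_nil : wordG ([] : List (Rt chevG2 × K)) = 1 := rfl

@[simp] lemma wordG_cons (p : Rt chevG2 × K) (w : List (Rt chevG2 × K)) :
    wordG (p :: w) = xe p.1 p.2 * wordG w := by simp [wordG]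

lemma wordG_append (v w : List (Rt chevG2 × K)) : wordG (v ++ w) = wordG v * wordG w := by simp [wordG]

lemma wordG_val : ∀ w : List (Rt chevG2 × K),
    ((wordG w : GL chevG2.Idx K) : Matrix chevG2.Idx chevG2.Idx K) =
      chevG2.wordMat K (w.map fun p => (p.1.val, p.2))
  | [] => by simp [ChevalleyDatum.wordMat]
  | p :: w => by
    rw [wordG_cons, Units.val_mul, xe_val, wordG_val w]
    simp [ChevalleyDatum.wordMat]

/-- The value of a symbolic word in the group. -/
noncomputable def evalG (w : List (ℕ × (ℤ × ℕ × ℕ))) (t u : K) : GL chevG2.Idx K :=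
  wordG (w.map fun p => ((Fin.ofNat chevG2.nroots p.1 : Rt chevG2), (p.2.1 : K) * t ^ p.2.2.1 * u ^ p.2.2.2))

lemma eq_of_sameWord [CharP K 3] {w w' : List (ℕ × (ℤ × ℕ × ℕ))}
    (h : sameWordC chevG2 3 w w' = true) (t u : K) : evalG w t u = evalG w' t u := by
  have key : ∀ v : List (ℕ × (ℤ × ℕ × ℕ)), (∀ p ∈ v, p.1 < 12) →
      ((evalG v t u : GL chevG2.Idx K) : Matrix chevG2.Idx chevG2.Idx K) = chevG2.wordMat K (evalWord v t u) := by
    intro v hv
    rw [evalG, wordG_val, List.map_map, evalWord]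
    congr 1
    refine List.map_congr_left fun p hp => ?_
    simp [Fin.val_ofNat, Nat.mod_eq_of_lt (show p.1 < chevG2.nroots from hv p hp)]
  have hb := h
  simp only [sameWordC, Bool.and_eq_true, List.all_eq_true] at hb
  have hlt : ∀ v : List (ℕ × (ℤ × ℕ × ℕ)), (∀ p ∈ v, wfRoot chevG2 p.1 = true) → ∀ p ∈ v, p.1 < 12 := by
    intro v hv p hp
    have := hv p hp
    simp only [wfRoot, Bool.and_eq_true, decide_eq_true_eq] at this
    exact this.1.1.1
  apply Units.ext
  rw [key w (hlt w hb.1.1), key w' (hlt w' hb.1.2)]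
  exact wordMat_eq_of_sameWordC chevG2 3 h t u

variable [CharP K 3]

lemma x6x7 (u t : K) : xe 6 u * xe 7 t =
    xe 7 t * (xe 6 u * (xe 8 (t * u) * (xe 9 (t ^ 2 * u) * (xe 10 (-(t ^ 3 * u)) * xe 11 (-(t ^ 3 * u ^ 2)))))) := by
  have h := eq_of_sameWord comm67 u t
  simp [evalG, ofNat_eq] at h
  convert h using 1
  congr 2
  congr 1
  · rw [mul_comm]
  congr 1
  · rw [mul_comm]
  congr 1 <;> congr 1 <;> ring

lemma x8x7 (u t : K) : xe 8 u * xe 7 t = xe 7 t * (xe 8 u * xe 9 (-(u * t))) := by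
  simpa [evalG, ofNat_eq] using eq_of_sameWord comm87 u t

lemma x10x6 (u t : K) : xe 10 u * xe 6 t = xe 6 t * (xe 10 u * xe 11 (-(u * t))) := by
  simpa [evalG, ofNat_eq] using eq_of_sameWord comm106 u t

lemma x_comm {r s : ℕ} (hrs : (r, s) ∈ [(9, 7), (10, 7), (11, 7), (8, 6), (9, 6), (11, 6), (9, 8), (10, 8),
    (11, 8), (10, 9), (11, 9), (11, 10)]) (u t : K) :
    xe (Fin.ofNat chevG2.nroots r) u * xe (Fin.ofNat chevG2.nroots s) t = xe (Fin.ofNat chevG2.nroots s) t * xe (Fin.ofNat chevG2.nroots r) u := by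
  have h := List.all_eq_true.1 comm_rest (r, s) hrs
  simpa [evalG, ofNat_eq] using eq_of_sameWord h u t

lemma x97 (u t : K) : xe 9 u * xe 7 t = xe 7 t * xe 9 u := x_comm (r := 9) (s := 7) (by simp) u t
lemma x107 (u t : K) : xe 10 u * xe 7 t = xe 7 t * xe 10 u := x_comm (r := 10) (s := 7) (by simp) u t
lemma x117 (u t : K) : xe 11 u * xe 7 t = xe 7 t * xe 11 u := x_comm (r := 11) (s := 7) (by simp) u t
lemma x86 (u t : K) : xe 8 u * xe 6 t = xe 6 t * xe 8 u := x_comm (r := 8) (s := 6) (by simp) u t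
lemma x96 (u t : K) : xe 9 u * xe 6 t = xe 6 t * xe 9 u := x_comm (r := 9) (s := 6) (by simp) u t
lemma x116 (u t : K) : xe 11 u * xe 6 t = xe 6 t * xe 11 u := x_comm (r := 11) (s := 6) (by simp) u t
lemma x98 (u t : K) : xe 9 u * xe 8 t = xe 8 t * xe 9 u := x_comm (r := 9) (s := 8) (by simp) u t
lemma x108 (u t : K) : xe 10 u * xe 8 t = xe 8 t * xe 10 u := x_comm (r := 10) (s := 8) (by simp) u t
lemma x118 (u t : K) : xe 11 u * xe 8 t = xe 8 t * xe 11 u := x_comm (r := 11) (s := 8) (by simp) u t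
lemma x109 (u t : K) : xe 10 u * xe 9 t = xe 9 t * xe 10 u := x_comm (r := 10) (s := 9) (by simp) u t
lemma x119 (u t : K) : xe 11 u * xe 9 t = xe 9 t * xe 11 u := x_comm (r := 11) (s := 9) (by simp) u t
lemma x1110 (u t : K) : xe 11 u * xe 10 t = xe 10 t * xe 11 u := x_comm (r := 11) (s := 10) (by simp) u t

/-- The ordered product with coordinates `c`. -/
noncomputable def ordP (a b c d f g : K) : GL chevG2.Idx K :=
  xe 7 a * (xe 6 b * (xe 8 c * (xe 9 d * (xe 10 f * xe 11 g))))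

lemma mul7 (s a b c d f g : K) : xe 7 s * ordP a b c d f g = ordP (s + a) b c d f g := by
  rw [ordP, ← mul_assoc, xe_add]; rfl

/-- The normal form of the commutative part. -/
noncomputable def ordQ (c d f g : K) : GL chevG2.Idx K := xe 8 c * (xe 9 d * (xe 10 f * xe 11 g))

lemma ordP_eq (a b c d f g : K) : ordP a b c d f g = xe 7 a * (xe 6 b * ordQ c d f g) := rfl

lemma ordQ_mul (c d f g c' d' f' g' : K) :
    ordQ c d f g * ordQ c' d' f' g' = ordQ (c + c') (d + d') (f + f') (g + g') := by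
  simp only [ordQ, ← xe_add]
  simp only [mul_assoc]
  congr 1
  rw [← mul_assoc (xe 11 g) (xe 8 c'), x118, mul_assoc, ← mul_assoc (xe 10 f) (xe 8 c'), x108, mul_assoc,
    ← mul_assoc (xe 9 d) (xe 8 c'), x98, mul_assoc]
  congr 2
  rw [← mul_assoc (xe 11 g) (xe 9 d'), x119, mul_assoc, ← mul_assoc (xe 10 f) (xe 9 d'), x109, mul_assoc]
  congr 2
  rw [← mul_assoc (xe 11 g) (xe 10 f'), x1110, mul_assoc]

lemma ordQ_x7 (c d f g s : K) : ordQ c d f g * xe 7 s = xe 7 s * ordQ c (d + -(c * s)) f g := by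
  simp only [ordQ, mul_assoc]
  rw [x117, ← mul_assoc (xe 10 f) (xe 7 s), x107, mul_assoc, ← mul_assoc (xe 9 d) (xe 7 s), x97, mul_assoc,
    ← mul_assoc (xe 8 c) (xe 7 s), x8x7]
  simp only [mul_assoc]
  rw [← mul_assoc (xe 9 (-(c * s))) (xe 9 d), xe_add, add_comm]

lemma ordQ_x6 (c d f g s : K) : ordQ c d f g * xe 6 s = xe 6 s * ordQ c d f (g + -(f * s)) := by
  simp only [ordQ, mul_assoc]
  rw [x116, ← mul_assoc (xe 10 f) (xe 6 s), x10x6, mul_assoc, mul_assoc, ← mul_assoc (xe 9 d) (xe 6 s), x96,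
    mul_assoc, ← mul_assoc (xe 8 c) (xe 6 s), x86, mul_assoc]
  rw [xe_add, add_comm]

lemma mul6 (s a b c d f g : K) : xe 6 s * ordP a b c d f g =
    ordP a (s + b) (a * s + c) (a ^ 2 * s + d) (-(a ^ 3 * s) + f) (-(a ^ 3 * s ^ 2) + -(-(a ^ 3 * s) * b) + g) := by
  rw [ordP_eq, ← mul_assoc, x6x7, ← ordQ]
  simp only [mul_assoc]
  rw [← mul_assoc (ordQ _ _ _ _) (xe 6 b), ordQ_x6]
  simp only [mul_assoc]
  rw [ordQ_mul, ← mul_assoc (xe 6 s) (xe 6 b), xe_add]
  rfl

lemma mulQ (c' d' f' g' a b c d f g : K) : ordQ c' d' f' g' * ordP a b c d f g =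
    ordP a b (c' + c) (d' + -(c' * a) + d) (f' + f) (g' + -(f' * b) + g) := by
  rw [ordP_eq, ← mul_assoc, ordQ_x7, mul_assoc, ← mul_assoc (ordQ _ _ _ _), ordQ_x6, mul_assoc, ordQ_mul]
  rfl

lemma ordP_zero : ordP (0 : K) 0 0 0 0 0 = 1 := by simp [ordP, xe_zero]

/-- The set of ordered products is closed under left multiplication by the positive root elements. -/
lemma exists_mul_ordP (r : Rt chevG2) (hr : r ∈ ([6, 7, 8, 9, 10, 11] : List (Rt chevG2))) (s a b c d f g : K) :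
    ∃ a' b' c' d' f' g', xe r s * ordP a b c d f g = ordP a' b' c' d' f' g' := by
  simp only [List.mem_cons, List.not_mem_nil, or_false] at hr
  have e8 : xe 8 s = ordQ s 0 0 0 := by simp [ordQ, xe_zero]
  have e9 : xe 9 s = ordQ 0 s 0 0 := by simp [ordQ, xe_zero]
  have e10 : xe 10 s = ordQ 0 0 s 0 := by simp [ordQ, xe_zero]
  have e11 : xe 11 s = ordQ 0 0 0 s := by simp [ordQ, xe_zero]
  rcases hr with rfl | rfl | rfl | rfl | rfl | rfl
  · exact ⟨_, _, _, _, _, _, mul6 s a b c d f g⟩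
  · exact ⟨_, _, _, _, _, _, mul7 s a b c d f g⟩
  · exact ⟨_, _, _, _, _, _, by rw [e8, mulQ]⟩
  · exact ⟨_, _, _, _, _, _, by rw [e9, mulQ]⟩
  · exact ⟨_, _, _, _, _, _, by rw [e10, mulQ]⟩
  · exact ⟨_, _, _, _, _, _, by rw [e11, mulQ]⟩

lemma posRoot_list (r : ℕ) : chevG2.IsPosRoot r ↔ r < 12 ∧ 6 ≤ r := by
  constructor
  · intro h
    refine ⟨h.1, ?_⟩
    have := (C2.pos_iff ⟨r, h.1⟩).1 h
    have h12 : chevG2.nroots = 12 := rfl
    simp only at this
    omega
  · rintro ⟨h1, h2⟩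
    exact (C2.pos_iff ⟨r, h1⟩).2 (show 12 ≤ 2 * r by omega)

lemma xe_mem_pos {r : Rt chevG2} (hr : 6 ≤ r.val) (t : K) : xe r t ∈ chevG2.posUnipotent K :=
  Subgroup.subset_closure ⟨r.val, t, (posRoot_list _).2 ⟨r.isLt, hr⟩, xe_val r t⟩

/-- Every element of `U` is an ordered product. -/
theorem mem_pos_iff (x : GL chevG2.Idx K) :
    x ∈ chevG2.posUnipotent K ↔ ∃ a b c d f g, x = ordP a b c d f g := by
  constructor
  · intro hx
    suffices h : ∀ a b c d f g, ∃ a' b' c' d' f' g', x * ordP a b c d f g = ordP a' b' c' d' f' g' by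
      obtain ⟨a', b', c', d', f', g', h'⟩ := h 0 0 0 0 0 0
      exact ⟨a', b', c', d', f', g', by rw [← h', ordP_zero, mul_one]⟩
    induction hx using Subgroup.closure_induction'' with
    | mem y hy =>
      obtain ⟨r, t, hr, hy⟩ := hy
      obtain ⟨h1, h2⟩ := (posRoot_list r).1 hr
      have e : y = xe ⟨r, h1⟩ t := Units.ext (hy.trans (xe_val ⟨r, h1⟩ t).symm)
      rw [e]
      intro a b c d f g
      refine exists_mul_ordP _ ?_ t a b c d f g
      interval_cases r <;> simp [Fin.ext_iff, show chevG2.nroots = 12 from rfl]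
    | inv_mem y hy =>
      obtain ⟨r, t, hr, hy⟩ := hy
      obtain ⟨h1, h2⟩ := (posRoot_list r).1 hr
      have e : y = xe ⟨r, h1⟩ t := Units.ext (hy.trans (xe_val ⟨r, h1⟩ t).symm)
      rw [e, xe_inv]
      intro a b c d f g
      refine exists_mul_ordP _ ?_ (-t) a b c d f g
      interval_cases r <;> simp [Fin.ext_iff, show chevG2.nroots = 12 from rfl]
    | one => intro a b c d f g; exact ⟨a, b, c, d, f, g, one_mul _⟩
    | mul y z _ _ hy hz =>
      intro a b c d f g
      obtain ⟨a', b', c', d', f', g', h'⟩ := hz a b c d f g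
      obtain ⟨a'', b'', c'', d'', f'', g'', h''⟩ := hy a' b' c' d' f' g'
      exact ⟨a'', b'', c'', d'', f'', g'', by rw [mul_assoc, h', h'']⟩
  · rintro ⟨a, b, c, d, f, g, rfl⟩
    exact mul_mem (xe_mem_pos (by decide) a) (mul_mem (xe_mem_pos (by decide) b) (mul_mem (xe_mem_pos (by decide) c)
      (mul_mem (xe_mem_pos (by decide) d) (mul_mem (xe_mem_pos (by decide) f) (xe_mem_pos (by decide) g)))))

lemma xe9_eq_xe11 {d g : K} (h : xe 9 d = xe 11 g) : d = 0 ∧ g = 0 := by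
  have hd : d = 0 := by
    have h2 := congrArg (fun x : GL chevG2.Idx K => (x : Matrix chevG2.Idx chevG2.Idx K) (Sum.inr (⟨9, by decide⟩ : Fin chevG2.nroots)) (Sum.inl (⟨0, by decide⟩ : Fin chevG2.rank))) h
    change xI chevG2 K (⟨9, by decide⟩ : Rt chevG2) d _ _ = xI chevG2 K (⟨11, by decide⟩ : Rt chevG2) g _ _ at h2
    have e9 : ∀ k : Fin 4, E chevG2 k.val (⟨9, by decide⟩ : Rt chevG2) (Sum.inr (⟨9, by decide⟩ : Fin chevG2.nroots)) (Sum.inl (⟨0, by decide⟩ : Fin chevG2.rank)) = [0, -1, 0, 0].getD k.val 0 := by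
      decide +kernel
    have e11 : ∀ k : Fin 4, E chevG2 k.val (⟨11, by decide⟩ : Rt chevG2) (Sum.inr (⟨9, by decide⟩ : Fin chevG2.nroots)) (Sum.inl (⟨0, by decide⟩ : Fin chevG2.rank)) = 0 := by
      decide +kernel
    simp only [ChevStructure.xI, Ek, Finset.sum_range, Fin.sum_univ_four, Matrix.add_apply, Matrix.smul_apply,
      Matrix.map_apply, e9, e11] at h2
    simpa using h2
  subst hd
  exact ⟨rfl, xe_eq_one (by rw [← h, xe_zero])⟩

/-- Uniqueness of coordinates. -/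
theorem ordP_inj {a b c d f g a' b' c' d' f' g' : K}
    (h : ordP a b c d f g = ordP a' b' c' d' f' g') :
    a = a' ∧ b = b' ∧ c = c' ∧ d = d' ∧ f = f' ∧ g = g' := by
  have e11 : ∀ s : K, xe 11 s = ordQ 0 0 0 s := fun s => by simp [ordQ, xe_zero]
  have e10 : xe 10 (1 : K) = ordQ 0 0 1 0 := by simp [ordQ, xe_zero]
  have e8 : xe 8 (1 : K) = ordQ 1 0 0 0 := by simp [ordQ, xe_zero]
  have conj10 : ∀ a b c d f g : K, xe 10 1 * ordP a b c d f g = ordP a b c d f g * (xe 10 1 * xe 11 (-b)) := by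
    intro a b c d f g
    rw [e10, mulQ, e11, ordQ_mul, ordP_eq, ordP_eq, mul_assoc, mul_assoc, ordQ_mul]
    congr 3 <;> ring
  have conj8 : ∀ a b c d f g : K, xe 8 1 * ordP a b c d f g = ordP a b c d f g * (xe 8 1 * xe 9 (-a)) := by
    intro a b c d f g
    rw [e8, mulQ, show xe 9 (-a) = ordQ 0 (-a) 0 0 by simp [ordQ, xe_zero], ordQ_mul, ordP_eq, ordP_eq, mul_assoc,
      mul_assoc, ordQ_mul]
    congr 3 <;> ring
  have hb : b = b' := by
    have h1 := conj10 a b c d f g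
    rw [h, conj10] at h1
    exact (neg_injective (xe_injective 11 (mul_left_cancel (mul_left_cancel h1)))).symm
  have ha : a = a' := by
    have h1 := conj8 a b c d f g
    rw [h, conj8] at h1
    exact (neg_injective (xe_injective 9 (mul_left_cancel (mul_left_cancel h1)))).symm
  subst ha hb
  rw [ordP_eq, ordP_eq] at h
  have hQ := mul_left_cancel (mul_left_cancel h)
  have hc : c = c' := by
    have h1 := ordQ_x7 c d f g (1 : K)
    rw [hQ, ordQ_x7] at h1
    have h2 := mul_left_cancel h1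
    have h3 : ordQ c' (d' + -(c' * 1)) f' g' * (ordQ c' d' f' g')⁻¹ =
        ordQ c (d + -(c * 1)) f g * (ordQ c d f g)⁻¹ := by rw [h2, hQ]
    have key : ∀ c d f g : K, ordQ c (d + -(c * 1)) f g * (ordQ c d f g)⁻¹ = xe 9 (-c) := by
      intro c d f g
      rw [mul_inv_eq_iff_eq_mul, show xe 9 (-c) = ordQ 0 (-c) 0 0 by simp [ordQ, xe_zero], ordQ_mul]
      congr 1 <;> ring
    rw [key, key] at h3
    exact (neg_injective (xe_injective 9 h3)).symm
  subst hc
  have hf : f = f' := by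
    have h1 := ordQ_x6 c d f g (1 : K)
    rw [hQ, ordQ_x6] at h1
    have h2 := mul_left_cancel h1
    have h3 : ordQ c d' f' (g' + -(f' * 1)) * (ordQ c d' f' g')⁻¹ =
        ordQ c d f (g + -(f * 1)) * (ordQ c d f g)⁻¹ := by rw [h2, hQ]
    have key : ∀ c d f g : K, ordQ c d f (g + -(f * 1)) * (ordQ c d f g)⁻¹ = xe 11 (-f) := by
      intro c d f g
      rw [mul_inv_eq_iff_eq_mul, show xe 11 (-f) = ordQ 0 0 0 (-f) by simp [ordQ, xe_zero], ordQ_mul]
      congr 1 <;> ring
    rw [key, key] at h3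
    exact (neg_injective (xe_injective 11 h3)).symm
  subst hf
  have h4 : xe 9 (d - d') = xe 11 (g' - g) := by
    have e : ordQ 0 (d - d') 0 0 * ordQ c d' f g = ordQ 0 0 0 (g - g') * ordQ c d' f g' * xe 9 (d - d') := by
      rw [show xe 9 (d - d') = ordQ 0 (d - d') 0 0 by simp [ordQ, xe_zero], ordQ_mul, ordQ_mul, ordQ_mul]
      congr 1 <;> ring
    have e2 : ordQ c d f g = ordQ 0 (d - d') 0 0 * ordQ c d' f g := by rw [ordQ_mul]; congr 1 <;> ring
    rw [← e2, hQ] at e
    have e3 : ordQ c d' f g' = ordQ 0 0 0 (g' - g) * ordQ c d' f g := by rw [ordQ_mul]; congr 1 <;> ring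
    rw [hQ] at e2
    rw [e3] at e2
    have := mul_right_cancel e2
    simpa [ordQ, xe_zero] using this.symm
  obtain ⟨h5, h6⟩ := xe9_eq_xe11 h4
  exact ⟨rfl, rfl, rfl, sub_eq_zero.1 h5, rfl, (sub_eq_zero.1 h6).symm⟩

end Cfsg.Agent.Lib.LieTwisted.Ree
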