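import Mathlib

/-!
Sparse matrices with entries integer polynomials in two variables, and a kernel-friendly test
that two such matrices agree in every commutative ring of a given characteristic.
-/

set_option autoImplicit false

namespace Cfsg.Agent.Lib.LieTwisted.Sparse

/-- A polynomial: a list of `(coefficient, exponent of t, exponent of u)`. -/
abbrev Poly := List (ℤ × ℕ × ℕ)

def Poly.eval {R : Type*} [CommRing R] (P : Poly) (t u : R) : R :=
  (P.map fun m => (m.1 : R) * t ^ m.2.1 * u ^ m.2.2).sum

def Poly.mul (P Q : Poly) : Poly :=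
  P.flatMap fun m => Q.map fun n => (m.1 * n.1, m.2.1 + n.2.1, m.2.2 + n.2.2)

def Poly.neg (P : Poly) : Poly := P.map fun m => (-m.1, m.2)

def Poly.isZero (p : ℕ) (P : Poly) : Bool :=
  P.all fun m => decide (((P.filter fun n => decide (n.2 = m.2)).map Prod.fst).sum % (p : ℤ) = 0)

/-- A sparse matrix: the sum of the listed entries. -/
abbrev SMat := List ((ℕ × ℕ) × Poly)

/-- All monomials of the entries at a position. -/
def SMat.at' (A : SMat) (key : ℕ × ℕ) : Poly := (A.filter fun e => decide (e.1 = key)).flatMap Prod.snd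

def SMat.toMatrix {R : Type*} [CommRing R] (A : SMat) (N : ℕ) (t u : R) : Matrix (Fin N) (Fin N) R :=
  (A.map fun e => if h : e.1.1 < N ∧ e.1.2 < N then Matrix.single (⟨e.1.1, h.1⟩ : Fin N) (⟨e.1.2, h.2⟩ : Fin N) (e.2.eval t u) else 0).sum

def SMat.mul (A B : SMat) : SMat :=
  A.flatMap fun a => (B.filter fun b => decide (a.1.2 = b.1.1)).map fun b => ((a.1.1, b.1.2), a.2.mul b.2)

def SMat.neg (A : SMat) : SMat := A.map fun e => (e.1, e.2.neg)

def SMat.inRange (A : SMat) (N : ℕ) : Bool := A.all fun e => decide (e.1.1 < N ∧ e.1.2 < N)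

def SMat.isZero (p : ℕ) (A : SMat) : Bool := A.all fun e => (A.at' e.1).isZero p

/-- `A` and `B` agree modulo `p`. -/
def SMat.beqMod (p : ℕ) (A B : SMat) : Bool := (A ++ B.neg).isZero p

section
variable {R : Type*} [CommRing R] (t u : R)

lemma Poly.eval_append (P Q : Poly) : (P ++ Q : Poly).eval t u = P.eval t u + Q.eval t u := by
  simp [Poly.eval]

lemma Poly.eval_nil : Poly.eval ([] : Poly) t u = 0 := rfl

lemma Poly.eval_cons (m : ℤ × ℕ × ℕ) (P : Poly) :
    Poly.eval (m :: P) t u = (m.1 : R) * t ^ m.2.1 * u ^ m.2.2 + P.eval t u := rfl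

lemma Poly.eval_mul (P Q : Poly) : (P.mul Q).eval t u = P.eval t u * Q.eval t u := by
  induction P with
  | nil => simp [Poly.mul, Poly.eval_nil]
  | cons m P ih =>
    have : (Poly.mul (m :: P) Q) = (Q.map fun n => (m.1 * n.1, m.2.1 + n.2.1, m.2.2 + n.2.2)) ++ Poly.mul P Q := rfl
    rw [this, Poly.eval_append, ih, Poly.eval_cons, add_mul]
    congr 1
    clear this ih
    induction Q with
    | nil => simp [Poly.eval_nil]
    | cons n Q ih =>
      rw [List.map_cons, Poly.eval_cons, ih, Poly.eval_cons, mul_add]
      congr 1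
      push_cast
      ring

lemma Poly.eval_neg (P : Poly) : P.neg.eval t u = - P.eval t u := by
  induction P with
  | nil => simp [Poly.neg, Poly.eval_nil]
  | cons m P ih =>
    have : Poly.neg (m :: P) = (-m.1, m.2) :: Poly.neg P := rfl
    rw [this, Poly.eval_cons, Poly.eval_cons, ih]
    push_cast
    ring

variable {p : ℕ} [CharP R p]

lemma Poly.eval_eq_zero {P : Poly} (h : P.isZero p = true) : P.eval t u = 0 := by
  classical
  simp only [Poly.isZero, List.all_eq_true, decide_eq_true_eq] at h
  have hgen : ∀ (k : ℕ) (Q : Poly), Q.length ≤ k →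
      (∀ m ∈ Q, (((Q.filter fun n => decide (n.2 = m.2)).map Prod.fst).sum : R) = 0) → Q.eval t u = 0 := by
    intro k
    induction k with
    | zero =>
      intro Q hQ _
      rw [List.length_eq_zero_iff.1 (Nat.le_zero.1 hQ)]
      rfl
    | succ k ih =>
      intro Q hQ hz
      rcases Q with _ | ⟨m, Q⟩
      · rfl
      set Q₀ := (m :: Q).filter fun n => decide (n.2 = m.2)
      set Q₁ := (m :: Q).filter fun n => !decide (n.2 = m.2)
      have hperm : (Q₀ ++ Q₁).Perm (m :: Q) := List.filter_append_perm _ _
      have heval : Poly.eval (m :: Q) t u = Poly.eval Q₀ t u + Poly.eval Q₁ t u := by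
        rw [← Poly.eval_append]
        exact ((hperm.map _).sum_eq).symm
      have h0 : Poly.eval Q₀ t u = 0 := by
        have : ∀ l : Poly, (∀ n ∈ l, n.2 = m.2) → l.eval t u = ((l.map Prod.fst).sum : R) * (t ^ m.2.1 * u ^ m.2.2) := by
          intro l hl
          induction l with
          | nil => simp [Poly.eval_nil]
          | cons n l ihl =>
            rw [Poly.eval_cons, ihl fun x hx => hl x (by simp [hx]), List.map_cons, List.sum_cons, hl n (by simp)]
            push_cast
            ring
        rw [this Q₀ (fun n hn => by simpa [Q₀] using (List.mem_filter.1 hn).2)]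
        have h2 := hz m (by simp)
        simp only [Q₀]
        rw [h2, zero_mul]
      have h1 : Poly.eval Q₁ t u = 0 := by
        refine ih Q₁ ?_ fun n hn => ?_
        · have hm : m ∈ Q₀ := by simp [Q₀]
          have := hperm.length_eq
          simp only [List.length_append, List.length_cons] at this hQ
          have hpos : 0 < Q₀.length := List.length_pos_of_mem hm
          omega
        · obtain ⟨hn', hne⟩ := List.mem_filter.1 hn
          have hne' : n.2 ≠ m.2 := by simpa using hne
          have h2 := hz n hn'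
          have hf : Q₁.filter (fun x => decide (x.2 = n.2)) = (m :: Q).filter fun x => decide (x.2 = n.2) := by
            simp only [Q₁, List.filter_filter]
            refine List.filter_congr fun x _ => ?_
            by_cases hx : x.2 = n.2
            · simp [hx, hne']
            · simp [hx]
          rw [hf]; exact h2
      rw [heval, h0, h1, add_zero]
  refine hgen _ P le_rfl fun m hm => ?_
  rw [CharP.intCast_eq_zero_iff R p]
  exact Int.dvd_of_emod_eq_zero (h m hm)

omit [CharP R p]

lemma toMatrix_append (A B : SMat) (N : ℕ) :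
    (A ++ B : SMat).toMatrix N t u = A.toMatrix N t u + B.toMatrix N t u := by
  simp [SMat.toMatrix]

lemma toMatrix_nil (N : ℕ) : SMat.toMatrix ([] : SMat) N t u = 0 := rfl

lemma toMatrix_cons (e : (ℕ × ℕ) × Poly) (A : SMat) (N : ℕ) :
    SMat.toMatrix (e :: A) N t u =
      (if h : e.1.1 < N ∧ e.1.2 < N then Matrix.single (⟨e.1.1, h.1⟩ : Fin N) (⟨e.1.2, h.2⟩ : Fin N) (e.2.eval t u) else 0)
        + A.toMatrix N t u := rfl

lemma toMatrix_neg (A : SMat) (N : ℕ) : A.neg.toMatrix N t u = - A.toMatrix N t u := by
  induction A with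
  | nil => simp [SMat.neg, toMatrix_nil]
  | cons e A ih =>
    have : SMat.neg (e :: A) = (e.1, e.2.neg) :: SMat.neg A := rfl
    rw [this, toMatrix_cons, toMatrix_cons, ih, neg_add]
    congr 1
    split_ifs
    · rw [Poly.eval_neg]
      ext a b
      simp [Matrix.single_apply]
      split_ifs <;> simp
    · simp

lemma toMatrix_apply (A : SMat) {N : ℕ} (a b : Fin N) :
    A.toMatrix N t u a b = (A.at' ((a : ℕ), (b : ℕ))).eval t u := by
  induction A with
  | nil => simp [toMatrix_nil, SMat.at', Poly.eval_nil]
  | cons e A ih =>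
    rw [toMatrix_cons, Matrix.add_apply, ih]
    simp only [SMat.at']
    by_cases he : e.1 = ((a : ℕ), (b : ℕ))
    · rw [List.filter_cons_of_pos (by simpa using he), List.flatMap_cons, Poly.eval_append]
      congr 1
      rw [dif_pos (by rw [he]; exact ⟨a.2, b.2⟩)]
      simp [he]
    · rw [List.filter_cons_of_neg (by simpa using he)]
      split_ifs with h
      · rw [Matrix.single_apply, if_neg (fun hh => he (Prod.ext (congrArg Fin.val hh.1) (congrArg Fin.val hh.2))), zero_add]
      · simp

lemma toMatrix_mul (A B : SMat) (N : ℕ) (hA : A.inRange N = true) (hB : B.inRange N = true) :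
    (A.mul B).toMatrix N t u = A.toMatrix N t u * B.toMatrix N t u := by
  induction A with
  | nil => simp [SMat.mul, toMatrix_nil]
  | cons a A ih =>
    simp only [SMat.inRange, List.all_cons, Bool.and_eq_true, decide_eq_true_eq] at hA
    have : SMat.mul (a :: A) B =
        ((B.filter fun b => decide (a.1.2 = b.1.1)).map fun b => ((a.1.1, b.1.2), a.2.mul b.2)) ++ SMat.mul A B := rfl
    rw [this, toMatrix_append, ih hA.2, toMatrix_cons, add_mul, dif_pos hA.1]
    congr 1
    clear this ih
    induction B with
    | nil => simp [toMatrix_nil]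
    | cons b B ihB =>
      simp only [SMat.inRange, List.all_cons, Bool.and_eq_true, decide_eq_true_eq] at hB
      rw [toMatrix_cons, mul_add, ← ihB hB.2, dif_pos hB.1]
      by_cases hab : a.1.2 = b.1.1
      · rw [List.filter_cons_of_pos (by simpa using hab), List.map_cons, toMatrix_cons]
        congr 1
        rw [dif_pos ⟨hA.1.1, hB.1.2⟩, Poly.eval_mul]
        have hk : (⟨a.1.2, hA.1.2⟩ : Fin N) = ⟨b.1.1, hB.1.1⟩ := Fin.ext hab
        rw [hk, Matrix.single_mul_single_same]
      · rw [List.filter_cons_of_neg (by simpa using hab),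
          Matrix.single_mul_single_of_ne _ (⟨a.1.1, hA.1.1⟩ : Fin N) (⟨a.1.2, hA.1.2⟩ : Fin N) (⟨b.1.1, hB.1.1⟩ : Fin N)
            (fun h => hab (congrArg Fin.val h)), zero_add]

include p in
lemma toMatrix_eq_of_beqMod [CharP R p] {A B : SMat} (h : A.beqMod p B = true) (N : ℕ) :
    A.toMatrix N t u = B.toMatrix N t u := by
  have hz : (A ++ B.neg).toMatrix N t u = 0 := by
    ext a b
    rw [toMatrix_apply, Matrix.zero_apply]
    rcases hl : (A ++ B.neg).filter (fun e => decide (e.1 = ((a : ℕ), (b : ℕ)))) with _ | ⟨e, l⟩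
    · simp [SMat.at', hl, Poly.eval_nil]
    · have he : e ∈ (A ++ B.neg).filter (fun e => decide (e.1 = ((a : ℕ), (b : ℕ)))) := by rw [hl]; simp
      obtain ⟨hmem, hkey⟩ := List.mem_filter.1 he
      have := List.all_eq_true.1 h e hmem
      rw [show e.1 = ((a : ℕ), (b : ℕ)) by simpa using hkey] at this
      exact Poly.eval_eq_zero t u this
  rw [toMatrix_append, toMatrix_neg] at hz
  exact eq_of_sub_eq_zero (by rw [sub_eq_add_neg]; exact hz)

end

end Cfsg.Agent.Lib.LieTwisted.Sparse
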