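import Cfsg.Agent.Lib.LieTwisted.SparseRoot

/-!
Collected sparse matrices: multiplication followed by merging of equal positions and equal
monomials, coefficients reduced mod p. Long words can then be compared in little memory.
-/

set_option autoImplicit false

namespace Cfsg.Agent.Lib.LieTwisted.Sparse

/-- Insert a monomial, adding to the coefficient of an equal one. -/
def insMon : (ℤ × ℕ × ℕ) → Poly → Poly
  | m, [] => [m]
  | m, n :: P => if m.2 = n.2 then (m.1 + n.1, n.2) :: P else n :: insMon m P

/-- Collect a polynomial and reduce its coefficients mod p. -/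
def Poly.collect (p : ℕ) (P : Poly) : Poly :=
  ((P.foldr insMon []).map fun m => (m.1 % (p : ℤ), m.2)).filter fun m => decide (m.1 ≠ 0)

/-- Insert a matrix entry, appending to the polynomial at an equal position. -/
def insEnt : ((ℕ × ℕ) × Poly) → SMat → SMat
  | e, [] => [e]
  | e, f :: A => if e.1 = f.1 then (f.1, e.2 ++ f.2) :: A else f :: insEnt e A

/-- Collect a sparse matrix. -/
def SMat.collect (p : ℕ) (A : SMat) : SMat :=
  ((A.foldr insEnt []).map fun e => (e.1, e.2.collect p)).filter fun e => !e.2.isEmpty

section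
variable {R : Type*} [CommRing R] (t u : R)

lemma eval_insMon (m : ℤ × ℕ × ℕ) (P : Poly) :
    Poly.eval (insMon m P) t u = Poly.eval (m :: P) t u := by
  induction P with
  | nil => rfl
  | cons n P ih =>
    rw [insMon]
    split_ifs with h
    · simp only [Poly.eval_cons, h]
      push_cast
      ring
    · rw [Poly.eval_cons, ih]
      simp only [Poly.eval_cons]
      ring

lemma eval_foldr_insMon (P : Poly) : Poly.eval (P.foldr insMon []) t u = P.eval t u := by
  induction P with
  | nil => rfl
  | cons m P ih => rw [List.foldr_cons, eval_insMon, Poly.eval_cons, ih, Poly.eval_cons]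

lemma eval_collect {p : ℕ} [CharP R p] (P : Poly) : (P.collect p).eval t u = P.eval t u := by
  rw [← eval_foldr_insMon t u P, Poly.collect]
  induction P.foldr insMon [] with
  | nil => rfl
  | cons m Q ih =>
    have hm : ((m.1 % (p : ℤ) : ℤ) : R) = (m.1 : R) := by
      conv_rhs => rw [← Int.emod_add_ediv_mul m.1 (p : ℤ)]
      rw [Int.cast_add, Int.cast_mul, Int.cast_natCast, CharP.cast_eq_zero R p, mul_zero, add_zero]
    rw [List.map_cons]
    by_cases h0 : m.1 % (p : ℤ) = 0
    · rw [List.filter_cons_of_neg (by simpa using h0), ih, Poly.eval_cons, ← hm, h0]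
      simp
    · rw [List.filter_cons_of_pos (by simpa using h0), Poly.eval_cons, ih, Poly.eval_cons, hm]

lemma toMatrix_insEnt (e : (ℕ × ℕ) × Poly) (A : SMat) (N : ℕ) :
    (insEnt e A).toMatrix N t u = SMat.toMatrix (e :: A) N t u := by
  induction A with
  | nil => rfl
  | cons f A ih =>
    rw [insEnt]
    split_ifs with h
    · simp only [toMatrix_cons]
      rw [← add_assoc]
      congr 1
      by_cases hf : f.1.1 < N ∧ f.1.2 < N
      · obtain ⟨k, P⟩ := e
        simp only at h
        subst h
        simp only [dif_pos hf, Poly.eval_append, Matrix.single_add]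
      · rw [dif_neg hf, dif_neg (h ▸ hf), dif_neg hf, add_zero]
    · rw [toMatrix_cons, ih]
      simp only [toMatrix_cons]
      abel

lemma toMatrix_collect {p : ℕ} [CharP R p] (A : SMat) (N : ℕ) :
    (A.collect p).toMatrix N t u = A.toMatrix N t u := by
  have h1 : SMat.toMatrix (A.foldr insEnt []) N t u = A.toMatrix N t u := by
    induction A with
    | nil => rfl
    | cons e A ih => rw [List.foldr_cons, toMatrix_insEnt, toMatrix_cons, ih, toMatrix_cons]
  rw [← h1, SMat.collect]
  induction A.foldr insEnt [] with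
  | nil => rfl
  | cons e B ih =>
    rw [List.map_cons]
    by_cases h0 : (e.2.collect p).isEmpty = true
    · rw [List.filter_cons_of_neg (by simpa using h0), ih, toMatrix_cons]
      have hz : e.2.eval t u = 0 := by
        rw [← eval_collect (p := p) t u e.2, List.isEmpty_iff.1 h0]
        rfl
      simp [hz]
    · rw [List.filter_cons_of_pos (by simpa using h0), toMatrix_cons, ih, toMatrix_cons, eval_collect]

lemma insEnt_inRange {e : (ℕ × ℕ) × Poly} {A : SMat} {N : ℕ} (he : e.1.1 < N ∧ e.1.2 < N)
    (hA : A.inRange N = true) : (insEnt e A).inRange N = true := by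
  induction A with
  | nil => simpa [insEnt, SMat.inRange] using he
  | cons f A ih =>
    simp only [SMat.inRange, List.all_cons, Bool.and_eq_true, decide_eq_true_eq] at hA ih
    rw [insEnt]
    split_ifs <;> simp only [SMat.inRange, List.all_cons, Bool.and_eq_true, decide_eq_true_eq]
    · exact hA
    · exact ⟨hA.1, ih hA.2⟩

lemma collect_inRange {p : ℕ} {A : SMat} {N : ℕ} (hA : A.inRange N = true) : (A.collect p).inRange N = true := by
  have h1 : (A.foldr insEnt []).inRange N = true := by
    induction A with
    | nil => rfl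
    | cons e A ih =>
      simp only [SMat.inRange, List.all_cons, Bool.and_eq_true, decide_eq_true_eq] at hA
      exact insEnt_inRange hA.1 (ih hA.2)
  simp only [SMat.inRange, List.all_eq_true] at h1 ⊢
  intro e he
  obtain ⟨x, hx, rfl⟩ := List.mem_map.1 (List.mem_filter.1 he).1
  exact h1 x hx

end

end Cfsg.Agent.Lib.LieTwisted.Sparse

namespace Cfsg.Agent.Lib.LieTwisted.SparseRoot

open Cfsg.Lie Sparse

variable (D : ChevalleyDatum)

/-- A word as a collected sparse matrix. -/
def wordC (p : ℕ) : List (ℕ × (ℤ × ℕ × ℕ)) → SMat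
  | [] => oneS D
  | e :: l => ((xS D e.1 e.2).mul (wordC p l)).collect p

lemma wordC_inRange {p : ℕ} : ∀ {w : List (ℕ × (ℤ × ℕ × ℕ))}, (∀ e ∈ w, wfRoot D e.1 = true) →
    (wordC D p w).inRange (dim D) = true
  | [], _ => oneS_inRange D
  | e :: l, h => collect_inRange (mul_inRange (xS_inRange D (h e (by simp)) e.2)
      (wordC_inRange fun x hx => h x (by simp [hx])))

lemma toFin_wordMatC {F : Type*} [Field F] (p : ℕ) [CharP F p] (t u : F) :
    ∀ {w : List (ℕ × (ℤ × ℕ × ℕ))}, (∀ e ∈ w, wfRoot D e.1 = true) →
    toFin D (D.wordMat F (evalWord w t u)) = (wordC D p w).toMatrix (dim D) t u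
  | [], h => toFin_wordMat D t u h
  | e :: l, h => by
    have h' : ∀ x ∈ l, wfRoot D x.1 = true := fun x hx => h x (by simp [hx])
    have hcons : D.wordMat F (evalWord (e :: l) t u) =
        D.x F e.1 ((e.2.1 : F) * t ^ e.2.2.1 * u ^ e.2.2.2) * D.wordMat F (evalWord l t u) := rfl
    rw [hcons, toFin_mul, toFin_wordMatC p t u h', toFin_x D (h e (by simp)) e.2 t u, wordC, toMatrix_collect,
      toMatrix_mul t u _ _ _ (xS_inRange D (h e (by simp)) e.2) (wordC_inRange D h')]

/-- Two words agree modulo `p` (collected products). -/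
def sameWordC (p : ℕ) (w w' : List (ℕ × (ℤ × ℕ × ℕ))) : Bool :=
  (w.all fun e => wfRoot D e.1) && (w'.all fun e => wfRoot D e.1) && (wordC D p w).beqMod p (wordC D p w')

theorem wordMat_eq_of_sameWordC {F : Type*} [Field F] (p : ℕ) [CharP F p]
    {w w' : List (ℕ × (ℤ × ℕ × ℕ))} (h : sameWordC D p w w' = true) (t u : F) :
    D.wordMat F (evalWord w t u) = D.wordMat F (evalWord w' t u) := by
  simp only [sameWordC, Bool.and_eq_true, List.all_eq_true] at h
  obtain ⟨⟨h1, h2⟩, h3⟩ := h
  apply toFin_injective D
  rw [toFin_wordMatC D p t u h1, toFin_wordMatC D p t u h2]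
  exact toMatrix_eq_of_beqMod t u h3 (dim D)

end Cfsg.Agent.Lib.LieTwisted.SparseRoot
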