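import Cfsg.Agent.Lib.LieTwisted.Sparse
import Cfsg.Agent.Lib.LieTwisted.GraphAut

/-!
The root matrices `x_r(c tᵃ uᵇ)` of a Chevalley datum as sparse polynomial matrices, so that
identities between words in root elements can be checked in the kernel.
-/

set_option autoImplicit false

namespace Cfsg.Agent.Lib.LieTwisted.SparseRoot

open Cfsg.Lie Sparse GraphAut

variable (D : ChevalleyDatum)

/-- The dimension of the adjoint module. -/
def dim : ℕ := D.rank + D.nroots

/-- `x_r(c tᵃ uᵇ)` as a sparse matrix (coordinates: coroots first). -/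
def xS (r : ℕ) (m : ℤ × ℕ × ℕ) : SMat :=
  ((List.range (dim D)).map fun k => (((k, k) : ℕ × ℕ), ([(1, 0, 0)] : Poly))) ++
  ((List.range D.rank).map fun i => ((D.rank + r, i), [(-(D.cartan i r) * m.1, m.2.1, m.2.2)])) ++
  ((List.range D.rank).map fun i =>
      ((i, D.rank + D.neg r), [((D.coroot.getD r #[]).getD i 0 * m.1, m.2.1, m.2.2)])) ++
  [((D.rank + r, D.rank + D.neg r), [(-(m.1 * m.1), 2 * m.2.1, 2 * m.2.2)])] ++
  ((flat D r).map fun e =>
      ((D.rank + e.1.2, D.rank + e.1.1), [(e.2.2 * m.1 ^ e.2.1, e.2.1 * m.2.1, e.2.1 * m.2.2)]))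

/-- The table of the root `r` is well formed. -/
def wfRoot (r : ℕ) : Bool :=
  decide (r < D.nroots) && decide (D.neg r < D.nroots) && decide (D.neg r ≠ r) &&
  (flat D r).all fun e => decide (e.1.1 < D.nroots ∧ e.1.2 < D.nroots ∧ e.1.1 ≠ r ∧ e.1.1 ≠ D.neg r)

lemma xS_inRange {r : ℕ} (h : wfRoot D r = true) (m : ℤ × ℕ × ℕ) : (xS D r m).inRange (dim D) = true := by
  simp only [wfRoot, Bool.and_eq_true, decide_eq_true_eq, List.all_eq_true] at h
  obtain ⟨⟨⟨h1, h2⟩, -⟩, h4⟩ := h
  simp only [SMat.inRange, List.all_eq_true, decide_eq_true_eq, xS, List.mem_append, List.mem_map,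
    List.mem_range, List.mem_singleton, dim]
  rintro e ((((⟨k, hk, rfl⟩ | ⟨i, hi, rfl⟩) | ⟨i, hi, rfl⟩) | rfl) | ⟨x, hx, rfl⟩) <;> simp
  · omega
  · omega
  · omega
  · omega
  · have := h4 x hx
    omega

/-- The coordinates, coroots first. -/
def idxFin : D.Idx ≃ Fin (dim D) := finSumFinEquiv

@[simp] lemma idxFin_inl (i : Fin D.rank) : ((idxFin D (Sum.inl i) : Fin (dim D)) : ℕ) = i := rfl

@[simp] lemma idxFin_inr (s : Fin D.nroots) : ((idxFin D (Sum.inr s) : Fin (dim D)) : ℕ) = D.rank + s := rfl

section
variable {F : Type*} [Field F]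

lemma entry_eq_sum (A : SMat) (t u : F) {N : ℕ} (a b : Fin N) :
    A.toMatrix N t u a b = (A.map fun e => if e.1 = ((a : ℕ), (b : ℕ)) then e.2.eval t u else 0).sum := by
  induction A with
  | nil => simp [toMatrix_nil]
  | cons e A ih =>
    rw [toMatrix_cons, Matrix.add_apply, ih, List.map_cons, List.sum_cons]
    congr 1
    by_cases he : e.1 = ((a : ℕ), (b : ℕ))
    · rw [if_pos he, dif_pos (by rw [he]; exact ⟨a.2, b.2⟩)]
      simp [he]
    · rw [if_neg he]
      split_ifs with h
      · rw [Matrix.single_apply, if_neg (fun hh => he (Prod.ext (congrArg Fin.val hh.1) (congrArg Fin.val hh.2)))]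
      · simp

lemma sum_range_single (n : ℕ) (key : ℕ → ℕ × ℕ) (f : ℕ → F) (k : ℕ × ℕ) (i : ℕ) (hi : i < n)
    (hkey : ∀ j < n, key j = k ↔ j = i) :
    ((List.range n).map fun j => if key j = k then f j else 0).sum = f i := by
  rw [show ((List.range n).map fun j => if key j = k then f j else 0).sum =
      ∑ j ∈ Finset.range n, (if key j = k then f j else 0) from rfl]
  rw [Finset.sum_eq_single i]
  · rw [if_pos ((hkey i hi).2 rfl)]
  · intro j hj hne
    rw [if_neg fun he => hne ((hkey j (Finset.mem_range.1 hj)).1 he)]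
  · exact fun he => absurd (Finset.mem_range.2 hi) he

lemma sum_eq_zero_of {α : Type*} (l : List α) (key : α → ℕ × ℕ) (f : α → F) (k : ℕ × ℕ)
    (h : ∀ j ∈ l, key j ≠ k) : (l.map fun j => if key j = k then f j else 0).sum = 0 :=
  List.sum_eq_zero (by
    intro x hx
    obtain ⟨j, hj, rfl⟩ := List.mem_map.1 hx
    rw [if_neg (h j hj)])

/-- Reindexing of the adjoint coordinates by `Fin (dim D)`. -/
def toFin (M : Matrix D.Idx D.Idx F) : Matrix (Fin (dim D)) (Fin (dim D)) F :=
  M.submatrix (idxFin D).symm (idxFin D).symm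

lemma toFin_mul (A B : Matrix D.Idx D.Idx F) : toFin D (A * B) = toFin D A * toFin D B := by
  exact (Matrix.submatrix_mul_equiv A B _ _ _).symm

lemma toFin_one : toFin D (1 : Matrix D.Idx D.Idx F) = 1 := by
  exact Matrix.submatrix_one_equiv _

lemma toFin_injective : Function.Injective (toFin D (F := F)) := by
  intro A B h
  ext a b
  have := congrFun (congrFun h ((idxFin D) a)) ((idxFin D) b)
  simpa only [toFin, Matrix.submatrix_apply, Equiv.symm_apply_apply] using this

lemma toFin_x {r : ℕ} (h : wfRoot D r = true) (m : ℤ × ℕ × ℕ) (t u : F) :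
    toFin D (D.x F r ((m.1 : F) * t ^ m.2.1 * u ^ m.2.2)) = (xS D r m).toMatrix (dim D) t u := by
  have hr' := h
  simp only [wfRoot, Bool.and_eq_true, decide_eq_true_eq, List.all_eq_true] at hr'
  obtain ⟨⟨⟨hr, hn⟩, hne⟩, hflat⟩ := hr'
  have hn' : D.negIdx.getD r 0 = D.neg r := rfl
  ext a b
  obtain ⟨a, rfl⟩ := (idxFin D).surjective a
  obtain ⟨b, rfl⟩ := (idxFin D).surjective b
  simp only [toFin, Matrix.submatrix_apply, Equiv.symm_apply_apply]
  rw [entry_eq_sum]
  simp only [xS, List.map_append, List.sum_append, List.map_map, Function.comp_def, List.map_cons, List.map_nil,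
    List.sum_cons, List.sum_nil, add_zero]
  simp only [ChevalleyDatum.x, dif_pos hr, ChevalleyDatum.xMat, Matrix.of_apply, hn', Fin.ext_iff]
  rcases b with i | s
  · have e5 : ((flat D r).map fun e => if ((D.rank + e.1.2, D.rank + e.1.1) : ℕ × ℕ) =
        (((idxFin D) a : ℕ), ((idxFin D) (Sum.inl i) : ℕ)) then
        Poly.eval [(e.2.2 * m.1 ^ e.2.1, e.2.1 * m.2.1, e.2.1 * m.2.2)] t u else 0).sum = 0 :=
      sum_eq_zero_of _ _ _ _ fun e he hk => by
        have := congrArg Prod.snd hk
        simp at this
        omega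
    rw [e5, if_neg (by
      intro hk
      have := congrArg Prod.snd hk
      simp at this
      omega), sum_eq_zero_of (List.range D.rank) (fun j => ((j, D.rank + D.neg r) : ℕ × ℕ)) _ _ fun j _ hk => by
        have := congrArg Prod.snd hk
        simp at this
        omega]
    rcases a with i' | v
    · rw [sum_eq_zero_of (List.range D.rank) (fun j => ((D.rank + r, j) : ℕ × ℕ)) _ _ fun j _ hk => by
        have := congrArg Prod.fst hk
        simp at this
        omega]
      by_cases hii : (i' : ℕ) = i
      · rw [sum_range_single (dim D) (fun k => ((k, k) : ℕ × ℕ)) _ _ i (by simp only [dim]; omega)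
          (fun j _ => by simp [hii])]
        simp [hii, Poly.eval]
      · rw [sum_eq_zero_of (List.range (dim D)) (fun k => ((k, k) : ℕ × ℕ)) _ _ fun j _ hk => by
          simp at hk
          omega]
        simp [hii]
    · rw [sum_eq_zero_of (List.range (dim D)) (fun k => ((k, k) : ℕ × ℕ)) _ _ fun j _ hk => by
          simp at hk
          omega]
      by_cases hv : (v : ℕ) = r
      · rw [sum_range_single D.rank (fun j => ((D.rank + r, j) : ℕ × ℕ)) _ _ i i.2
          (fun j _ => by simp [hv])]
        simp [hv, Poly.eval, ChevalleyDatum.cartan]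
        ring
      · rw [sum_eq_zero_of (List.range D.rank) (fun j => ((D.rank + r, j) : ℕ × ℕ)) _ _ fun j _ hk => by
          simp at hk
          omega]
        simp [hv]
  · rw [sum_eq_zero_of (List.range D.rank) (fun j => ((D.rank + r, j) : ℕ × ℕ)) _ _ fun j hj hk => by
        rw [List.mem_range] at hj
        simp at hk
        omega]
    dsimp only
    by_cases hsr : (s : ℕ) = r
    · rw [if_pos hsr, sum_eq_zero_of (List.range D.rank) (fun j => ((j, D.rank + D.neg r) : ℕ × ℕ)) _ _ fun j hj hk => by
          simp at hk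
          omega, if_neg (by simp; omega), sum_eq_zero_of (flat D r) _ _ _ fun e he hk => by
          have := hflat e he
          simp at hk
          omega]
      rcases a with i' | v
      · rw [sum_eq_zero_of (List.range (dim D)) (fun k => ((k, k) : ℕ × ℕ)) _ _ fun j _ hk => by
          simp at hk
          omega]
        simp
      · by_cases hv : (v : ℕ) = r
        · rw [sum_range_single (dim D) (fun k => ((k, k) : ℕ × ℕ)) _ _ (D.rank + r) (by simp only [dim]; omega)
            (fun j _ => by simp [hv, hsr])]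
          simp [hv, Poly.eval]
        · rw [sum_eq_zero_of (List.range (dim D)) (fun k => ((k, k) : ℕ × ℕ)) _ _ fun j _ hk => by
            simp at hk
            omega]
          simp [hv]
    rw [if_neg hsr]
    by_cases hsn : (s : ℕ) = D.neg r
    · rw [if_pos hsn, sum_eq_zero_of ((flat D r)) _ _ _ fun e he hk => by
          have := hflat e he
          simp at hk
          omega]
      rcases a with i' | v
      · rw [sum_eq_zero_of (List.range (dim D)) (fun k => ((k, k) : ℕ × ℕ)) _ _ fun j _ hk => by
            simp at hk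
            omega,
          sum_range_single D.rank (fun j => ((j, D.rank + D.neg r) : ℕ × ℕ)) _ _ i' i'.2
            (fun j _ => by simp [hsn]), if_neg (by simp; omega)]
        simp [Poly.eval]
        ring
      · rw [sum_eq_zero_of (List.range D.rank) (fun j => ((j, D.rank + D.neg r) : ℕ × ℕ)) _ _ fun j hj hk => by
            rw [List.mem_range] at hj
            simp at hk
            omega]
        by_cases hvs : (v : ℕ) = s
        · rw [sum_range_single (dim D) (fun k => ((k, k) : ℕ × ℕ)) _ _ (D.rank + s) (by simp only [dim]; omega)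
            (fun j _ => by simp [hvs]), if_neg (by simp; omega)]
          simp [hvs, Poly.eval]
        · rw [sum_eq_zero_of (List.range (dim D)) (fun k => ((k, k) : ℕ × ℕ)) _ _ fun j _ hk => by
            simp at hk
            omega]
          by_cases hvr : (v : ℕ) = r
          · simp [hvs, hvr, hsn, Poly.eval, show r ≠ D.neg r from fun h => hne h.symm]
            ring
          · simp [hvs, hvr, Ne.symm hvr]
    rw [if_neg hsn, sum_eq_zero_of (List.range D.rank) (fun j => ((j, D.rank + D.neg r) : ℕ × ℕ)) _ _ fun j hj hk => by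
        simp at hk
        omega, if_neg (by simp; omega)]
    rcases a with i' | v
    · rw [sum_eq_zero_of (List.range (dim D)) (fun k => ((k, k) : ℕ × ℕ)) _ _ fun j _ hk => by
          simp at hk
          omega, sum_eq_zero_of (flat D r) _ _ _ fun e he hk => by
          simp at hk
          omega]
      simp
    simp only [add_zero]
    congr 1
    · by_cases hvs : (v : ℕ) = s
      · rw [if_pos hvs, sum_range_single (dim D) (fun k => ((k, k) : ℕ × ℕ)) _ _ (D.rank + s) (by simp only [dim]; omega)
          (fun j _ => by simp [hvs])]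
        simp [Poly.eval]
      · rw [if_neg hvs, sum_eq_zero_of (List.range (dim D)) (fun k => ((k, k) : ℕ × ℕ)) _ _ fun j _ hk => by
            simp at hk
            omega]
    rw [chainCoeff_eq, List.map_map]
    induction flat D r with
    | nil => simp
    | cons e l ih =>
      by_cases he : e.1 = ((s : ℕ), (v : ℕ))
      · rw [List.filter_cons_of_pos (by simpa using he), List.map_cons, List.sum_cons, ih, List.map_cons,
          List.sum_cons, if_pos (by simp [he])]
        simp [Poly.eval, mul_pow, ← pow_mul, mul_comm e.2.1]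
        ring
      · rw [List.filter_cons_of_neg (by simpa using he), ih, List.map_cons, List.sum_cons, if_neg (by
          intro hk
          simp at hk
          exact he (Prod.ext hk.2 hk.1)), zero_add]

end

end Cfsg.Agent.Lib.LieTwisted.SparseRoot

namespace Cfsg.Agent.Lib.LieTwisted.SparseRoot

open Cfsg.Lie Sparse

variable (D : ChevalleyDatum)

/-- The identity matrix as a sparse matrix. -/
def oneS : SMat := (List.range (dim D)).map fun k => (((k, k) : ℕ × ℕ), ([(1, 0, 0)] : Poly))

/-- A word `[(r, c tᵃ uᵇ), …]` as a sparse matrix. -/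
def wordS : List (ℕ × (ℤ × ℕ × ℕ)) → SMat
  | [] => oneS D
  | [p] => xS D p.1 p.2
  | p :: q :: l => (xS D p.1 p.2).mul (wordS (q :: l))

lemma oneS_inRange : (oneS D).inRange (dim D) = true := by
  simp [SMat.inRange, oneS]

lemma mul_inRange {A B : SMat} {N : ℕ} (hA : A.inRange N = true) (hB : B.inRange N = true) :
    (A.mul B).inRange N = true := by
  simp only [SMat.inRange, List.all_eq_true, decide_eq_true_eq] at hA hB ⊢
  intro e he
  simp only [SMat.mul, List.mem_flatMap, List.mem_map, List.mem_filter] at he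
  obtain ⟨a, ha, b, ⟨hb, -⟩, rfl⟩ := he
  exact ⟨(hA a ha).1, (hB b hb).2⟩

lemma wordS_inRange : ∀ {w : List (ℕ × (ℤ × ℕ × ℕ))}, (∀ p ∈ w, wfRoot D p.1 = true) →
    (wordS D w).inRange (dim D) = true
  | [], _ => oneS_inRange D
  | [p], h => xS_inRange D (h p (by simp)) p.2
  | p :: q :: l, h => by
    rw [wordS]
    exact mul_inRange (xS_inRange D (h p (by simp)) p.2) (wordS_inRange fun x hx => h x (by simp at hx ⊢; tauto))

/-- The value of a symbolic word at `(t, u)`. -/
def evalWord {F : Type*} [Field F] (w : List (ℕ × (ℤ × ℕ × ℕ))) (t u : F) : List (ℕ × F) :=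
  w.map fun p => (p.1, (p.2.1 : F) * t ^ p.2.2.1 * u ^ p.2.2.2)

lemma toFin_wordMat {F : Type*} [Field F] (t u : F) : ∀ {w : List (ℕ × (ℤ × ℕ × ℕ))},
    (∀ p ∈ w, wfRoot D p.1 = true) →
    toFin D (D.wordMat F (evalWord w t u)) = (wordS D w).toMatrix (dim D) t u
  | [], _ => by
    simp only [ChevalleyDatum.wordMat, evalWord, List.map_nil, List.prod_nil, toFin_one, wordS]
    ext a b
    rw [entry_eq_sum]
    simp only [oneS, List.map_map, Function.comp_def]
    by_cases hab : a = b
    · subst hab
      rw [sum_range_single (dim D) (fun k => ((k, k) : ℕ × ℕ)) _ _ a a.2 (fun j _ => by simp)]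
      simp [Poly.eval]
    · rw [sum_eq_zero_of (List.range (dim D)) (fun k => ((k, k) : ℕ × ℕ)) _ _ fun j _ hk => by
        simp at hk
        exact hab (Fin.ext (by omega)), Matrix.one_apply_ne hab]
  | [p], h => by
    simp only [ChevalleyDatum.wordMat, evalWord, List.map_cons, List.map_nil, List.prod_cons, List.prod_nil, mul_one]
    exact toFin_x D (h p (by simp)) p.2 t u
  | p :: q :: l, h => by
    have h' : ∀ x ∈ q :: l, wfRoot D x.1 = true := fun x hx => h x (by simp at hx ⊢; tauto)
    have ih := toFin_wordMat t u h'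
    have hcons : D.wordMat F (evalWord (p :: q :: l) t u) =
        D.x F p.1 ((p.2.1 : F) * t ^ p.2.2.1 * u ^ p.2.2.2) * D.wordMat F (evalWord (q :: l) t u) := rfl
    rw [hcons, toFin_mul, ih, toFin_x D (h p (by simp)) p.2 t u, wordS,
      toMatrix_mul t u _ _ _ (xS_inRange D (h p (by simp)) p.2) (wordS_inRange D h')]

/-- Two words agree modulo `p`. -/
def sameWord (p : ℕ) (w w' : List (ℕ × (ℤ × ℕ × ℕ))) : Bool :=
  (w.all fun e => wfRoot D e.1) && (w'.all fun e => wfRoot D e.1) && (wordS D w).beqMod p (wordS D w')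

theorem wordMat_eq_of_sameWord {F : Type*} [Field F] (p : ℕ) [CharP F p]
    {w w' : List (ℕ × (ℤ × ℕ × ℕ))} (h : sameWord D p w w' = true) (t u : F) :
    D.wordMat F (evalWord w t u) = D.wordMat F (evalWord w' t u) := by
  simp only [sameWord, Bool.and_eq_true, List.all_eq_true] at h
  obtain ⟨⟨h1, h2⟩, h3⟩ := h
  apply toFin_injective D
  rw [toFin_wordMat D t u h1, toFin_wordMat D t u h2]
  exact toMatrix_eq_of_beqMod t u h3 (dim D)

end Cfsg.Agent.Lib.LieTwisted.SparseRoot
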